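import Cfsg.Agent.FiFour.Cover
import Cfsg.Prelude.Def_Sporadic

/-!
The subgroup of index two is simple of the expected order.
-/

set_option autoImplicit false
set_option maxRecDepth 100000

namespace Cfsg.Lib.FiFour

open Cfsg.Lib.CosetCert

attribute [local irreducible] rowF sevF lonF blkMask

instance finite_group : Finite Cfsg.Spor.Fi24 := by
  haveI : (lgp im lamT).FiniteIndex := ⟨by rw [index_eleven]; norm_num⟩
  haveI : Finite (Cfsg.Spor.Fi24 ⧸ lgp im lamT) := inferInstance
  exact Finite.of_equiv _ (lgp im lamT).groupEquivQuotientProdSubgroup.symm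

theorem card_group : Nat.card Cfsg.Spor.Fi24 = 2 * 1255205709190661721292800 := by
  rw [← Subgroup.card_mul_index (lgp im lamT), index_eleven, eleven_facts.2.1]

theorem psiF_injective : Function.Injective psiF := by
  refine (injective_iff_map_eq_one psiF).2 fun g hg => eleven_faithful g ?_ hg
  rw [← stab_first, MulAction.mem_stabilizer_iff, smul_pts, hg]
  rfl

theorem eq_one_of_fix {g : Cfsg.Spor.Fi24} (h : ∀ p : Pts, g • p = p) : g = 1 :=
  psiF_injective ((Equiv.ext h).trans (map_one psiF).symm)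

/-- The subgroup of index two. -/
def evenPart : Subgroup Cfsg.Spor.Fi24 := chi.ker

theorem evenPart_index : evenPart.index = 2 := by
  rw [evenPart, Subgroup.index_ker]
  have e : chi.range = ⊤ := by
    refine eq_top_iff.2 fun u _ => ?_
    rcases Int.units_eq_one_or u with rfl | rfl
    · exact one_mem _
    · exact ⟨im 10, chi_im (by norm_num)⟩
  rw [e, Subgroup.card_top, Nat.card_eq_fintype_card, Fintype.card_units_int]

theorem card_even : Nat.card evenPart = 1255205709190661721292800 := by
  have h := Subgroup.card_mul_index evenPart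
  rw [evenPart_index, card_group] at h
  omega

theorem even_fix_letter {x : ℕ} (hx : x < 12) : im x ∉ evenPart := fun h => by
  rw [evenPart, MonoidHom.mem_ker, chi_im hx] at h
  exact absurd h (by decide)

theorem even_fix {g : Cfsg.Spor.Fi24} {x : ℕ} (hx : x < 11) :
    g ∈ lgp im lamT → g ∈ evenPart ∨ g * im x ∈ evenPart := by
  intro _
  rcases Int.units_eq_one_or (chi g) with h | h
  · exact Or.inl h
  · refine Or.inr ?_
    rw [evenPart, MonoidHom.mem_ker, map_mul, h, chi_im (by omega)]
    rfl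

/-- The suborbits of the even stabiliser. -/
theorem even_suborbit {p q : Pts} (h : (31672 ≤ p.val ∧ 31672 ≤ q.val) ∨
    (1 ≤ p.val ∧ p.val ≤ 31671 ∧ 1 ≤ q.val ∧ q.val ≤ 31671)) :
    ∃ k ∈ evenPart, k • p0 = p0 ∧ k • p = q := by
  have key : ∀ {g : Cfsg.Spor.Fi24} {x : ℕ}, g ∈ lgp im lamT → x < 11 → im x • p = p → g • p = q →
      ∃ k ∈ evenPart, k • p0 = p0 ∧ k • p = q := by
    intro g x hg hx hfix e
    rcases even_fix (x := x) hx hg with h | h
    · exact ⟨g, h, eleven_fix hg, e⟩
    · exact ⟨g * im x, h, eleven_fix (mul_mem hg (lgp_mem im (eleven_val hx))), by rw [mul_smul, hfix, e]⟩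
  rcases h with ⟨h1, h2⟩ | ⟨h1, h2, h3, h4⟩
  · obtain ⟨a, ha⟩ := large_reach p h1
    obtain ⟨b, hb⟩ := large_reach q h2
    have ha' : a.1 • pA = p := ha
    have hb' : b.1 • pA = q := hb
    have hfix : (a.1 * im 1 * a.1⁻¹) • p = p := by
      rw [mul_smul, mul_smul, ← ha', inv_smul_smul, block_fix (lgp_mem im (by decide))]
    have e : (b.1 * a.1⁻¹) • p = q := by rw [mul_smul, ← ha', inv_smul_smul, hb']
    rcases Int.units_eq_one_or (chi (b.1 * a.1⁻¹)) with h | h
    · exact ⟨_, h, eleven_fix (mul_mem b.2 (inv_mem a.2)), e⟩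
    · refine ⟨b.1 * a.1⁻¹ * (a.1 * im 1 * a.1⁻¹), ?_, eleven_fix (mul_mem (mul_mem b.2 (inv_mem a.2))
        (mul_mem (mul_mem a.2 (lgp_mem im (by decide))) (inv_mem a.2))), by rw [mul_smul, hfix, e]⟩
      rw [evenPart, MonoidHom.mem_ker, map_mul, h, map_mul, map_mul, map_inv, mul_inv_cancel_comm,
        chi_im (by norm_num)]
      rfl
  · haveI := Cfsg.Lib.FiTwenty.transitive
    obtain ⟨f, hf⟩ := MulAction.exists_smul_eq Cfsg.Spor.Fi23 (⟨p.val - 1, by omega⟩ : Fin 31671) ⟨q.val - 1, by omega⟩
    obtain ⟨g, hg⟩ := down_surjective f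
    have ep : p = emb ⟨p.val - 1, by omega⟩ := Fin.ext (show p.val = p.val - 1 + 1 by omega)
    refine key g.2 (show 10 < 11 by norm_num) ?_ ?_
    · rw [ep, agrees_ten, map_one]
      rfl
    · rw [ep, down_agrees g, hg]
      exact Fin.ext (show (Cfsg.Lib.FiTwenty.psi f ⟨p.val - 1, _⟩ : Fin 31671).val + 1 = q.val by
        rw [show Cfsg.Lib.FiTwenty.psi f _ = _ from hf]; show q.val - 1 + 1 = q.val; omega)

theorem even_transitive (p : Pts) : ∃ g ∈ evenPart, g • p0 = p := by
  haveI := transitive
  obtain ⟨g, hg⟩ := MulAction.exists_smul_eq Cfsg.Spor.Fi24 p0 p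
  rcases Int.units_eq_one_or (chi g) with h | h
  · exact ⟨g, h, hg⟩
  · refine ⟨g * im 10, ?_, by rw [mul_smul, eleven_fix (lgp_mem im (by decide)), hg]⟩
    rw [evenPart, MonoidHom.mem_ker, map_mul, h, chi_im (by norm_num)]
    rfl

/-- The even stabiliser of the first point. -/
noncomputable def evenStab : Subgroup evenPart := MulAction.stabilizer evenPart p0

theorem mem_evenStab {g : evenPart} : g ∈ evenStab ↔ g.1 • p0 = p0 := Iff.rfl

theorem evenStab_simple : IsSimpleGroup evenStab := by
  have hmem : ∀ g : evenStab, g.1.1 ∈ lgp im lamT := fun g => by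
    rw [← stab_first]
    exact MulAction.mem_stabilizer_iff.2 (mem_evenStab.1 g.2)
  let f : evenStab →* Cfsg.Spor.Fi23 :=
    { toFun := fun g => down ⟨g.1.1, hmem g⟩
      map_one' := map_one down
      map_mul' := fun a b => map_mul down ⟨a.1.1, hmem a⟩ ⟨b.1.1, hmem b⟩ }
  have hinj : Function.Injective f := (injective_iff_map_eq_one f).2 fun g hg => by
    rcases eleven_facts.2.2 ⟨g.1.1, hmem g⟩ hg with e | e
    · exact Subtype.ext (Subtype.ext (congrArg (fun y : lgp im lamT => y.1) e))
    · exact absurd g.1.2 (by rw [show g.1.1 = im 10 from congrArg Subtype.val e]; exact even_fix_letter (by norm_num))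
  have hsurj : Function.Surjective f := fun y => by
    obtain ⟨⟨g, hg⟩, rfl⟩ := down_surjective y
    rcases even_fix (x := 10) (by norm_num) hg with h | h
    · exact ⟨⟨⟨g, h⟩, eleven_fix hg⟩, rfl⟩
    · refine ⟨⟨⟨g * im 10, h⟩, eleven_fix (mul_mem hg (lgp_mem im (by decide)))⟩, ?_⟩
      show down (⟨g, hg⟩ * zT) = _
      rw [map_mul, show down zT = 1 from down_eq agrees_ten, mul_one]
  haveI : IsSimpleGroup Cfsg.Spor.Fi23 := Cfsg.Lib.FiTwenty.simple_fi
  exact MulEquiv.isSimpleGroup (MulEquiv.ofBijective f ⟨hinj, hsurj⟩)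

theorem evenStab_maximal {M : Subgroup evenPart} (hM : evenStab ≤ M) (hne : ¬ M ≤ evenStab) : M = ⊤ := by
  set O : Set Pts := MulAction.orbit M p0 with hO
  have hcard : O.ncard * M.index = 306936 := by
    have h := Subgroup.relIndex_mul_index hM
    have e : MulAction.stabilizer M p0 = evenStab.subgroupOf M := rfl
    have hi : evenStab.index = 306936 := by
      haveI : MulAction.IsPretransitive evenPart Pts := ⟨fun a b => by
        obtain ⟨g, hg, ha⟩ := even_transitive a
        obtain ⟨g', hg', hb⟩ := even_transitive b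
        refine ⟨⟨g', hg'⟩ * ⟨g, hg⟩⁻¹, ?_⟩
        show (g' * g⁻¹) • a = b
        rw [mul_smul, ← ha, inv_smul_smul, hb]⟩
      rw [evenStab, MulAction.index_stabilizer, MulAction.orbit_eq_univ, Set.ncard_univ, Nat.card_fin]
    rw [Subgroup.relIndex, ← e, MulAction.index_stabilizer, hi] at h
    exact h
  have hext : ∀ {p q : Pts}, p ∈ O → ((31672 ≤ p.val ∧ 31672 ≤ q.val) ∨
      (1 ≤ p.val ∧ p.val ≤ 31671 ∧ 1 ≤ q.val ∧ q.val ≤ 31671)) → q ∈ O := by
    intro p q hp h
    obtain ⟨k, hk, hk0, hkq⟩ := even_suborbit h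
    exact hkq ▸ MulAction.mem_orbit_of_mem_orbit (⟨⟨k, hk⟩, hM hk0⟩ : M) hp
  obtain ⟨g, hgM, hgS⟩ := SetLike.not_le_iff_exists.1 hne
  have hgO : g.1 • p0 ∈ O := ⟨⟨g, hgM⟩, rfl⟩
  have hg0 : g.1 • p0 ≠ p0 := hgS
  have hzero : ∀ p : Pts, p ≠ p0 → 1 ≤ p.val := fun p hp => Nat.pos_of_ne_zero fun e => hp (Fin.ext e)
  have huniv : O = Set.univ := by
    by_cases hA : ∃ p ∈ O, 31672 ≤ p.val
    · by_cases hB : ∃ p ∈ O, 1 ≤ p.val ∧ p.val ≤ 31671
      · obtain ⟨a, ha, ha'⟩ := hA
        obtain ⟨b, hb, hb1, hb2⟩ := hB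
        refine Set.eq_univ_of_forall fun q => ?_
        by_cases h0 : q = p0
        · exact h0 ▸ MulAction.mem_orbit_self _
        rcases Nat.lt_or_ge q.val 31672 with h | h
        · exact hext hb (Or.inr ⟨hb1, hb2, hzero q h0, by omega⟩)
        · exact hext ha (Or.inl ⟨ha', h⟩)
      · exfalso
        obtain ⟨a, ha, ha'⟩ := hA
        have e : O = insert p0 {q : Pts | 31672 ≤ q.val} := Set.Subset.antisymm (fun q hq => by
            by_cases h0 : q = p0
            · exact Or.inl h0
            · refine Or.inr ?_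
              by_contra hc
              exact hB ⟨q, hq, hzero q h0, by simp only [Set.mem_setOf_eq] at hc; omega⟩)
          (Set.insert_subset (MulAction.mem_orbit_self _) fun q hq => hext ha (Or.inl ⟨ha', hq⟩))
        have hn : {q : Pts | 31672 ≤ q.val}.ncard = 275264 := by
          let F : Fin 275264 → {q : Pts | 31672 ≤ q.val} := fun i =>
            ⟨⟨31672 + i.val, by have := i.isLt; omega⟩, Nat.le_add_right 31672 i.val⟩
          have hF : Function.Bijective F := by
            refine ⟨fun a b h => Fin.ext (by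
              have := congrArg (fun y : {q : Pts | 31672 ≤ q.val} => y.1.val) h
              simp only [F] at this
              omega), fun q => ⟨⟨q.1.val - 31672, by have := q.1.isLt; omega⟩, Subtype.ext (Fin.ext ?_)⟩⟩
            have h2 : 31672 ≤ q.1.val := q.2
            show 31672 + (q.1.val - 31672) = q.1.val
            omega
          rw [← Nat.card_coe_set_eq, ← Nat.card_eq_of_bijective F hF, Nat.card_fin]
        have hO : O.ncard = 275265 := by
          have hp0 : p0 ∉ {q : Pts | 31672 ≤ q.val} := fun h => absurd (show 31672 ≤ (0 : ℕ) from h) (by norm_num)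
          rw [e, Set.ncard_insert_of_notMem hp0, hn]
        rw [hO] at hcard
        omega
    · exfalso
      have hb1 := hzero _ hg0
      have hb2 : (g.1 • p0).val ≤ 31671 := by
        by_contra hc
        exact hA ⟨_, hgO, by omega⟩
      have e : O = {q : Pts | q.val ≤ 31671} := Set.Subset.antisymm (fun q hq => by
          show q.val ≤ 31671
          by_contra hc
          exact hA ⟨q, hq, by omega⟩)
        fun q hq => by
          by_cases h0 : q = p0
          · exact h0 ▸ MulAction.mem_orbit_self _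
          · exact hext hgO (Or.inr ⟨hb1, hb2, hzero q h0, hq⟩)
      have hn : {q : Pts | q.val ≤ 31671}.ncard = 31672 := by
        let F : Fin 31672 → {q : Pts | q.val ≤ 31671} := fun i =>
          ⟨⟨i.val, by have := i.isLt; omega⟩, Nat.le_of_lt_succ i.isLt⟩
        have hF : Function.Bijective F := by
          refine ⟨fun a b h => Fin.ext (congrArg (fun y : {q : Pts | q.val ≤ 31671} => y.1.val) h),
            fun q => ⟨⟨q.1.val, Nat.lt_succ_of_le q.2⟩, rfl⟩⟩
        rw [← Nat.card_coe_set_eq, ← Nat.card_eq_of_bijective F hF, Nat.card_fin]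
      rw [← e] at hn
      rw [hn] at hcard
      omega
  refine Subgroup.index_eq_one.1 ?_
  rw [huniv, Set.ncard_univ, Nat.card_fin] at hcard
  omega

theorem simple_even : IsSimpleGroup evenPart := by
  haveI := evenStab_simple
  haveI : Nontrivial evenPart := Finite.one_lt_card_iff_nontrivial.1 (by rw [card_even]; norm_num)
  refine ⟨fun N hN => ?_⟩
  by_cases hN1 : N = ⊥
  · exact Or.inl hN1
  right
  haveI := hN
  have hfix : ∀ n : evenPart, n ∈ N → N ≤ evenStab → n = 1 := fun n hn hle => by
    refine Subtype.ext (eq_one_of_fix fun p => ?_)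
    obtain ⟨g, hg, rfl⟩ := even_transitive p
    have : (g⁻¹ * n.1 * g) • p0 = p0 := mem_evenStab.1 (hle (hN.conj_mem' n hn ⟨g, hg⟩))
    rw [mul_smul, mul_smul, inv_smul_eq_iff] at this
    exact this
  have hnot : ¬ N ≤ evenStab := fun hle => hN1 (eq_bot_iff.2 fun n hn => Subgroup.mem_bot.2 (hfix n hn hle))
  rcases Subgroup.Normal.eq_bot_or_eq_top (inferInstance : (N.subgroupOf evenStab).Normal) with h | h
  · exfalso
    have htop : N ⊔ evenStab = ⊤ := evenStab_maximal le_sup_right fun hle => hnot (le_sup_left.trans hle)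
    have hsemi : ∀ n ∈ N, (n : evenPart).1 • p0 = p0 → n = 1 := fun n hn e => by
      have : (⟨n, e⟩ : evenStab) ∈ N.subgroupOf evenStab := hn
      rw [h, Subgroup.mem_bot] at this
      exact congrArg Subtype.val this
    let φ : N → Pts := fun n => n.1.1 • p0
    have hinj : Function.Injective φ := fun a b e => by
      have := hsemi (b.1⁻¹ * a.1) (mul_mem (inv_mem b.2) a.2) (by
        show (b.1.1⁻¹ * a.1.1) • p0 = p0
        rw [mul_smul, show a.1.1 • p0 = b.1.1 • p0 from e, inv_smul_smul])
      exact Subtype.ext (inv_mul_eq_one.1 this).symm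
    have hsurj : Function.Surjective φ := fun p => by
      obtain ⟨g, hg, rfl⟩ := even_transitive p
      have hmem : (⟨g, hg⟩ : evenPart) ∈ (↑(N ⊔ evenStab) : Set evenPart) := by
        rw [htop]
        exact Subgroup.mem_top _
      rw [Subgroup.normal_mul] at hmem
      obtain ⟨n, hn, s, hs, e⟩ := Set.mem_mul.1 hmem
      refine ⟨⟨n, hn⟩, ?_⟩
      show n.1 • p0 = g • p0
      rw [← show n.1 * s.1 = g from congrArg Subtype.val e, mul_smul, mem_evenStab.1 hs]
    have hcard : Nat.card N = 306936 := by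
      rw [Nat.card_eq_of_bijective φ ⟨hinj, hsurj⟩, Nat.card_fin]
    have hprime : ∀ p : ℕ, p.Prime → p ∣ 306936 → ∃ n : N, orderOf n = p := fun p hp hd => by
      haveI := Fact.mk hp
      exact exists_prime_orderOf_dvd_card' p (hcard.symm ▸ hd)
    obtain ⟨n2, o2⟩ := hprime 2 Nat.prime_two (by norm_num)
    obtain ⟨n3, o3⟩ := hprime 3 Nat.prime_three (by norm_num)
    obtain ⟨n7, o7⟩ := hprime 7 (by norm_num) (by norm_num)
    have hne : ∀ n : N, orderOf n ≠ 1 → φ n ≠ p0 := fun n hn e => hn (by
      rw [orderOf_eq_one_iff]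
      exact Subtype.ext (hsemi n.1 n.2 e))
    have hsame : ∀ a b : N, orderOf a ≠ 1 → orderOf b ≠ 1 →
        ((31672 ≤ (φ a).val ∧ 31672 ≤ (φ b).val) ∨ ((φ a).val ≤ 31671 ∧ (φ b).val ≤ 31671)) →
        orderOf a = orderOf b := by
      intro a b ha hb hc
      have za := Nat.pos_of_ne_zero fun e => hne a ha (Fin.ext e)
      have zb := Nat.pos_of_ne_zero fun e => hne b hb (Fin.ext e)
      obtain ⟨k, hk, hk0, hkq⟩ := even_suborbit (p := φ a) (q := φ b) (by omega)
      let c : N := ⟨⟨k, hk⟩ * a.1 * ⟨k, hk⟩⁻¹, hN.conj_mem a.1 a.2 _⟩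
      have hcb : c = b := hinj (by
        show (k * a.1.1 * k⁻¹) • p0 = φ b
        rw [mul_smul, mul_smul, inv_smul_eq_iff.2 hk0.symm]
        exact hkq)
      rw [← hcb, ← Subgroup.orderOf_coe a, ← Subgroup.orderOf_coe c]
      exact (MulEquiv.orderOf_eq (MulAut.conj (⟨k, hk⟩ : evenPart)) a.1).symm
    rcases Nat.lt_or_ge (φ n2).val 31672 with a | a <;> rcases Nat.lt_or_ge (φ n3).val 31672 with b | b <;>
      rcases Nat.lt_or_ge (φ n7).val 31672 with c | c <;>
      first
      | (have := hsame n2 n3 (by omega) (by omega) (by omega); omega)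
      | (have := hsame n2 n7 (by omega) (by omega) (by omega); omega)
      | (have := hsame n3 n7 (by omega) (by omega) (by omega); omega)
  · have hle : evenStab ≤ N := Subgroup.subgroupOf_eq_top.1 h
    refine evenStab_maximal hle fun hle' => ?_
    exact hN1 (eq_bot_iff.2 fun n hn => Subgroup.mem_bot.2 (hfix n hn hle'))

theorem commutator_eq : commutator Cfsg.Spor.Fi24 = evenPart := by
  refine le_antisymm (Abelianization.commutator_subset_ker chi) ?_
  haveI := simple_even
  haveI := evenStab_simple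
  have hne : commutator evenPart ≠ ⊥ := fun e => by
    have hc : ∀ a b : evenPart, a * b = b * a := fun a b => by
      have := Subgroup.commutator_mem_commutator (Subgroup.mem_top a) (Subgroup.mem_top b)
      rw [show ⁅(⊤ : Subgroup evenPart), ⊤⁆ = ⊥ from e, Subgroup.mem_bot] at this
      exact commutatorElement_eq_one_iff_mul_comm.1 this
    have hc' : ∀ g : evenPart, g ∈ evenStab → g = 1 := fun g hg => by
      refine Subtype.ext (eq_one_of_fix fun p => ?_)
      obtain ⟨u, hu, rfl⟩ := even_transitive p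
      show g.1 • (u • p0) = u • p0
      rw [← mul_smul, show g.1 * u = u * g.1 from congrArg Subtype.val (hc g ⟨u, hu⟩), mul_smul, mem_evenStab.1 hg]
    obtain ⟨s, hs⟩ := exists_ne (1 : evenStab)
    exact hs (Subtype.ext (hc' s.1 s.2))
  have htop : commutator evenPart = ⊤ :=
    ((inferInstance : (commutator evenPart).Normal).eq_bot_or_eq_top).resolve_left hne
  have h := Subgroup.map_mono (f := evenPart.subtype) htop.ge
  rw [← MonoidHom.range_eq_map, Subgroup.range_subtype, commutator, Subgroup.map_commutator] at h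
  exact h.trans (Subgroup.commutator_mono le_top le_top)

theorem isFi24' : Cfsg.IsFi24' Cfsg.Spor.Fi24' := by
  show IsSimpleGroup ↥(commutator Cfsg.Spor.Fi24) ∧ Nat.card ↥(commutator Cfsg.Spor.Fi24) = _
  rw [commutator_eq]
  exact ⟨simple_even, card_even⟩

end Cfsg.Lib.FiFour
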