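import Cfsg.Agent.FiFour.SADefs

/-!
The facts with letters of the stabiliser between those names.
-/

set_option autoImplicit false
set_option Elab.async false
set_option maxRecDepth 100000

namespace Cfsg.Lib.FiFour.SA

theorem base_0 : allB baseAt 500 45924 = true := by decide +kernel

theorem base_1 : allB baseAt 500 46424 = true := by decide +kernel

theorem base_2 : allB baseAt 500 46924 = true := by decide +kernel

theorem base_3 : allB baseAt 500 47424 = true := by decide +kernel

theorem base_4 : allB baseAt 500 47924 = true := by decide +kernel

theorem base_5 : allB baseAt 500 48424 = true := by decide +kernel

theorem base_6 : allB baseAt 500 48924 = true := by decide +kernel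

theorem base_7 : allB baseAt 500 49424 = true := by decide +kernel

theorem base_8 : allB baseAt 500 49924 = true := by decide +kernel

theorem base_9 : allB baseAt 500 50424 = true := by decide +kernel

theorem base_10 : allB baseAt 500 50924 = true := by decide +kernel

theorem base_11 : allB baseAt 500 51424 = true := by decide +kernel

theorem base_12 : allB baseAt 500 51924 = true := by decide +kernel

theorem base_13 : allB baseAt 500 52424 = true := by decide +kernel

theorem base_14 : allB baseAt 500 52924 = true := by decide +kernel

theorem base_15 : allB baseAt 500 53424 = true := by decide +kernel

theorem base_16 : allB baseAt 500 53924 = true := by decide +kernel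

theorem base_17 : allB baseAt 500 54424 = true := by decide +kernel

theorem base_18 : allB baseAt 500 54924 = true := by decide +kernel

theorem base_19 : allB baseAt 500 55424 = true := by decide +kernel

theorem base_20 : allB baseAt 500 55924 = true := by decide +kernel

theorem base_21 : allB baseAt 500 56424 = true := by decide +kernel

theorem base_22 : allB baseAt 500 56924 = true := by decide +kernel

theorem base_23 : allB baseAt 500 57424 = true := by decide +kernel

theorem base_24 : allB baseAt 500 57924 = true := by decide +kernel

theorem base_25 : allB baseAt 500 58424 = true := by decide +kernel

theorem base_26 : allB baseAt 500 58924 = true := by decide +kernel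

theorem base_27 : allB baseAt 500 59424 = true := by decide +kernel

theorem base_28 : allB baseAt 500 59924 = true := by decide +kernel

theorem base_29 : allB baseAt 500 60424 = true := by decide +kernel

theorem base_30 : allB baseAt 500 60924 = true := by decide +kernel

theorem base_31 : allB baseAt 500 61424 = true := by decide +kernel

theorem base_32 : allB baseAt 442 61924 = true := by decide +kernel

theorem base_ok (i : ℕ) (h1 : 45924 ≤ i) (h : i < 62366) : baseAt i = true := by
  rcases Nat.lt_or_ge i 53924 with h16 | h16
  ·
    rcases Nat.lt_or_ge i 49924 with h8 | h8
    ·
      rcases Nat.lt_or_ge i 47924 with h4 | h4
      ·
        rcases Nat.lt_or_ge i 46924 with h2 | h2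
        ·
          rcases Nat.lt_or_ge i 46424 with h1 | h1
          ·
            exact allB_sound base_0 i (by omega) (by omega)
          ·
            exact allB_sound base_1 i (by omega) (by omega)
        ·
          rcases Nat.lt_or_ge i 47424 with h3 | h3
          ·
            exact allB_sound base_2 i (by omega) (by omega)
          ·
            exact allB_sound base_3 i (by omega) (by omega)
      ·
        rcases Nat.lt_or_ge i 48924 with h6 | h6
        ·
          rcases Nat.lt_or_ge i 48424 with h5 | h5
          ·
            exact allB_sound base_4 i (by omega) (by omega)
          ·
            exact allB_sound base_5 i (by omega) (by omega)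
        ·
          rcases Nat.lt_or_ge i 49424 with h7 | h7
          ·
            exact allB_sound base_6 i (by omega) (by omega)
          ·
            exact allB_sound base_7 i (by omega) (by omega)
    ·
      rcases Nat.lt_or_ge i 51924 with h12 | h12
      ·
        rcases Nat.lt_or_ge i 50924 with h10 | h10
        ·
          rcases Nat.lt_or_ge i 50424 with h9 | h9
          ·
            exact allB_sound base_8 i (by omega) (by omega)
          ·
            exact allB_sound base_9 i (by omega) (by omega)
        ·
          rcases Nat.lt_or_ge i 51424 with h11 | h11
          ·
            exact allB_sound base_10 i (by omega) (by omega)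
          ·
            exact allB_sound base_11 i (by omega) (by omega)
      ·
        rcases Nat.lt_or_ge i 52924 with h14 | h14
        ·
          rcases Nat.lt_or_ge i 52424 with h13 | h13
          ·
            exact allB_sound base_12 i (by omega) (by omega)
          ·
            exact allB_sound base_13 i (by omega) (by omega)
        ·
          rcases Nat.lt_or_ge i 53424 with h15 | h15
          ·
            exact allB_sound base_14 i (by omega) (by omega)
          ·
            exact allB_sound base_15 i (by omega) (by omega)
  ·
    rcases Nat.lt_or_ge i 57924 with h24 | h24
    ·
      rcases Nat.lt_or_ge i 55924 with h20 | h20
      ·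
        rcases Nat.lt_or_ge i 54924 with h18 | h18
        ·
          rcases Nat.lt_or_ge i 54424 with h17 | h17
          ·
            exact allB_sound base_16 i (by omega) (by omega)
          ·
            exact allB_sound base_17 i (by omega) (by omega)
        ·
          rcases Nat.lt_or_ge i 55424 with h19 | h19
          ·
            exact allB_sound base_18 i (by omega) (by omega)
          ·
            exact allB_sound base_19 i (by omega) (by omega)
      ·
        rcases Nat.lt_or_ge i 56924 with h22 | h22
        ·
          rcases Nat.lt_or_ge i 56424 with h21 | h21
          ·
            exact allB_sound base_20 i (by omega) (by omega)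
          ·
            exact allB_sound base_21 i (by omega) (by omega)
        ·
          rcases Nat.lt_or_ge i 57424 with h23 | h23
          ·
            exact allB_sound base_22 i (by omega) (by omega)
          ·
            exact allB_sound base_23 i (by omega) (by omega)
    ·
      rcases Nat.lt_or_ge i 59924 with h28 | h28
      ·
        rcases Nat.lt_or_ge i 58924 with h26 | h26
        ·
          rcases Nat.lt_or_ge i 58424 with h25 | h25
          ·
            exact allB_sound base_24 i (by omega) (by omega)
          ·
            exact allB_sound base_25 i (by omega) (by omega)
        ·
          rcases Nat.lt_or_ge i 59424 with h27 | h27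
          ·
            exact allB_sound base_26 i (by omega) (by omega)
          ·
            exact allB_sound base_27 i (by omega) (by omega)
      ·
        rcases Nat.lt_or_ge i 60924 with h30 | h30
        ·
          rcases Nat.lt_or_ge i 60424 with h29 | h29
          ·
            exact allB_sound base_28 i (by omega) (by omega)
          ·
            exact allB_sound base_29 i (by omega) (by omega)
        ·
          rcases Nat.lt_or_ge i 61424 with h31 | h31
          ·
            exact allB_sound base_30 i (by omega) (by omega)
          ·
            rcases Nat.lt_or_ge i 61924 with h32 | h32
            ·
              exact allB_sound base_31 i (by omega) (by omega)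
            ·
              exact allB_sound base_32 i (by omega) (by omega)

end Cfsg.Lib.FiFour.SA
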