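import Cfsg.Prelude.Def_Spor_Fi24
import Cfsg.Agent.CosetCert.Kit

/-!
The relators of the presented Fischer group on twelve letters as words in numbered letters.
-/

set_option autoImplicit false

namespace Cfsg.Lib.FiFour

open Cfsg.Lib.CosetCert
open Cfsg.Spor.Fi24 (Gen)

/-- The numbering of the generators. -/
def genList : List Gen := [.a, .b, .c, .d, .e, .f, .g, .h, .i, .j, .l, .k]

/-- A generator by number. -/
def genOf (n : ℕ) : Gen := genList.getD n .a

/-- The number of a generator. -/
def idxOf : Gen → ℕ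
  | .a => 0
  | .b => 1
  | .c => 2
  | .d => 3
  | .e => 4
  | .f => 5
  | .g => 6
  | .h => 7
  | .i => 8
  | .j => 9
  | .l => 10
  | .k => 11

theorem genOf_idxOf : ∀ x : Gen, genOf (idxOf x) = x
  | .a => rfl
  | .b => rfl
  | .c => rfl
  | .d => rfl
  | .e => rfl
  | .f => rfl
  | .g => rfl
  | .h => rfl
  | .i => rfl
  | .j => rfl
  | .l => rfl
  | .k => rfl

theorem idxOf_lt : ∀ x : Gen, idxOf x < 12
  | .a => by decide
  | .b => by decide
  | .c => by decide
  | .d => by decide
  | .e => by decide
  | .f => by decide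
  | .g => by decide
  | .h => by decide
  | .i => by decide
  | .j => by decide
  | .l => by decide
  | .k => by decide

/-- The label of a pair of letters. -/
def lab (x y : ℕ) : ℕ := Cfsg.Spor.coxLabel Cfsg.Spor.Fi24.edges (genOf x) (genOf y)

/-- Repeat a word. -/
def rpt (k : ℕ) (w : List ℕ) : List ℕ := (List.replicate k w).flatten

/-- The relator of a pair. -/
def pairWord (x y : ℕ) : List ℕ := rpt (lab x y) [x, y]

/-- The seven letters. -/
def sevenBase : List ℕ := [0, 1, 2, 3, 4, 5, 7]

/-- The fourteen letters. -/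
def longBase : List ℕ := [3, 2, 1, 0, 11, 10, 3, 4, 5, 6, 9, 3, 7, 8]

/-- The seven letters, repeated, give the eleventh letter. -/
def centreWord : List ℕ := 10 :: (rpt 9 sevenBase).reverse

/-- All relators, as words. -/
def allWords : List (List ℕ) :=
  ((List.range 12).flatMap fun x => (List.range 12).map (pairWord x)) ++ [centreWord, rpt 17 longBase]

variable {G : Type*} [Group G]

theorem wval_append (im : ℕ → G) (v w : List ℕ) : wval im (v ++ w) = wval im v * wval im w := by
  simp [wval]

theorem wval_rpt (im : ℕ → G) (k : ℕ) (w : List ℕ) : wval im (rpt k w) = wval im w ^ k := by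
  induction k with
  | zero => simp [rpt, wval]
  | succ k ih => rw [rpt, List.replicate_succ, List.flatten_cons, wval_append, ← rpt, ih, pow_succ']

theorem wval_cons (im : ℕ → G) (x : ℕ) (w : List ℕ) : wval im (x :: w) = im x * wval im w := by simp [wval]

theorem wval_nil (im : ℕ → G) : wval im [] = 1 := rfl

theorem wval_single (im : ℕ → G) (x : ℕ) : wval im [x] = im x := by simp [wval]

/-- The relations hold for the images of the letters. -/
def Good (im : ℕ → G) : Prop := ∀ w ∈ allWords, wval im w = 1

theorem Good.pair_word {im : ℕ → G} (h : Good im) {x y : ℕ} (hx : x < 12) (hy : y < 12) :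
    wval im (pairWord x y) = 1 :=
  h _ (List.mem_append_left _ (List.mem_flatMap.2 ⟨x, List.mem_range.2 hx, List.mem_map.2 ⟨y, List.mem_range.2 hy, rfl⟩⟩))

theorem Good.pair {im : ℕ → G} (h : Good im) {x y : ℕ} (hx : x < 12) (hy : y < 12) :
    (im x * im y) ^ lab x y = 1 := by
  simpa only [pairWord, wval_rpt, wval_cons, wval_nil, mul_one] using h.pair_word hx hy

theorem lab_self (x : ℕ) : lab x x = 1 := by simp [lab, Cfsg.Spor.coxLabel]

theorem Good.inv {im : ℕ → G} (h : Good im) {x : ℕ} (hx : x < 12) : im x * im x = 1 := by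
  have := h.pair hx hx
  rwa [lab_self, pow_one] at this

theorem Good.comm {im : ℕ → G} (h : Good im) {x y : ℕ} (hx : x < 12) (hy : y < 12) (hl : lab x y = 2) :
    im x * im y = im y * im x := by
  have e := h.pair hx hy
  rw [hl, sq] at e
  have ex : (im x)⁻¹ = im x := inv_eq_of_mul_eq_one_left (h.inv hx)
  have ey : (im y)⁻¹ = im y := inv_eq_of_mul_eq_one_left (h.inv hy)
  have e' := inv_eq_of_mul_eq_one_left e
  rw [mul_inv_rev, ex, ey] at e'
  exact e'.symm

theorem Good.braid {im : ℕ → G} (h : Good im) {x y : ℕ} (hx : x < 12) (hy : y < 12) (hl : lab x y = 3) :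
    im x * im y * im x = im y * im x * im y := by
  have e := h.pair hx hy
  rw [hl, pow_succ, pow_two] at e
  have ex : (im x)⁻¹ = im x := inv_eq_of_mul_eq_one_left (h.inv hx)
  have ey : (im y)⁻¹ = im y := inv_eq_of_mul_eq_one_left (h.inv hy)
  have e2 : im x * im y * im x = (im y * im x * im y)⁻¹ := eq_inv_of_mul_eq_one_left (by
    rw [← e]; simp only [mul_assoc])
  rw [mul_inv_rev, mul_inv_rev, ex, ey, ← mul_assoc] at e2
  exact e2

theorem Good.centre {im : ℕ → G} (h : Good im) : im 10 = wval im sevenBase ^ 9 := by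
  have e := h centreWord (List.mem_append_right _ (by simp))
  rw [centreWord, wval_cons, wval_reverse im (fun l hl => h.inv ((show ∀ l ∈ rpt 9 sevenBase, l < 12 by decide) l hl)),
    wval_rpt] at e
  exact mul_inv_eq_one.1 e

theorem Good.long {im : ℕ → G} (h : Good im) : wval im longBase ^ 17 = 1 := by
  rw [← wval_rpt]
  exact h _ (List.mem_append_right _ (by simp))

/-- The letters in the presented group. -/
def im (n : ℕ) : Cfsg.Spor.Fi24 := PresentedGroup.of (genOf n)

theorem good_im : Good im := by
  have hnode : ∀ z : Gen, z ∈ Cfsg.Spor.coxNodes Cfsg.Spor.Fi24.edges := by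
    intro z; cases z <;> decide
  have hex : ∀ r ∈ Cfsg.Spor.Fi24.extra,
      PresentedGroup.mk (Cfsg.Spor.coxRelators Cfsg.Spor.Fi24.edges ∪ {r | r ∈ Cfsg.Spor.Fi24.extra}) r = 1 :=
    fun r hr => PresentedGroup.one_of_mem (Or.inr hr)
  simp only [Cfsg.Spor.Fi24.extra, List.forall_mem_cons] at hex
  obtain ⟨e1, e2, -⟩ := hex
  have hpair : ∀ x y : ℕ, wval im (pairWord x y) = 1 := by
    intro x y
    have := PresentedGroup.one_of_mem
      (rels := Cfsg.Spor.coxRelators Cfsg.Spor.Fi24.edges ∪ {r | r ∈ Cfsg.Spor.Fi24.extra})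
      (Or.inl ⟨genOf x, hnode _, genOf y, hnode _, rfl⟩)
    rw [map_pow, map_mul] at this
    rw [pairWord, wval_rpt, wval_cons, wval_cons, wval_nil, mul_one]
    exact this
  intro w hw
  rcases List.mem_append.1 hw with hw | hw
  · obtain ⟨x, -, hw⟩ := List.mem_flatMap.1 hw
    obtain ⟨y, -, rfl⟩ := List.mem_map.1 hw
    exact hpair x y
  · have hinv : ∀ l, im l * im l = 1 := fun l => by
      have := hpair l l
      rwa [pairWord, lab_self, wval_rpt, pow_one, wval_cons, wval_cons, wval_nil, mul_one] at this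
    simp only [List.mem_cons, List.mem_nil_iff, or_false] at hw
    rcases hw with rfl | rfl
    · rw [centreWord, wval_cons, wval_reverse im (fun l _ => hinv l), wval_rpt]
      simp only [sevenBase, wval_cons, wval_nil, mul_one, ← mul_assoc]
      exact e1
    · rw [wval_rpt]
      simp only [longBase, wval_cons, wval_nil, mul_one, ← mul_assoc]
      exact e2

theorem im_idxOf (x : Gen) : im (idxOf x) = PresentedGroup.of x := by rw [im, genOf_idxOf]

theorem closure_im : Subgroup.closure (im '' Set.Iio 12) = ⊤ := by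
  refine top_le_iff.1 ?_
  rw [← PresentedGroup.closure_range_of]
  refine Subgroup.closure_mono ?_
  rintro _ ⟨x, rfl⟩
  exact ⟨idxOf x, idxOf_lt x, im_idxOf x⟩

theorem Good.relators {f : ℕ → G} (h : Good f) :
    ∀ r ∈ Cfsg.Spor.coxRelators Cfsg.Spor.Fi24.edges ∪ {r | r ∈ Cfsg.Spor.Fi24.extra},
      FreeGroup.lift (fun x => f (idxOf x)) r = 1 := by
  rintro r (⟨x, -, y, -, rfl⟩ | hr)
  · rw [map_pow, map_mul, FreeGroup.lift_apply_of, FreeGroup.lift_apply_of]
    have := h.pair (idxOf_lt x) (idxOf_lt y)
    rwa [lab, genOf_idxOf, genOf_idxOf] at this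
  · have e1 := h.centre
    have e2 := h.long
    simp only [sevenBase, longBase, wval_cons, wval_nil, mul_one, ← mul_assoc] at e1 e2
    simp only [Cfsg.Spor.Fi24.extra, Set.mem_ofPred_eq, List.mem_cons, List.mem_nil_iff, or_false] at hr
    rcases hr with rfl | rfl <;> simp only [map_mul, map_pow, map_inv, FreeGroup.lift_apply_of, idxOf]
    · rw [mul_inv_eq_one]; exact e1
    · exact e2

/-- The map out of the presented group. -/
def toGrp {f : ℕ → G} (h : Good f) : Cfsg.Spor.Fi24 →* G :=
  PresentedGroup.toGroup (f := fun x => f (idxOf x)) h.relators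

theorem toGrp_im {f : ℕ → G} (h : Good f) {n : ℕ} (hn : n < 12) : toGrp h (im n) = f n := by
  have e : idxOf (genOf n) = n := by interval_cases n <;> rfl
  rw [toGrp, im, PresentedGroup.toGroup.of, e]

end Cfsg.Lib.FiFour
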