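import Cfsg.Agent.FiFour.SADefs
import Cfsg.Agent.FiFour.Relators

/-!
The facts with the special letter, the first fact and the end of the long word.
-/

set_option autoImplicit false
set_option maxRecDepth 100000

namespace Cfsg.Lib.FiFour.SA

open Cfsg.Lib.CosetCert

/-- The facts with the special letter are as announced. -/
noncomputable def kAll : Bool :=
  Nat.beq kData.length 22 && (List.range 22).all fun t => kAt (62366 + t) (kData.getD t ([], [], []))

theorem kAll_ok : kAll = true := by decide +kernel

theorem first_ok : (Nat.beq (cert.eu 0) 0 && Nat.beq (cert.ev 0) 1 && Nat.beq (cert.el 0) 11 &&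
    Nat.beq (lookup cert.pars 9 24 1) 0 && Nat.beq (imA 1) 31672 && Nat.beq (imB 1) 1) = true := by decide +kernel

theorem final_ok : (match cert.walk 116150 finalRefs 0 0 with
    | some (e, code) => Nat.beq e 45924 && Nat.beq code (wcode wPre)
    | none => false) = true := by decide +kernel

theorem wPre_ok : (rpt 17 longBase == wPre ++ 11 :: (rpt 17 longBase).drop (wPre.length + 1)) = true ∧
    inLetters [0, 1, 2, 3, 4, 5, 6, 7, 8, 9, 10] ((rpt 17 longBase).drop (wPre.length + 1)) = true ∧
    wPre.all (fun l => decide (l < 12)) = true := by decide +kernel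

theorem last_ok : (Nat.beq (imA 45924) 31672 && !(Nat.testBit blkMask (imB 45924))) = true := by decide +kernel

end Cfsg.Lib.FiFour.SA
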