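import Cfsg.Agent.FiFour.SAPart0
import Cfsg.Agent.FiFour.SAPart1
import Cfsg.Agent.FiFour.SAPart2
import Cfsg.Agent.FiFour.SAPart3

/-!
The steps of the certificate are valid.
-/

set_option autoImplicit false
set_option Elab.async false

namespace Cfsg.Lib.FiFour.SA

open Cfsg.Lib.CosetCert

theorem cat0x5_0_len : cat0x5_0.length = 16384 := by decide +kernel

theorem cat1x5_0_len : cat1x5_0.length = 16384 := by decide +kernel

theorem cat2x5_0_len : cat2x5_0.length = 16384 := by decide +kernel

theorem cat3x4_0_len : cat3x4_0.length = 4610 := by decide +kernel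

def top0_0 : List (ℕ × ℕ) := cat0x5_0 ++ cat1x5_0

theorem top0_0_len : top0_0.length = 32768 := by
  rw [top0_0, List.length_append, cat0x5_0_len, cat1x5_0_len]

theorem top0_0_ok : cert.stepsOK 62388 top0_0 = true ∧ ruleBound spec.length top0_0 = true :=
  stepsOK_cat cat0x5_0_ok cat1x5_0_ok (by rw [cat0x5_0_len])

def top0_1 : List (ℕ × ℕ) := cat2x5_0 ++ cat3x4_0

theorem top0_1_len : top0_1.length = 20994 := by
  rw [top0_1, List.length_append, cat2x5_0_len, cat3x4_0_len]

theorem top0_1_ok : cert.stepsOK 95156 top0_1 = true ∧ ruleBound spec.length top0_1 = true :=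
  stepsOK_cat cat2x5_0_ok cat3x4_0_ok (by rw [cat2x5_0_len])

def top1_0 : List (ℕ × ℕ) := top0_0 ++ top0_1

theorem top1_0_len : top1_0.length = 53762 := by
  rw [top1_0, List.length_append, top0_0_len, top0_1_len]

theorem top1_0_ok : cert.stepsOK 62388 top1_0 = true ∧ ruleBound spec.length top1_0 = true :=
  stepsOK_cat top0_0_ok top0_1_ok (by rw [top0_0_len])

/-- All the steps. -/
def steps : List (ℕ × ℕ) := top1_0

theorem steps_ok : cert.stepsOK 62388 steps = true ∧ ruleBound spec.length steps = true := top1_0_ok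

theorem spec_ok : cert.rotsOK rels spec = true := by decide +kernel

theorem steps_length : steps.length = 53762 := by rw [steps, top1_0_len]

end Cfsg.Lib.FiFour.SA
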