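import Cfsg.Agent.FiFour.SADefs

/-!
The facts defining names on the larger suborbit.
-/

set_option autoImplicit false
set_option Elab.async false
set_option maxRecDepth 100000

namespace Cfsg.Lib.FiFour.SA

theorem tree_0 : allB treeAt 2000 1 = true := by decide +kernel

theorem tree_1 : allB treeAt 2000 2001 = true := by decide +kernel

theorem tree_2 : allB treeAt 2000 4001 = true := by decide +kernel

theorem tree_3 : allB treeAt 2000 6001 = true := by decide +kernel

theorem tree_4 : allB treeAt 2000 8001 = true := by decide +kernel

theorem tree_5 : allB treeAt 2000 10001 = true := by decide +kernel

theorem tree_6 : allB treeAt 2000 12001 = true := by decide +kernel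

theorem tree_7 : allB treeAt 2000 14001 = true := by decide +kernel

theorem tree_8 : allB treeAt 2000 16001 = true := by decide +kernel

theorem tree_9 : allB treeAt 2000 18001 = true := by decide +kernel

theorem tree_10 : allB treeAt 2000 20001 = true := by decide +kernel

theorem tree_11 : allB treeAt 2000 22001 = true := by decide +kernel

theorem tree_12 : allB treeAt 2000 24001 = true := by decide +kernel

theorem tree_13 : allB treeAt 2000 26001 = true := by decide +kernel

theorem tree_14 : allB treeAt 2000 28001 = true := by decide +kernel

theorem tree_15 : allB treeAt 2000 30001 = true := by decide +kernel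

theorem tree_16 : allB treeAt 2000 32001 = true := by decide +kernel

theorem tree_17 : allB treeAt 2000 34001 = true := by decide +kernel

theorem tree_18 : allB treeAt 2000 36001 = true := by decide +kernel

theorem tree_19 : allB treeAt 2000 38001 = true := by decide +kernel

theorem tree_20 : allB treeAt 2000 40001 = true := by decide +kernel

theorem tree_21 : allB treeAt 2000 42001 = true := by decide +kernel

theorem tree_22 : allB treeAt 1923 44001 = true := by decide +kernel

theorem tree_ok (i : ℕ) (h1 : 1 ≤ i) (h : i < 45924) : treeAt i = true := by
  rcases Nat.lt_or_ge i 22001 with h11 | h11
  ·
    rcases Nat.lt_or_ge i 10001 with h5 | h5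
    ·
      rcases Nat.lt_or_ge i 4001 with h2 | h2
      ·
        rcases Nat.lt_or_ge i 2001 with h1 | h1
        ·
          exact allB_sound tree_0 i (by omega) (by omega)
        ·
          exact allB_sound tree_1 i (by omega) (by omega)
      ·
        rcases Nat.lt_or_ge i 6001 with h3 | h3
        ·
          exact allB_sound tree_2 i (by omega) (by omega)
        ·
          rcases Nat.lt_or_ge i 8001 with h4 | h4
          ·
            exact allB_sound tree_3 i (by omega) (by omega)
          ·
            exact allB_sound tree_4 i (by omega) (by omega)
    ·
      rcases Nat.lt_or_ge i 16001 with h8 | h8
      ·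
        rcases Nat.lt_or_ge i 12001 with h6 | h6
        ·
          exact allB_sound tree_5 i (by omega) (by omega)
        ·
          rcases Nat.lt_or_ge i 14001 with h7 | h7
          ·
            exact allB_sound tree_6 i (by omega) (by omega)
          ·
            exact allB_sound tree_7 i (by omega) (by omega)
      ·
        rcases Nat.lt_or_ge i 18001 with h9 | h9
        ·
          exact allB_sound tree_8 i (by omega) (by omega)
        ·
          rcases Nat.lt_or_ge i 20001 with h10 | h10
          ·
            exact allB_sound tree_9 i (by omega) (by omega)
          ·
            exact allB_sound tree_10 i (by omega) (by omega)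
  ·
    rcases Nat.lt_or_ge i 34001 with h17 | h17
    ·
      rcases Nat.lt_or_ge i 28001 with h14 | h14
      ·
        rcases Nat.lt_or_ge i 24001 with h12 | h12
        ·
          exact allB_sound tree_11 i (by omega) (by omega)
        ·
          rcases Nat.lt_or_ge i 26001 with h13 | h13
          ·
            exact allB_sound tree_12 i (by omega) (by omega)
          ·
            exact allB_sound tree_13 i (by omega) (by omega)
      ·
        rcases Nat.lt_or_ge i 30001 with h15 | h15
        ·
          exact allB_sound tree_14 i (by omega) (by omega)
        ·
          rcases Nat.lt_or_ge i 32001 with h16 | h16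
          ·
            exact allB_sound tree_15 i (by omega) (by omega)
          ·
            exact allB_sound tree_16 i (by omega) (by omega)
    ·
      rcases Nat.lt_or_ge i 40001 with h20 | h20
      ·
        rcases Nat.lt_or_ge i 36001 with h18 | h18
        ·
          exact allB_sound tree_17 i (by omega) (by omega)
        ·
          rcases Nat.lt_or_ge i 38001 with h19 | h19
          ·
            exact allB_sound tree_18 i (by omega) (by omega)
          ·
            exact allB_sound tree_19 i (by omega) (by omega)
      ·
        rcases Nat.lt_or_ge i 42001 with h21 | h21
        ·
          exact allB_sound tree_20 i (by omega) (by omega)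
        ·
          rcases Nat.lt_or_ge i 44001 with h22 | h22
          ·
            exact allB_sound tree_21 i (by omega) (by omega)
          ·
            exact allB_sound tree_22 i (by omega) (by omega)

end Cfsg.Lib.FiFour.SA
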