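import Cfsg.Agent.FiFour.Block
import Cfsg.Agent.FiFour.SASteps
import Cfsg.Agent.FiFour.SATree
import Cfsg.Agent.FiFour.SABase
import Cfsg.Agent.FiFour.SAKeys

/-!
A further element of the subgroup on eleven letters whose conjugate by the special letter stays inside.
-/

set_option autoImplicit false
set_option maxRecDepth 100000

namespace Cfsg.Lib.FiFour.SA

open Cfsg.Lib.CosetCert
open Cfsg.Lib.ONPres (force_eq)

attribute [local irreducible] rowF sevF lonF blkMask edgeT parT imgT rotT

theorem eleven_lt {x : ℕ} (h : x < 11) : x ∈ lamT := (show ∀ x < 11, x ∈ lamT by decide) x h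

theorem rep_zero : cert.rep im 0 = 1 := by rw [Cert.rep, dif_neg (fun h => Nat.not_lt_zero _ h.1)]

theorem rep_next {i n : ℕ} (hv : cert.ev i = n) (hlt : cert.eu i < n) (hp : lookup cert.pars 9 24 n = i) :
    cert.rep im n = cert.rep im (cert.eu i) * im (cert.el i) := by
  have e : lookup cert.pars cert.depth 24 n = i := hp
  conv_lhs => rw [Cert.rep]
  rw [e, dif_pos ⟨hlt, hv⟩]

theorem first_spec : cert.eu 0 = 0 ∧ cert.ev 0 = 1 ∧ cert.el 0 = 11 ∧ lookup cert.pars 9 24 1 = 0 ∧
    imA 1 = 31672 ∧ imB 1 = 1 := by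
  have h := first_ok
  simp only [Bool.and_eq_true] at h
  obtain ⟨⟨⟨⟨⟨a, b⟩, c⟩, d⟩, e⟩, f⟩ := h
  exact ⟨Nat.eq_of_beq_eq_true a, Nat.eq_of_beq_eq_true b, Nat.eq_of_beq_eq_true c, Nat.eq_of_beq_eq_true d,
    Nat.eq_of_beq_eq_true e, Nat.eq_of_beq_eq_true f⟩

theorem rep_one : cert.rep im 1 = im 11 := by
  obtain ⟨hu, hv, hl, hp, -, -⟩ := first_spec
  rw [rep_next hv (by rw [hu]; exact Nat.one_pos) hp, hu, hl, rep_zero, one_mul]

/-- What is known about a name on the larger suborbit. -/
def NameOK (n : ℕ) (h : Cfsg.Spor.Fi24) : Prop :=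
  h ∈ lgp im lamT ∧ cert.rep im n = im 11 * h ∧ (h⁻¹ • pA : Pts).val = imA n ∧ (h⁻¹ • pB : Pts).val = imB n ∧
    ∀ (f : ℕ) (p : Pts), upTest f n p.val = true → blkMask.testBit (h • p : Pts).val = true

theorem name_spec : ∀ n, 1 ≤ n → n ≤ 45924 → ∃ h, NameOK n h := by
  intro n
  induction n using Nat.strong_induction_on with
  | _ n ih =>
    intro h1 h2
    rcases Nat.eq_or_lt_of_le h1 with rfl | h1
    · obtain ⟨-, -, -, -, ha, hb⟩ := first_spec
      refine ⟨1, one_mem _, by rw [rep_one, mul_one], by rw [inv_one, one_smul, ha]; rfl,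
        by rw [inv_one, one_smul, hb]; rfl, fun f p hf => ?_⟩
      rw [one_smul]
      cases f with
      | zero => exact Bool.noConfusion hf
      | succ f => exact hf
    · obtain ⟨i, rfl⟩ := Nat.exists_eq_add_of_le h1
      rw [show Nat.succ 1 + i = Nat.succ (Nat.succ i) by omega] at h2 ⊢
      have h := tree_ok (i + 1) (Nat.le_add_left 1 i) (by omega)
      rw [treeAt, force_eq, force_eq] at h
      simp only [Bool.and_eq_true, Nat.ble_eq] at h
      obtain ⟨⟨⟨⟨⟨⟨hv, hu⟩, hu1⟩, hg⟩, hp⟩, ha⟩, hb⟩ := h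
      replace hv := Nat.eq_of_beq_eq_true hv
      replace hp := Nat.eq_of_beq_eq_true hp
      replace ha := Nat.eq_of_beq_eq_true ha
      replace hb := Nat.eq_of_beq_eq_true hb
      obtain ⟨hh, hmem, hrep, hA, hB, hup⟩ := ih (cert.eu (i + 1)) (by omega) hu1 (by omega)
      have hg12 : cert.el (i + 1) < 12 := by omega
      refine ⟨hh * im (cert.el (i + 1)), mul_mem hmem (lgp_mem im (eleven_lt hg)), ?_, ?_, ?_, fun f p hf => ?_⟩
      · rw [show Nat.succ (Nat.succ i) = (i + 1).succ from rfl, rep_next hv (by omega) hp, hrep, mul_assoc]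
      · rw [mul_inv_rev, mul_smul, inv_eq_of_mul_eq_one_left (im_sq _), im_smul_val hg12, hA]
        exact ha.symm
      · rw [mul_inv_rev, mul_smul, inv_eq_of_mul_eq_one_left (im_sq _), im_smul_val hg12, hB]
        exact hb.symm
      · cases f with
        | zero => exact Bool.noConfusion hf
        | succ f =>
          rw [upTest, show Nat.beq (Nat.succ (Nat.succ i)) 1 = false from rfl, cond_false, force_eq, force_eq,
            force_eq] at hf
          rw [mul_smul]
          refine hup f _ ?_
          rw [im_smul_val hg12]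
          exact hf

theorem name_block {n : ℕ} {h : Cfsg.Spor.Fi24} (hn : NameOK n h) {w : List ℕ} (hw : inLetters lamT w = true)
    (hA : moves w.reverse (imA n) = 31672) (hB : blkMask.testBit (moves w.reverse (imB n)) = true) :
    h * (wval im w)⁻¹ ∈ lgp im lamC := by
  obtain ⟨hmem, -, hA', hB', -⟩ := hn
  have hwr : inLetters lamT w.reverse = true := by
    simpa [inLetters, List.all_reverse] using hw
  have e : ∀ p : Pts, (wval im w • p : Pts).val = moves w.reverse p.val := fun p => by
    rw [← wval_fix hwr p, wval_reverse im (fun l _ => im_sq l), inv_inv]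
  refine mem_block (mul_mem hmem (inv_mem (lgp_wval im hw))) ?_ ?_
  · have h1 : (wval im w • (h⁻¹ • pA) : Pts) = pA := Fin.ext (by rw [e, hA', hA]; rfl)
    calc (h * (wval im w)⁻¹) • pA = (h * (wval im w)⁻¹) • (wval im w • (h⁻¹ • pA)) := by rw [h1]
      _ = pA := by rw [mul_smul, inv_smul_smul, smul_inv_smul]
  · rw [mul_inv_rev, inv_inv, mul_smul, e, hB']
    exact hB

theorem walkT_eq : ∀ {w : List ℕ} {q : ℕ}, walkT w q = true → blkMask.testBit (moves w q) = true
  | [], _, h => h
  | x :: w, q, h => by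
    rw [walkT, force_eq] at h
    exact walkT_eq (w := w) h

/-- The special letter commutes with the nine letters away from the end. -/
theorem special_comm {c : Cfsg.Spor.Fi24} (hc : c ∈ lgp im lamC) : c * im 11 = im 11 * c := by
  induction hc using Subgroup.closure_induction with
  | mem _ hy =>
    obtain ⟨x, hx, rfl⟩ := hy
    obtain ⟨h12, hl⟩ := (show ∀ x ∈ lamC, x < 12 ∧ lab x 11 = 2 by decide +kernel) x hx
    exact good_im.comm h12 (by norm_num) hl
  | one => rw [one_mul, mul_one]
  | mul a b _ _ ha hb => rw [mul_assoc, hb, ← mul_assoc, ha, mul_assoc]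
  | inv a _ ha =>
    exact inv_mul_eq_of_eq_mul (by rw [← mul_assoc, ha, mul_assoc, mul_inv_cancel, mul_one])

theorem base_holds (i : ℕ) (h : i < 62388) : cert.Holds im (lgp im lamT) i := by
  rcases Nat.lt_or_ge i 45924 with h1 | h1
  · rcases Nat.eq_zero_or_pos i with rfl | h0
    · obtain ⟨hu, hv, hl, -, -, -⟩ := first_spec
      rw [Cert.Holds, hu, hv, hl, rep_zero, rep_one, one_mul, lval, if_pos (show 11 < cert.ng by decide), mul_inv_cancel]
      exact one_mem _
    · have ht := tree_ok i h0 h1
      rw [treeAt, force_eq, force_eq] at ht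
      simp only [Bool.and_eq_true, Nat.ble_eq] at ht
      obtain ⟨⟨⟨⟨⟨⟨hv, hu⟩, -⟩, hg⟩, hp⟩, -⟩, -⟩ := ht
      replace hv := Nat.eq_of_beq_eq_true hv
      rw [Cert.Holds, hv, rep_next hv (by omega) (Nat.eq_of_beq_eq_true hp), lval,
        if_pos (show cert.el i < cert.ng from (show cert.el i < 12 by omega)), mul_inv_cancel]
      exact one_mem _
  rcases Nat.lt_or_ge i 62366 with h2 | h2
  · have hb := base_ok i h1 h2
    rw [baseAt, force_eq, force_eq, force_eq] at hb
    simp only [Bool.and_eq_true, Nat.ble_eq] at hb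
    obtain ⟨⟨⟨⟨⟨⟨hu1, hu2⟩, hv1⟩, hv2⟩, hg⟩, ha⟩, hup⟩ := hb
    have hg12 : cert.el i < 12 := by omega
    obtain ⟨p, hp, hpr, hpA, hpB, -⟩ := name_spec _ hu1 hu2
    obtain ⟨q, hq, hqr, hqA, -, hqU⟩ := name_spec _ hv1 hv2
    have hx : p * im (cert.el i) * q⁻¹ ∈ lgp im lamC := by
      refine mem_block (mul_mem (mul_mem hp (lgp_mem im (eleven_lt hg))) (inv_mem hq)) ?_ ?_
      · have h1 : im (cert.el i) • (p⁻¹ • pA) = q⁻¹ • pA := Fin.ext (by
          rw [im_smul_val hg12, hpA, hqA]
          exact (Nat.eq_of_beq_eq_true ha).symm)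
        rw [mul_smul, ← h1, mul_smul, ← mul_smul (im _) (im _), im_sq, one_smul, smul_inv_smul]
      · rw [mul_inv_rev, mul_inv_rev, inv_inv, mul_smul, mul_smul, inv_eq_of_mul_eq_one_left (im_sq _)]
        refine hqU 80 _ ?_
        rw [im_smul_val hg12, hpB]
        exact hup
    rw [Cert.Holds, hpr, hqr, lval, if_pos (show cert.el i < cert.ng from hg12)]
    have e : im 11 * p * im (cert.el i) * (im 11 * q)⁻¹ = p * im (cert.el i) * q⁻¹ := by
      rw [mul_inv_rev, show im 11 * p * im (cert.el i) * (q⁻¹ * (im 11)⁻¹) =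
        im 11 * (p * im (cert.el i) * q⁻¹) * (im 11)⁻¹ by simp only [mul_assoc], ← special_comm hx, mul_inv_cancel_right]
    rw [e]
    exact block_le_eleven hx
  · have hk := kAll_ok
    rw [kAll, Bool.and_eq_true] at hk
    have hk' := List.all_eq_true.1 hk.2 (i - 62366) (List.mem_range.2 (by omega))
    rw [show 62366 + (i - 62366) = i by omega] at hk'
    generalize kData.getD (i - 62366) ([], [], []) = d at hk'
    obtain ⟨m, m', c⟩ := d
    simp only [kAt, sameClass, Bool.and_eq_true, Nat.ble_eq] at hk'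
    obtain ⟨⟨⟨⟨⟨⟨hl, ⟨⟨⟨hu1, hu2⟩, hwu⟩, htu⟩⟩, ⟨⟨⟨hv1, hv2⟩, hwv⟩, htv⟩⟩, hm⟩, hm'⟩, hc⟩, hfix⟩ := hk'
    obtain ⟨p, hp⟩ := name_spec _ hu1 hu2
    obtain ⟨q, hq⟩ := name_spec _ hv1 hv2
    have sub : ∀ {S w : List ℕ}, (∀ x ∈ S, x ∈ lamT) → inLetters S w = true → inLetters lamT w = true := by
      intro S w hS hw
      simp only [inLetters, List.all_eq_true, List.contains_iff_mem] at hw ⊢
      exact fun l hl => hS l (hw l hl)
    have app : ∀ {S v w : List ℕ}, inLetters S v = true → inLetters S w = true → inLetters S (v ++ w) = true := by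
      intro S v w hv hw
      simp only [inLetters, List.all_append, Bool.and_eq_true] at *
      exact ⟨hv, hw⟩
    have x1 := name_block hp (app (sub (by decide) hm) (sub (by decide) hc)) (walkW_eq hwu) (walkT_eq htu)
    have x2 := name_block hq (app (sub (by decide) hm') (sub (by decide) hc)) (walkW_eq hwv) (walkT_eq htv)
    have hc' : wval im c ∈ lgp im lamC := lgp_wval im hc
    have hmid : wval im (11 :: (m ++ 11 :: (m'.reverse ++ [11]))) ∈ lgp im lamT := by
      refine nine_le_eleven (stab_ten ?_ ?_)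
      · refine lgp_wval im ?_
        simp only [inLetters, List.all_cons, List.all_append, List.all_nil, List.all_reverse, Bool.and_eq_true,
          List.all_eq_true, List.contains_iff_mem] at hm hm' ⊢
        have h9 : ∀ x ∈ [0, 1, 2, 3, 4, 5, 7, 8, 10], x ∈ lamN := by decide
        exact ⟨by decide, fun l hl => h9 l (hm l hl), by decide, fun l hl => h9 l (hm' l hl), by decide, trivial⟩
      · have h12 : ∀ l ∈ (11 :: (m ++ 11 :: (m'.reverse ++ [11]))), l < 12 := by
          have h9 : ∀ x ∈ [0, 1, 2, 3, 4, 5, 7, 8, 10], x < 12 := by decide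
          simp only [inLetters, List.all_eq_true, List.contains_iff_mem] at hm hm'
          intro l hl
          simp only [List.mem_cons, List.mem_append, List.mem_reverse, List.mem_nil_iff, or_false] at hl
          rcases hl with rfl | hl | rfl | hl | rfl
          exacts [by norm_num, h9 l (hm l hl), by norm_num, h9 l (hm' l hl), by norm_num]
        set g := wval im (11 :: (m ++ 11 :: (m'.reverse ++ [11]))) with hg
        have e : g⁻¹ • p0 = p0 := Fin.ext (by
          rw [hg, ← wval_reverse im (fun l _ => im_sq l), smul_pts, psiF_wval fun l hl => h12 l (List.mem_reverse.1 hl),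
            ← moves_act h12]
          exact walkW_eq hfix)
        exact (inv_smul_eq_iff.1 e).symm
    rw [Cert.Holds, hp.2.1, hq.2.1, Nat.eq_of_beq_eq_true hl, lval, if_pos (show 11 < cert.ng by decide)]
    rw [wval_append] at x1 x2
    have k1 := special_comm x1
    have k2 := special_comm x2
    have k3 := special_comm hc'
    set u := p * (wval im m * wval im c)⁻¹ with hu
    set v := q * (wval im m' * wval im c)⁻¹ with hv
    have hp' : p = u * (wval im m * wval im c) := by rw [hu, inv_mul_cancel_right]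
    have hq' : q = v * (wval im m' * wval im c) := by rw [hv, inv_mul_cancel_right]
    have hh : im 11 * p * im 11 * (im 11 * q)⁻¹ = u * wval im (11 :: (m ++ 11 :: (m'.reverse ++ [11]))) * v⁻¹ := by
      have kv : v⁻¹ * (im 11)⁻¹ = (im 11)⁻¹ * v⁻¹ := by rw [← mul_inv_rev, ← k2, mul_inv_rev]
      have hk : (im 11)⁻¹ = im 11 := inv_eq_of_mul_eq_one_left (im_sq 11)
      rw [wval_cons, wval_append, wval_cons, wval_append, wval_single, wval_reverse im (fun l _ => im_sq l), hp', hq']
      simp only [mul_inv_rev, ← mul_assoc]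
      rw [← k1]
      simp only [mul_assoc]
      rw [← mul_assoc (wval im c) (im 11), k3, kv]
      simp only [mul_assoc, mul_inv_cancel_left]
      rw [hk]
    rw [hh]
    exact mul_mem (mul_mem (block_le_eleven x1) hmid) (inv_mem (block_le_eleven x2))

theorem rels_ok : (rels.all fun r => words.contains r && r.all fun l => decide (l < 12)) = true := by decide +kernel

theorem all_holds (i : ℕ) (h : i < 116150) : cert.Holds im (lgp im lamT) i := by
  refine steps_sound cert im (by decide) (fun l _ => im_sq l) spec_ok (fun r hr => ?_) (fun r _ l _ => im_sq l)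
    (fun s hs => lgp_mem im hs) steps 62388 steps_ok.1 steps_ok.2 base_holds i (by rw [steps_length]; omega)
  have := List.all_eq_true.1 rels_ok r hr
  simp only [Bool.and_eq_true, List.contains_iff_mem] at this
  rcases List.mem_cons.1 this.1 with e | hw
  · rw [e]; rfl
  · exact good_im _ hw

/-- A further element of the stabiliser whose conjugate by the special letter stays inside. -/
theorem exists_extra : ∃ h ∈ lgp im lamT, h • pA = pA ∧ h ∉ lgp im lamC ∧ im 11 * h * im 11 ∈ lgp im lamT := by
  have hw := final_ok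
  obtain ⟨w1, w2, w3⟩ := wPre_ok
  cases e : cert.walk 116150 finalRefs 0 0 with
  | none => rw [e] at hw; exact Bool.noConfusion hw
  | some res =>
    obtain ⟨t, code⟩ := res
    rw [e] at hw
    simp only [Bool.and_eq_true] at hw
    obtain ⟨w, hwl, hwc, hmem⟩ := walk_sound cert im (by decide) (fun l _ => im_sq l) all_holds finalRefs 0 0 []
      (by simp) (by simp [wval]) (t, code) (by simpa [wcode] using e)
    simp only [List.all_eq_true, decide_eq_true_eq] at w3
    have hww : w = wPre := wcode_inj hwl (fun l hl => Nat.lt_of_lt_of_le (w3 l hl) (by norm_num))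
      (hwc.symm.trans (Nat.eq_of_beq_eq_true hw.2))
    have ht : t = 45924 := Nat.eq_of_beq_eq_true hw.1
    rw [hww] at hmem
    dsimp only at hmem
    rw [ht, rep_zero, one_mul] at hmem
    obtain ⟨h, hn, hrep, hA, hB, -⟩ := name_spec 45924 (by norm_num) le_rfl
    have hl := last_ok
    rw [Bool.and_eq_true, Bool.not_eq_true'] at hl
    have hfix : h • pA = pA := by
      have e1 : h⁻¹ • pA = pA := Fin.ext (by rw [hA, Nat.eq_of_beq_eq_true hl.1]; rfl)
      exact (inv_smul_eq_iff.1 e1).symm
    refine ⟨h, hn, hfix, fun hC => ?_, ?_⟩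
    · have := (blk_letters hC pB one_mem_blk).2
      rw [hB, hl.2] at this
      exact Bool.noConfusion this
    · have hsuf : wval im ((rpt 17 longBase).drop (wPre.length + 1)) ∈ lgp im lamT := lgp_wval im w2
      have hone : wval im (rpt 17 longBase) = 1 := by rw [wval_rpt]; exact good_im.long
      rw [beq_iff_eq] at w1
      rw [w1, wval_append, wval_cons, ← mul_assoc] at hone
      have h1 : wval im wPre * im 11 ∈ lgp im lamT := by
        rw [mul_eq_one_iff_eq_inv.1 hone]
        exact inv_mem hsuf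
      rw [hrep] at hmem
      have h2 := mul_mem (inv_mem hmem) h1
      rw [mul_inv_rev, inv_inv, mul_assoc, inv_mul_cancel_left] at h2
      exact h2

end Cfsg.Lib.FiFour.SA
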