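import Cfsg.Agent.FiFour.Test

/-!
Kernel checks of the relators on the points, block 1.
-/

set_option autoImplicit false
set_option Elab.async false

namespace Cfsg.Lib.FiFour

set_option maxRecDepth 100000 in
theorem pairs_1_0 : allB pairsOK 1000 20000 = true := by decide +kernel

set_option maxRecDepth 100000 in
theorem pairs_1_1 : allB pairsOK 1000 21000 = true := by decide +kernel

set_option maxRecDepth 100000 in
theorem pairs_1_2 : allB pairsOK 1000 22000 = true := by decide +kernel

set_option maxRecDepth 100000 in
theorem pairs_1_3 : allB pairsOK 1000 23000 = true := by decide +kernel

set_option maxRecDepth 100000 in
theorem pairs_1_4 : allB pairsOK 1000 24000 = true := by decide +kernel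

set_option maxRecDepth 100000 in
theorem pairs_1_5 : allB pairsOK 1000 25000 = true := by decide +kernel

set_option maxRecDepth 100000 in
theorem pairs_1_6 : allB pairsOK 1000 26000 = true := by decide +kernel

set_option maxRecDepth 100000 in
theorem pairs_1_7 : allB pairsOK 1000 27000 = true := by decide +kernel

set_option maxRecDepth 100000 in
theorem pairs_1_8 : allB pairsOK 1000 28000 = true := by decide +kernel

set_option maxRecDepth 100000 in
theorem pairs_1_9 : allB pairsOK 1000 29000 = true := by decide +kernel

set_option maxRecDepth 100000 in
theorem pairs_1_10 : allB pairsOK 1000 30000 = true := by decide +kernel

set_option maxRecDepth 100000 in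
theorem pairs_1_11 : allB pairsOK 1000 31000 = true := by decide +kernel

set_option maxRecDepth 100000 in
theorem pairs_1_12 : allB pairsOK 1000 32000 = true := by decide +kernel

set_option maxRecDepth 100000 in
theorem pairs_1_13 : allB pairsOK 1000 33000 = true := by decide +kernel

set_option maxRecDepth 100000 in
theorem pairs_1_14 : allB pairsOK 1000 34000 = true := by decide +kernel

set_option maxRecDepth 100000 in
theorem pairs_1_15 : allB pairsOK 1000 35000 = true := by decide +kernel

set_option maxRecDepth 100000 in
theorem pairs_1_16 : allB pairsOK 1000 36000 = true := by decide +kernel

set_option maxRecDepth 100000 in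
theorem pairs_1_17 : allB pairsOK 1000 37000 = true := by decide +kernel

set_option maxRecDepth 100000 in
theorem pairs_1_18 : allB pairsOK 1000 38000 = true := by decide +kernel

set_option maxRecDepth 100000 in
theorem pairs_1_19 : allB pairsOK 1000 39000 = true := by decide +kernel

theorem pairs_1 (i : ℕ) (h1 : 20000 ≤ i) (h2 : i < 40000) : pairsOK i = true := by
  by_cases h10 : i < 30000
  ·
    by_cases h5 : i < 25000
    ·
      by_cases h2 : i < 22000
      ·
        by_cases h1 : i < 21000
        ·
          exact allB_sound pairs_1_0 i (by omega) (by omega)
        ·
          exact allB_sound pairs_1_1 i (by omega) (by omega)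
      ·
        by_cases h3 : i < 23000
        ·
          exact allB_sound pairs_1_2 i (by omega) (by omega)
        ·
          by_cases h4 : i < 24000
          ·
            exact allB_sound pairs_1_3 i (by omega) (by omega)
          ·
            exact allB_sound pairs_1_4 i (by omega) (by omega)
    ·
      by_cases h7 : i < 27000
      ·
        by_cases h6 : i < 26000
        ·
          exact allB_sound pairs_1_5 i (by omega) (by omega)
        ·
          exact allB_sound pairs_1_6 i (by omega) (by omega)
      ·
        by_cases h8 : i < 28000
        ·
          exact allB_sound pairs_1_7 i (by omega) (by omega)
        ·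
          by_cases h9 : i < 29000
          ·
            exact allB_sound pairs_1_8 i (by omega) (by omega)
          ·
            exact allB_sound pairs_1_9 i (by omega) (by omega)
  ·
    by_cases h15 : i < 35000
    ·
      by_cases h12 : i < 32000
      ·
        by_cases h11 : i < 31000
        ·
          exact allB_sound pairs_1_10 i (by omega) (by omega)
        ·
          exact allB_sound pairs_1_11 i (by omega) (by omega)
      ·
        by_cases h13 : i < 33000
        ·
          exact allB_sound pairs_1_12 i (by omega) (by omega)
        ·
          by_cases h14 : i < 34000
          ·
            exact allB_sound pairs_1_13 i (by omega) (by omega)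
          ·
            exact allB_sound pairs_1_14 i (by omega) (by omega)
    ·
      by_cases h17 : i < 37000
      ·
        by_cases h16 : i < 36000
        ·
          exact allB_sound pairs_1_15 i (by omega) (by omega)
        ·
          exact allB_sound pairs_1_16 i (by omega) (by omega)
      ·
        by_cases h18 : i < 38000
        ·
          exact allB_sound pairs_1_17 i (by omega) (by omega)
        ·
          by_cases h19 : i < 39000
          ·
            exact allB_sound pairs_1_18 i (by omega) (by omega)
          ·
            exact allB_sound pairs_1_19 i (by omega) (by omega)

set_option maxRecDepth 100000 in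
theorem words_1_0 : allB wordsOK 1000 20000 = true := by decide +kernel

set_option maxRecDepth 100000 in
theorem words_1_1 : allB wordsOK 1000 21000 = true := by decide +kernel

set_option maxRecDepth 100000 in
theorem words_1_2 : allB wordsOK 1000 22000 = true := by decide +kernel

set_option maxRecDepth 100000 in
theorem words_1_3 : allB wordsOK 1000 23000 = true := by decide +kernel

set_option maxRecDepth 100000 in
theorem words_1_4 : allB wordsOK 1000 24000 = true := by decide +kernel

set_option maxRecDepth 100000 in
theorem words_1_5 : allB wordsOK 1000 25000 = true := by decide +kernel

set_option maxRecDepth 100000 in
theorem words_1_6 : allB wordsOK 1000 26000 = true := by decide +kernel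

set_option maxRecDepth 100000 in
theorem words_1_7 : allB wordsOK 1000 27000 = true := by decide +kernel

set_option maxRecDepth 100000 in
theorem words_1_8 : allB wordsOK 1000 28000 = true := by decide +kernel

set_option maxRecDepth 100000 in
theorem words_1_9 : allB wordsOK 1000 29000 = true := by decide +kernel

set_option maxRecDepth 100000 in
theorem words_1_10 : allB wordsOK 1000 30000 = true := by decide +kernel

set_option maxRecDepth 100000 in
theorem words_1_11 : allB wordsOK 1000 31000 = true := by decide +kernel

set_option maxRecDepth 100000 in
theorem words_1_12 : allB wordsOK 1000 32000 = true := by decide +kernel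

set_option maxRecDepth 100000 in
theorem words_1_13 : allB wordsOK 1000 33000 = true := by decide +kernel

set_option maxRecDepth 100000 in
theorem words_1_14 : allB wordsOK 1000 34000 = true := by decide +kernel

set_option maxRecDepth 100000 in
theorem words_1_15 : allB wordsOK 1000 35000 = true := by decide +kernel

set_option maxRecDepth 100000 in
theorem words_1_16 : allB wordsOK 1000 36000 = true := by decide +kernel

set_option maxRecDepth 100000 in
theorem words_1_17 : allB wordsOK 1000 37000 = true := by decide +kernel

set_option maxRecDepth 100000 in
theorem words_1_18 : allB wordsOK 1000 38000 = true := by decide +kernel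

set_option maxRecDepth 100000 in
theorem words_1_19 : allB wordsOK 1000 39000 = true := by decide +kernel

theorem words_1 (i : ℕ) (h1 : 20000 ≤ i) (h2 : i < 40000) : wordsOK i = true := by
  by_cases h10 : i < 30000
  ·
    by_cases h5 : i < 25000
    ·
      by_cases h2 : i < 22000
      ·
        by_cases h1 : i < 21000
        ·
          exact allB_sound words_1_0 i (by omega) (by omega)
        ·
          exact allB_sound words_1_1 i (by omega) (by omega)
      ·
        by_cases h3 : i < 23000
        ·
          exact allB_sound words_1_2 i (by omega) (by omega)
        ·
          by_cases h4 : i < 24000
          ·
            exact allB_sound words_1_3 i (by omega) (by omega)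
          ·
            exact allB_sound words_1_4 i (by omega) (by omega)
    ·
      by_cases h7 : i < 27000
      ·
        by_cases h6 : i < 26000
        ·
          exact allB_sound words_1_5 i (by omega) (by omega)
        ·
          exact allB_sound words_1_6 i (by omega) (by omega)
      ·
        by_cases h8 : i < 28000
        ·
          exact allB_sound words_1_7 i (by omega) (by omega)
        ·
          by_cases h9 : i < 29000
          ·
            exact allB_sound words_1_8 i (by omega) (by omega)
          ·
            exact allB_sound words_1_9 i (by omega) (by omega)
  ·
    by_cases h15 : i < 35000
    ·
      by_cases h12 : i < 32000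
      ·
        by_cases h11 : i < 31000
        ·
          exact allB_sound words_1_10 i (by omega) (by omega)
        ·
          exact allB_sound words_1_11 i (by omega) (by omega)
      ·
        by_cases h13 : i < 33000
        ·
          exact allB_sound words_1_12 i (by omega) (by omega)
        ·
          by_cases h14 : i < 34000
          ·
            exact allB_sound words_1_13 i (by omega) (by omega)
          ·
            exact allB_sound words_1_14 i (by omega) (by omega)
    ·
      by_cases h17 : i < 37000
      ·
        by_cases h16 : i < 36000
        ·
          exact allB_sound words_1_15 i (by omega) (by omega)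
        ·
          exact allB_sound words_1_16 i (by omega) (by omega)
      ·
        by_cases h18 : i < 38000
        ·
          exact allB_sound words_1_17 i (by omega) (by omega)
        ·
          by_cases h19 : i < 39000
          ·
            exact allB_sound words_1_18 i (by omega) (by omega)
          ·
            exact allB_sound words_1_19 i (by omega) (by omega)

end Cfsg.Lib.FiFour
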