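import Cfsg.Agent.FiFour.Test

/-!
Kernel checks of the relators on the points, block 10.
-/

set_option autoImplicit false
set_option Elab.async false

namespace Cfsg.Lib.FiFour

set_option maxRecDepth 100000 in
theorem pairs_10_0 : allB pairsOK 1000 200000 = true := by decide +kernel

set_option maxRecDepth 100000 in
theorem pairs_10_1 : allB pairsOK 1000 201000 = true := by decide +kernel

set_option maxRecDepth 100000 in
theorem pairs_10_2 : allB pairsOK 1000 202000 = true := by decide +kernel

set_option maxRecDepth 100000 in
theorem pairs_10_3 : allB pairsOK 1000 203000 = true := by decide +kernel

set_option maxRecDepth 100000 in
theorem pairs_10_4 : allB pairsOK 1000 204000 = true := by decide +kernel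

set_option maxRecDepth 100000 in
theorem pairs_10_5 : allB pairsOK 1000 205000 = true := by decide +kernel

set_option maxRecDepth 100000 in
theorem pairs_10_6 : allB pairsOK 1000 206000 = true := by decide +kernel

set_option maxRecDepth 100000 in
theorem pairs_10_7 : allB pairsOK 1000 207000 = true := by decide +kernel

set_option maxRecDepth 100000 in
theorem pairs_10_8 : allB pairsOK 1000 208000 = true := by decide +kernel

set_option maxRecDepth 100000 in
theorem pairs_10_9 : allB pairsOK 1000 209000 = true := by decide +kernel

set_option maxRecDepth 100000 in
theorem pairs_10_10 : allB pairsOK 1000 210000 = true := by decide +kernel

set_option maxRecDepth 100000 in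
theorem pairs_10_11 : allB pairsOK 1000 211000 = true := by decide +kernel

set_option maxRecDepth 100000 in
theorem pairs_10_12 : allB pairsOK 1000 212000 = true := by decide +kernel

set_option maxRecDepth 100000 in
theorem pairs_10_13 : allB pairsOK 1000 213000 = true := by decide +kernel

set_option maxRecDepth 100000 in
theorem pairs_10_14 : allB pairsOK 1000 214000 = true := by decide +kernel

set_option maxRecDepth 100000 in
theorem pairs_10_15 : allB pairsOK 1000 215000 = true := by decide +kernel

set_option maxRecDepth 100000 in
theorem pairs_10_16 : allB pairsOK 1000 216000 = true := by decide +kernel

set_option maxRecDepth 100000 in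
theorem pairs_10_17 : allB pairsOK 1000 217000 = true := by decide +kernel

set_option maxRecDepth 100000 in
theorem pairs_10_18 : allB pairsOK 1000 218000 = true := by decide +kernel

set_option maxRecDepth 100000 in
theorem pairs_10_19 : allB pairsOK 1000 219000 = true := by decide +kernel

theorem pairs_10 (i : ℕ) (h1 : 200000 ≤ i) (h2 : i < 220000) : pairsOK i = true := by
  by_cases h10 : i < 210000
  ·
    by_cases h5 : i < 205000
    ·
      by_cases h2 : i < 202000
      ·
        by_cases h1 : i < 201000
        ·
          exact allB_sound pairs_10_0 i (by omega) (by omega)
        ·
          exact allB_sound pairs_10_1 i (by omega) (by omega)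
      ·
        by_cases h3 : i < 203000
        ·
          exact allB_sound pairs_10_2 i (by omega) (by omega)
        ·
          by_cases h4 : i < 204000
          ·
            exact allB_sound pairs_10_3 i (by omega) (by omega)
          ·
            exact allB_sound pairs_10_4 i (by omega) (by omega)
    ·
      by_cases h7 : i < 207000
      ·
        by_cases h6 : i < 206000
        ·
          exact allB_sound pairs_10_5 i (by omega) (by omega)
        ·
          exact allB_sound pairs_10_6 i (by omega) (by omega)
      ·
        by_cases h8 : i < 208000
        ·
          exact allB_sound pairs_10_7 i (by omega) (by omega)
        ·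
          by_cases h9 : i < 209000
          ·
            exact allB_sound pairs_10_8 i (by omega) (by omega)
          ·
            exact allB_sound pairs_10_9 i (by omega) (by omega)
  ·
    by_cases h15 : i < 215000
    ·
      by_cases h12 : i < 212000
      ·
        by_cases h11 : i < 211000
        ·
          exact allB_sound pairs_10_10 i (by omega) (by omega)
        ·
          exact allB_sound pairs_10_11 i (by omega) (by omega)
      ·
        by_cases h13 : i < 213000
        ·
          exact allB_sound pairs_10_12 i (by omega) (by omega)
        ·
          by_cases h14 : i < 214000
          ·
            exact allB_sound pairs_10_13 i (by omega) (by omega)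
          ·
            exact allB_sound pairs_10_14 i (by omega) (by omega)
    ·
      by_cases h17 : i < 217000
      ·
        by_cases h16 : i < 216000
        ·
          exact allB_sound pairs_10_15 i (by omega) (by omega)
        ·
          exact allB_sound pairs_10_16 i (by omega) (by omega)
      ·
        by_cases h18 : i < 218000
        ·
          exact allB_sound pairs_10_17 i (by omega) (by omega)
        ·
          by_cases h19 : i < 219000
          ·
            exact allB_sound pairs_10_18 i (by omega) (by omega)
          ·
            exact allB_sound pairs_10_19 i (by omega) (by omega)

set_option maxRecDepth 100000 in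
theorem words_10_0 : allB wordsOK 1000 200000 = true := by decide +kernel

set_option maxRecDepth 100000 in
theorem words_10_1 : allB wordsOK 1000 201000 = true := by decide +kernel

set_option maxRecDepth 100000 in
theorem words_10_2 : allB wordsOK 1000 202000 = true := by decide +kernel

set_option maxRecDepth 100000 in
theorem words_10_3 : allB wordsOK 1000 203000 = true := by decide +kernel

set_option maxRecDepth 100000 in
theorem words_10_4 : allB wordsOK 1000 204000 = true := by decide +kernel

set_option maxRecDepth 100000 in
theorem words_10_5 : allB wordsOK 1000 205000 = true := by decide +kernel

set_option maxRecDepth 100000 in
theorem words_10_6 : allB wordsOK 1000 206000 = true := by decide +kernel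

set_option maxRecDepth 100000 in
theorem words_10_7 : allB wordsOK 1000 207000 = true := by decide +kernel

set_option maxRecDepth 100000 in
theorem words_10_8 : allB wordsOK 1000 208000 = true := by decide +kernel

set_option maxRecDepth 100000 in
theorem words_10_9 : allB wordsOK 1000 209000 = true := by decide +kernel

set_option maxRecDepth 100000 in
theorem words_10_10 : allB wordsOK 1000 210000 = true := by decide +kernel

set_option maxRecDepth 100000 in
theorem words_10_11 : allB wordsOK 1000 211000 = true := by decide +kernel

set_option maxRecDepth 100000 in
theorem words_10_12 : allB wordsOK 1000 212000 = true := by decide +kernel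

set_option maxRecDepth 100000 in
theorem words_10_13 : allB wordsOK 1000 213000 = true := by decide +kernel

set_option maxRecDepth 100000 in
theorem words_10_14 : allB wordsOK 1000 214000 = true := by decide +kernel

set_option maxRecDepth 100000 in
theorem words_10_15 : allB wordsOK 1000 215000 = true := by decide +kernel

set_option maxRecDepth 100000 in
theorem words_10_16 : allB wordsOK 1000 216000 = true := by decide +kernel

set_option maxRecDepth 100000 in
theorem words_10_17 : allB wordsOK 1000 217000 = true := by decide +kernel

set_option maxRecDepth 100000 in
theorem words_10_18 : allB wordsOK 1000 218000 = true := by decide +kernel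

set_option maxRecDepth 100000 in
theorem words_10_19 : allB wordsOK 1000 219000 = true := by decide +kernel

theorem words_10 (i : ℕ) (h1 : 200000 ≤ i) (h2 : i < 220000) : wordsOK i = true := by
  by_cases h10 : i < 210000
  ·
    by_cases h5 : i < 205000
    ·
      by_cases h2 : i < 202000
      ·
        by_cases h1 : i < 201000
        ·
          exact allB_sound words_10_0 i (by omega) (by omega)
        ·
          exact allB_sound words_10_1 i (by omega) (by omega)
      ·
        by_cases h3 : i < 203000
        ·
          exact allB_sound words_10_2 i (by omega) (by omega)
        ·
          by_cases h4 : i < 204000
          ·
            exact allB_sound words_10_3 i (by omega) (by omega)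
          ·
            exact allB_sound words_10_4 i (by omega) (by omega)
    ·
      by_cases h7 : i < 207000
      ·
        by_cases h6 : i < 206000
        ·
          exact allB_sound words_10_5 i (by omega) (by omega)
        ·
          exact allB_sound words_10_6 i (by omega) (by omega)
      ·
        by_cases h8 : i < 208000
        ·
          exact allB_sound words_10_7 i (by omega) (by omega)
        ·
          by_cases h9 : i < 209000
          ·
            exact allB_sound words_10_8 i (by omega) (by omega)
          ·
            exact allB_sound words_10_9 i (by omega) (by omega)
  ·
    by_cases h15 : i < 215000
    ·
      by_cases h12 : i < 212000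
      ·
        by_cases h11 : i < 211000
        ·
          exact allB_sound words_10_10 i (by omega) (by omega)
        ·
          exact allB_sound words_10_11 i (by omega) (by omega)
      ·
        by_cases h13 : i < 213000
        ·
          exact allB_sound words_10_12 i (by omega) (by omega)
        ·
          by_cases h14 : i < 214000
          ·
            exact allB_sound words_10_13 i (by omega) (by omega)
          ·
            exact allB_sound words_10_14 i (by omega) (by omega)
    ·
      by_cases h17 : i < 217000
      ·
        by_cases h16 : i < 216000
        ·
          exact allB_sound words_10_15 i (by omega) (by omega)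
        ·
          exact allB_sound words_10_16 i (by omega) (by omega)
      ·
        by_cases h18 : i < 218000
        ·
          exact allB_sound words_10_17 i (by omega) (by omega)
        ·
          by_cases h19 : i < 219000
          ·
            exact allB_sound words_10_18 i (by omega) (by omega)
          ·
            exact allB_sound words_10_19 i (by omega) (by omega)

end Cfsg.Lib.FiFour
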