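import Cfsg.Agent.FiFour.Test

/-!
Kernel checks of the relators on the points, block 11.
-/

set_option autoImplicit false
set_option Elab.async false

namespace Cfsg.Lib.FiFour

set_option maxRecDepth 100000 in
theorem pairs_11_0 : allB pairsOK 1000 220000 = true := by decide +kernel

set_option maxRecDepth 100000 in
theorem pairs_11_1 : allB pairsOK 1000 221000 = true := by decide +kernel

set_option maxRecDepth 100000 in
theorem pairs_11_2 : allB pairsOK 1000 222000 = true := by decide +kernel

set_option maxRecDepth 100000 in
theorem pairs_11_3 : allB pairsOK 1000 223000 = true := by decide +kernel

set_option maxRecDepth 100000 in
theorem pairs_11_4 : allB pairsOK 1000 224000 = true := by decide +kernel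

set_option maxRecDepth 100000 in
theorem pairs_11_5 : allB pairsOK 1000 225000 = true := by decide +kernel

set_option maxRecDepth 100000 in
theorem pairs_11_6 : allB pairsOK 1000 226000 = true := by decide +kernel

set_option maxRecDepth 100000 in
theorem pairs_11_7 : allB pairsOK 1000 227000 = true := by decide +kernel

set_option maxRecDepth 100000 in
theorem pairs_11_8 : allB pairsOK 1000 228000 = true := by decide +kernel

set_option maxRecDepth 100000 in
theorem pairs_11_9 : allB pairsOK 1000 229000 = true := by decide +kernel

set_option maxRecDepth 100000 in
theorem pairs_11_10 : allB pairsOK 1000 230000 = true := by decide +kernel

set_option maxRecDepth 100000 in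
theorem pairs_11_11 : allB pairsOK 1000 231000 = true := by decide +kernel

set_option maxRecDepth 100000 in
theorem pairs_11_12 : allB pairsOK 1000 232000 = true := by decide +kernel

set_option maxRecDepth 100000 in
theorem pairs_11_13 : allB pairsOK 1000 233000 = true := by decide +kernel

set_option maxRecDepth 100000 in
theorem pairs_11_14 : allB pairsOK 1000 234000 = true := by decide +kernel

set_option maxRecDepth 100000 in
theorem pairs_11_15 : allB pairsOK 1000 235000 = true := by decide +kernel

set_option maxRecDepth 100000 in
theorem pairs_11_16 : allB pairsOK 1000 236000 = true := by decide +kernel

set_option maxRecDepth 100000 in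
theorem pairs_11_17 : allB pairsOK 1000 237000 = true := by decide +kernel

set_option maxRecDepth 100000 in
theorem pairs_11_18 : allB pairsOK 1000 238000 = true := by decide +kernel

set_option maxRecDepth 100000 in
theorem pairs_11_19 : allB pairsOK 1000 239000 = true := by decide +kernel

theorem pairs_11 (i : ℕ) (h1 : 220000 ≤ i) (h2 : i < 240000) : pairsOK i = true := by
  by_cases h10 : i < 230000
  ·
    by_cases h5 : i < 225000
    ·
      by_cases h2 : i < 222000
      ·
        by_cases h1 : i < 221000
        ·
          exact allB_sound pairs_11_0 i (by omega) (by omega)
        ·
          exact allB_sound pairs_11_1 i (by omega) (by omega)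
      ·
        by_cases h3 : i < 223000
        ·
          exact allB_sound pairs_11_2 i (by omega) (by omega)
        ·
          by_cases h4 : i < 224000
          ·
            exact allB_sound pairs_11_3 i (by omega) (by omega)
          ·
            exact allB_sound pairs_11_4 i (by omega) (by omega)
    ·
      by_cases h7 : i < 227000
      ·
        by_cases h6 : i < 226000
        ·
          exact allB_sound pairs_11_5 i (by omega) (by omega)
        ·
          exact allB_sound pairs_11_6 i (by omega) (by omega)
      ·
        by_cases h8 : i < 228000
        ·
          exact allB_sound pairs_11_7 i (by omega) (by omega)
        ·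
          by_cases h9 : i < 229000
          ·
            exact allB_sound pairs_11_8 i (by omega) (by omega)
          ·
            exact allB_sound pairs_11_9 i (by omega) (by omega)
  ·
    by_cases h15 : i < 235000
    ·
      by_cases h12 : i < 232000
      ·
        by_cases h11 : i < 231000
        ·
          exact allB_sound pairs_11_10 i (by omega) (by omega)
        ·
          exact allB_sound pairs_11_11 i (by omega) (by omega)
      ·
        by_cases h13 : i < 233000
        ·
          exact allB_sound pairs_11_12 i (by omega) (by omega)
        ·
          by_cases h14 : i < 234000
          ·
            exact allB_sound pairs_11_13 i (by omega) (by omega)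
          ·
            exact allB_sound pairs_11_14 i (by omega) (by omega)
    ·
      by_cases h17 : i < 237000
      ·
        by_cases h16 : i < 236000
        ·
          exact allB_sound pairs_11_15 i (by omega) (by omega)
        ·
          exact allB_sound pairs_11_16 i (by omega) (by omega)
      ·
        by_cases h18 : i < 238000
        ·
          exact allB_sound pairs_11_17 i (by omega) (by omega)
        ·
          by_cases h19 : i < 239000
          ·
            exact allB_sound pairs_11_18 i (by omega) (by omega)
          ·
            exact allB_sound pairs_11_19 i (by omega) (by omega)

set_option maxRecDepth 100000 in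
theorem words_11_0 : allB wordsOK 1000 220000 = true := by decide +kernel

set_option maxRecDepth 100000 in
theorem words_11_1 : allB wordsOK 1000 221000 = true := by decide +kernel

set_option maxRecDepth 100000 in
theorem words_11_2 : allB wordsOK 1000 222000 = true := by decide +kernel

set_option maxRecDepth 100000 in
theorem words_11_3 : allB wordsOK 1000 223000 = true := by decide +kernel

set_option maxRecDepth 100000 in
theorem words_11_4 : allB wordsOK 1000 224000 = true := by decide +kernel

set_option maxRecDepth 100000 in
theorem words_11_5 : allB wordsOK 1000 225000 = true := by decide +kernel

set_option maxRecDepth 100000 in
theorem words_11_6 : allB wordsOK 1000 226000 = true := by decide +kernel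

set_option maxRecDepth 100000 in
theorem words_11_7 : allB wordsOK 1000 227000 = true := by decide +kernel

set_option maxRecDepth 100000 in
theorem words_11_8 : allB wordsOK 1000 228000 = true := by decide +kernel

set_option maxRecDepth 100000 in
theorem words_11_9 : allB wordsOK 1000 229000 = true := by decide +kernel

set_option maxRecDepth 100000 in
theorem words_11_10 : allB wordsOK 1000 230000 = true := by decide +kernel

set_option maxRecDepth 100000 in
theorem words_11_11 : allB wordsOK 1000 231000 = true := by decide +kernel

set_option maxRecDepth 100000 in
theorem words_11_12 : allB wordsOK 1000 232000 = true := by decide +kernel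

set_option maxRecDepth 100000 in
theorem words_11_13 : allB wordsOK 1000 233000 = true := by decide +kernel

set_option maxRecDepth 100000 in
theorem words_11_14 : allB wordsOK 1000 234000 = true := by decide +kernel

set_option maxRecDepth 100000 in
theorem words_11_15 : allB wordsOK 1000 235000 = true := by decide +kernel

set_option maxRecDepth 100000 in
theorem words_11_16 : allB wordsOK 1000 236000 = true := by decide +kernel

set_option maxRecDepth 100000 in
theorem words_11_17 : allB wordsOK 1000 237000 = true := by decide +kernel

set_option maxRecDepth 100000 in
theorem words_11_18 : allB wordsOK 1000 238000 = true := by decide +kernel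

set_option maxRecDepth 100000 in
theorem words_11_19 : allB wordsOK 1000 239000 = true := by decide +kernel

theorem words_11 (i : ℕ) (h1 : 220000 ≤ i) (h2 : i < 240000) : wordsOK i = true := by
  by_cases h10 : i < 230000
  ·
    by_cases h5 : i < 225000
    ·
      by_cases h2 : i < 222000
      ·
        by_cases h1 : i < 221000
        ·
          exact allB_sound words_11_0 i (by omega) (by omega)
        ·
          exact allB_sound words_11_1 i (by omega) (by omega)
      ·
        by_cases h3 : i < 223000
        ·
          exact allB_sound words_11_2 i (by omega) (by omega)
        ·
          by_cases h4 : i < 224000
          ·
            exact allB_sound words_11_3 i (by omega) (by omega)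
          ·
            exact allB_sound words_11_4 i (by omega) (by omega)
    ·
      by_cases h7 : i < 227000
      ·
        by_cases h6 : i < 226000
        ·
          exact allB_sound words_11_5 i (by omega) (by omega)
        ·
          exact allB_sound words_11_6 i (by omega) (by omega)
      ·
        by_cases h8 : i < 228000
        ·
          exact allB_sound words_11_7 i (by omega) (by omega)
        ·
          by_cases h9 : i < 229000
          ·
            exact allB_sound words_11_8 i (by omega) (by omega)
          ·
            exact allB_sound words_11_9 i (by omega) (by omega)
  ·
    by_cases h15 : i < 235000
    ·
      by_cases h12 : i < 232000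
      ·
        by_cases h11 : i < 231000
        ·
          exact allB_sound words_11_10 i (by omega) (by omega)
        ·
          exact allB_sound words_11_11 i (by omega) (by omega)
      ·
        by_cases h13 : i < 233000
        ·
          exact allB_sound words_11_12 i (by omega) (by omega)
        ·
          by_cases h14 : i < 234000
          ·
            exact allB_sound words_11_13 i (by omega) (by omega)
          ·
            exact allB_sound words_11_14 i (by omega) (by omega)
    ·
      by_cases h17 : i < 237000
      ·
        by_cases h16 : i < 236000
        ·
          exact allB_sound words_11_15 i (by omega) (by omega)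
        ·
          exact allB_sound words_11_16 i (by omega) (by omega)
      ·
        by_cases h18 : i < 238000
        ·
          exact allB_sound words_11_17 i (by omega) (by omega)
        ·
          by_cases h19 : i < 239000
          ·
            exact allB_sound words_11_18 i (by omega) (by omega)
          ·
            exact allB_sound words_11_19 i (by omega) (by omega)

end Cfsg.Lib.FiFour
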