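import Cfsg.Agent.FiFour.Test

/-!
Kernel checks of the relators on the points, block 12.
-/

set_option autoImplicit false
set_option Elab.async false

namespace Cfsg.Lib.FiFour

set_option maxRecDepth 100000 in
theorem pairs_12_0 : allB pairsOK 1000 240000 = true := by decide +kernel

set_option maxRecDepth 100000 in
theorem pairs_12_1 : allB pairsOK 1000 241000 = true := by decide +kernel

set_option maxRecDepth 100000 in
theorem pairs_12_2 : allB pairsOK 1000 242000 = true := by decide +kernel

set_option maxRecDepth 100000 in
theorem pairs_12_3 : allB pairsOK 1000 243000 = true := by decide +kernel

set_option maxRecDepth 100000 in
theorem pairs_12_4 : allB pairsOK 1000 244000 = true := by decide +kernel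

set_option maxRecDepth 100000 in
theorem pairs_12_5 : allB pairsOK 1000 245000 = true := by decide +kernel

set_option maxRecDepth 100000 in
theorem pairs_12_6 : allB pairsOK 1000 246000 = true := by decide +kernel

set_option maxRecDepth 100000 in
theorem pairs_12_7 : allB pairsOK 1000 247000 = true := by decide +kernel

set_option maxRecDepth 100000 in
theorem pairs_12_8 : allB pairsOK 1000 248000 = true := by decide +kernel

set_option maxRecDepth 100000 in
theorem pairs_12_9 : allB pairsOK 1000 249000 = true := by decide +kernel

set_option maxRecDepth 100000 in
theorem pairs_12_10 : allB pairsOK 1000 250000 = true := by decide +kernel

set_option maxRecDepth 100000 in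
theorem pairs_12_11 : allB pairsOK 1000 251000 = true := by decide +kernel

set_option maxRecDepth 100000 in
theorem pairs_12_12 : allB pairsOK 1000 252000 = true := by decide +kernel

set_option maxRecDepth 100000 in
theorem pairs_12_13 : allB pairsOK 1000 253000 = true := by decide +kernel

set_option maxRecDepth 100000 in
theorem pairs_12_14 : allB pairsOK 1000 254000 = true := by decide +kernel

set_option maxRecDepth 100000 in
theorem pairs_12_15 : allB pairsOK 1000 255000 = true := by decide +kernel

set_option maxRecDepth 100000 in
theorem pairs_12_16 : allB pairsOK 1000 256000 = true := by decide +kernel

set_option maxRecDepth 100000 in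
theorem pairs_12_17 : allB pairsOK 1000 257000 = true := by decide +kernel

set_option maxRecDepth 100000 in
theorem pairs_12_18 : allB pairsOK 1000 258000 = true := by decide +kernel

set_option maxRecDepth 100000 in
theorem pairs_12_19 : allB pairsOK 1000 259000 = true := by decide +kernel

theorem pairs_12 (i : ℕ) (h1 : 240000 ≤ i) (h2 : i < 260000) : pairsOK i = true := by
  by_cases h10 : i < 250000
  ·
    by_cases h5 : i < 245000
    ·
      by_cases h2 : i < 242000
      ·
        by_cases h1 : i < 241000
        ·
          exact allB_sound pairs_12_0 i (by omega) (by omega)
        ·
          exact allB_sound pairs_12_1 i (by omega) (by omega)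
      ·
        by_cases h3 : i < 243000
        ·
          exact allB_sound pairs_12_2 i (by omega) (by omega)
        ·
          by_cases h4 : i < 244000
          ·
            exact allB_sound pairs_12_3 i (by omega) (by omega)
          ·
            exact allB_sound pairs_12_4 i (by omega) (by omega)
    ·
      by_cases h7 : i < 247000
      ·
        by_cases h6 : i < 246000
        ·
          exact allB_sound pairs_12_5 i (by omega) (by omega)
        ·
          exact allB_sound pairs_12_6 i (by omega) (by omega)
      ·
        by_cases h8 : i < 248000
        ·
          exact allB_sound pairs_12_7 i (by omega) (by omega)
        ·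
          by_cases h9 : i < 249000
          ·
            exact allB_sound pairs_12_8 i (by omega) (by omega)
          ·
            exact allB_sound pairs_12_9 i (by omega) (by omega)
  ·
    by_cases h15 : i < 255000
    ·
      by_cases h12 : i < 252000
      ·
        by_cases h11 : i < 251000
        ·
          exact allB_sound pairs_12_10 i (by omega) (by omega)
        ·
          exact allB_sound pairs_12_11 i (by omega) (by omega)
      ·
        by_cases h13 : i < 253000
        ·
          exact allB_sound pairs_12_12 i (by omega) (by omega)
        ·
          by_cases h14 : i < 254000
          ·
            exact allB_sound pairs_12_13 i (by omega) (by omega)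
          ·
            exact allB_sound pairs_12_14 i (by omega) (by omega)
    ·
      by_cases h17 : i < 257000
      ·
        by_cases h16 : i < 256000
        ·
          exact allB_sound pairs_12_15 i (by omega) (by omega)
        ·
          exact allB_sound pairs_12_16 i (by omega) (by omega)
      ·
        by_cases h18 : i < 258000
        ·
          exact allB_sound pairs_12_17 i (by omega) (by omega)
        ·
          by_cases h19 : i < 259000
          ·
            exact allB_sound pairs_12_18 i (by omega) (by omega)
          ·
            exact allB_sound pairs_12_19 i (by omega) (by omega)

set_option maxRecDepth 100000 in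
theorem words_12_0 : allB wordsOK 1000 240000 = true := by decide +kernel

set_option maxRecDepth 100000 in
theorem words_12_1 : allB wordsOK 1000 241000 = true := by decide +kernel

set_option maxRecDepth 100000 in
theorem words_12_2 : allB wordsOK 1000 242000 = true := by decide +kernel

set_option maxRecDepth 100000 in
theorem words_12_3 : allB wordsOK 1000 243000 = true := by decide +kernel

set_option maxRecDepth 100000 in
theorem words_12_4 : allB wordsOK 1000 244000 = true := by decide +kernel

set_option maxRecDepth 100000 in
theorem words_12_5 : allB wordsOK 1000 245000 = true := by decide +kernel

set_option maxRecDepth 100000 in
theorem words_12_6 : allB wordsOK 1000 246000 = true := by decide +kernel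

set_option maxRecDepth 100000 in
theorem words_12_7 : allB wordsOK 1000 247000 = true := by decide +kernel

set_option maxRecDepth 100000 in
theorem words_12_8 : allB wordsOK 1000 248000 = true := by decide +kernel

set_option maxRecDepth 100000 in
theorem words_12_9 : allB wordsOK 1000 249000 = true := by decide +kernel

set_option maxRecDepth 100000 in
theorem words_12_10 : allB wordsOK 1000 250000 = true := by decide +kernel

set_option maxRecDepth 100000 in
theorem words_12_11 : allB wordsOK 1000 251000 = true := by decide +kernel

set_option maxRecDepth 100000 in
theorem words_12_12 : allB wordsOK 1000 252000 = true := by decide +kernel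

set_option maxRecDepth 100000 in
theorem words_12_13 : allB wordsOK 1000 253000 = true := by decide +kernel

set_option maxRecDepth 100000 in
theorem words_12_14 : allB wordsOK 1000 254000 = true := by decide +kernel

set_option maxRecDepth 100000 in
theorem words_12_15 : allB wordsOK 1000 255000 = true := by decide +kernel

set_option maxRecDepth 100000 in
theorem words_12_16 : allB wordsOK 1000 256000 = true := by decide +kernel

set_option maxRecDepth 100000 in
theorem words_12_17 : allB wordsOK 1000 257000 = true := by decide +kernel

set_option maxRecDepth 100000 in
theorem words_12_18 : allB wordsOK 1000 258000 = true := by decide +kernel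

set_option maxRecDepth 100000 in
theorem words_12_19 : allB wordsOK 1000 259000 = true := by decide +kernel

theorem words_12 (i : ℕ) (h1 : 240000 ≤ i) (h2 : i < 260000) : wordsOK i = true := by
  by_cases h10 : i < 250000
  ·
    by_cases h5 : i < 245000
    ·
      by_cases h2 : i < 242000
      ·
        by_cases h1 : i < 241000
        ·
          exact allB_sound words_12_0 i (by omega) (by omega)
        ·
          exact allB_sound words_12_1 i (by omega) (by omega)
      ·
        by_cases h3 : i < 243000
        ·
          exact allB_sound words_12_2 i (by omega) (by omega)
        ·
          by_cases h4 : i < 244000
          ·
            exact allB_sound words_12_3 i (by omega) (by omega)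
          ·
            exact allB_sound words_12_4 i (by omega) (by omega)
    ·
      by_cases h7 : i < 247000
      ·
        by_cases h6 : i < 246000
        ·
          exact allB_sound words_12_5 i (by omega) (by omega)
        ·
          exact allB_sound words_12_6 i (by omega) (by omega)
      ·
        by_cases h8 : i < 248000
        ·
          exact allB_sound words_12_7 i (by omega) (by omega)
        ·
          by_cases h9 : i < 249000
          ·
            exact allB_sound words_12_8 i (by omega) (by omega)
          ·
            exact allB_sound words_12_9 i (by omega) (by omega)
  ·
    by_cases h15 : i < 255000
    ·
      by_cases h12 : i < 252000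
      ·
        by_cases h11 : i < 251000
        ·
          exact allB_sound words_12_10 i (by omega) (by omega)
        ·
          exact allB_sound words_12_11 i (by omega) (by omega)
      ·
        by_cases h13 : i < 253000
        ·
          exact allB_sound words_12_12 i (by omega) (by omega)
        ·
          by_cases h14 : i < 254000
          ·
            exact allB_sound words_12_13 i (by omega) (by omega)
          ·
            exact allB_sound words_12_14 i (by omega) (by omega)
    ·
      by_cases h17 : i < 257000
      ·
        by_cases h16 : i < 256000
        ·
          exact allB_sound words_12_15 i (by omega) (by omega)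
        ·
          exact allB_sound words_12_16 i (by omega) (by omega)
      ·
        by_cases h18 : i < 258000
        ·
          exact allB_sound words_12_17 i (by omega) (by omega)
        ·
          by_cases h19 : i < 259000
          ·
            exact allB_sound words_12_18 i (by omega) (by omega)
          ·
            exact allB_sound words_12_19 i (by omega) (by omega)

end Cfsg.Lib.FiFour
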