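import Cfsg.Agent.FiFour.Test

/-!
Kernel checks of the relators on the points, block 13.
-/

set_option autoImplicit false
set_option Elab.async false

namespace Cfsg.Lib.FiFour

set_option maxRecDepth 100000 in
theorem pairs_13_0 : allB pairsOK 1000 260000 = true := by decide +kernel

set_option maxRecDepth 100000 in
theorem pairs_13_1 : allB pairsOK 1000 261000 = true := by decide +kernel

set_option maxRecDepth 100000 in
theorem pairs_13_2 : allB pairsOK 1000 262000 = true := by decide +kernel

set_option maxRecDepth 100000 in
theorem pairs_13_3 : allB pairsOK 1000 263000 = true := by decide +kernel

set_option maxRecDepth 100000 in
theorem pairs_13_4 : allB pairsOK 1000 264000 = true := by decide +kernel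

set_option maxRecDepth 100000 in
theorem pairs_13_5 : allB pairsOK 1000 265000 = true := by decide +kernel

set_option maxRecDepth 100000 in
theorem pairs_13_6 : allB pairsOK 1000 266000 = true := by decide +kernel

set_option maxRecDepth 100000 in
theorem pairs_13_7 : allB pairsOK 1000 267000 = true := by decide +kernel

set_option maxRecDepth 100000 in
theorem pairs_13_8 : allB pairsOK 1000 268000 = true := by decide +kernel

set_option maxRecDepth 100000 in
theorem pairs_13_9 : allB pairsOK 1000 269000 = true := by decide +kernel

set_option maxRecDepth 100000 in
theorem pairs_13_10 : allB pairsOK 1000 270000 = true := by decide +kernel

set_option maxRecDepth 100000 in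
theorem pairs_13_11 : allB pairsOK 1000 271000 = true := by decide +kernel

set_option maxRecDepth 100000 in
theorem pairs_13_12 : allB pairsOK 1000 272000 = true := by decide +kernel

set_option maxRecDepth 100000 in
theorem pairs_13_13 : allB pairsOK 1000 273000 = true := by decide +kernel

set_option maxRecDepth 100000 in
theorem pairs_13_14 : allB pairsOK 1000 274000 = true := by decide +kernel

set_option maxRecDepth 100000 in
theorem pairs_13_15 : allB pairsOK 1000 275000 = true := by decide +kernel

set_option maxRecDepth 100000 in
theorem pairs_13_16 : allB pairsOK 1000 276000 = true := by decide +kernel

set_option maxRecDepth 100000 in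
theorem pairs_13_17 : allB pairsOK 1000 277000 = true := by decide +kernel

set_option maxRecDepth 100000 in
theorem pairs_13_18 : allB pairsOK 1000 278000 = true := by decide +kernel

set_option maxRecDepth 100000 in
theorem pairs_13_19 : allB pairsOK 1000 279000 = true := by decide +kernel

theorem pairs_13 (i : ℕ) (h1 : 260000 ≤ i) (h2 : i < 280000) : pairsOK i = true := by
  by_cases h10 : i < 270000
  ·
    by_cases h5 : i < 265000
    ·
      by_cases h2 : i < 262000
      ·
        by_cases h1 : i < 261000
        ·
          exact allB_sound pairs_13_0 i (by omega) (by omega)
        ·
          exact allB_sound pairs_13_1 i (by omega) (by omega)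
      ·
        by_cases h3 : i < 263000
        ·
          exact allB_sound pairs_13_2 i (by omega) (by omega)
        ·
          by_cases h4 : i < 264000
          ·
            exact allB_sound pairs_13_3 i (by omega) (by omega)
          ·
            exact allB_sound pairs_13_4 i (by omega) (by omega)
    ·
      by_cases h7 : i < 267000
      ·
        by_cases h6 : i < 266000
        ·
          exact allB_sound pairs_13_5 i (by omega) (by omega)
        ·
          exact allB_sound pairs_13_6 i (by omega) (by omega)
      ·
        by_cases h8 : i < 268000
        ·
          exact allB_sound pairs_13_7 i (by omega) (by omega)
        ·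
          by_cases h9 : i < 269000
          ·
            exact allB_sound pairs_13_8 i (by omega) (by omega)
          ·
            exact allB_sound pairs_13_9 i (by omega) (by omega)
  ·
    by_cases h15 : i < 275000
    ·
      by_cases h12 : i < 272000
      ·
        by_cases h11 : i < 271000
        ·
          exact allB_sound pairs_13_10 i (by omega) (by omega)
        ·
          exact allB_sound pairs_13_11 i (by omega) (by omega)
      ·
        by_cases h13 : i < 273000
        ·
          exact allB_sound pairs_13_12 i (by omega) (by omega)
        ·
          by_cases h14 : i < 274000
          ·
            exact allB_sound pairs_13_13 i (by omega) (by omega)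
          ·
            exact allB_sound pairs_13_14 i (by omega) (by omega)
    ·
      by_cases h17 : i < 277000
      ·
        by_cases h16 : i < 276000
        ·
          exact allB_sound pairs_13_15 i (by omega) (by omega)
        ·
          exact allB_sound pairs_13_16 i (by omega) (by omega)
      ·
        by_cases h18 : i < 278000
        ·
          exact allB_sound pairs_13_17 i (by omega) (by omega)
        ·
          by_cases h19 : i < 279000
          ·
            exact allB_sound pairs_13_18 i (by omega) (by omega)
          ·
            exact allB_sound pairs_13_19 i (by omega) (by omega)

set_option maxRecDepth 100000 in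
theorem words_13_0 : allB wordsOK 1000 260000 = true := by decide +kernel

set_option maxRecDepth 100000 in
theorem words_13_1 : allB wordsOK 1000 261000 = true := by decide +kernel

set_option maxRecDepth 100000 in
theorem words_13_2 : allB wordsOK 1000 262000 = true := by decide +kernel

set_option maxRecDepth 100000 in
theorem words_13_3 : allB wordsOK 1000 263000 = true := by decide +kernel

set_option maxRecDepth 100000 in
theorem words_13_4 : allB wordsOK 1000 264000 = true := by decide +kernel

set_option maxRecDepth 100000 in
theorem words_13_5 : allB wordsOK 1000 265000 = true := by decide +kernel

set_option maxRecDepth 100000 in
theorem words_13_6 : allB wordsOK 1000 266000 = true := by decide +kernel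

set_option maxRecDepth 100000 in
theorem words_13_7 : allB wordsOK 1000 267000 = true := by decide +kernel

set_option maxRecDepth 100000 in
theorem words_13_8 : allB wordsOK 1000 268000 = true := by decide +kernel

set_option maxRecDepth 100000 in
theorem words_13_9 : allB wordsOK 1000 269000 = true := by decide +kernel

set_option maxRecDepth 100000 in
theorem words_13_10 : allB wordsOK 1000 270000 = true := by decide +kernel

set_option maxRecDepth 100000 in
theorem words_13_11 : allB wordsOK 1000 271000 = true := by decide +kernel

set_option maxRecDepth 100000 in
theorem words_13_12 : allB wordsOK 1000 272000 = true := by decide +kernel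

set_option maxRecDepth 100000 in
theorem words_13_13 : allB wordsOK 1000 273000 = true := by decide +kernel

set_option maxRecDepth 100000 in
theorem words_13_14 : allB wordsOK 1000 274000 = true := by decide +kernel

set_option maxRecDepth 100000 in
theorem words_13_15 : allB wordsOK 1000 275000 = true := by decide +kernel

set_option maxRecDepth 100000 in
theorem words_13_16 : allB wordsOK 1000 276000 = true := by decide +kernel

set_option maxRecDepth 100000 in
theorem words_13_17 : allB wordsOK 1000 277000 = true := by decide +kernel

set_option maxRecDepth 100000 in
theorem words_13_18 : allB wordsOK 1000 278000 = true := by decide +kernel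

set_option maxRecDepth 100000 in
theorem words_13_19 : allB wordsOK 1000 279000 = true := by decide +kernel

theorem words_13 (i : ℕ) (h1 : 260000 ≤ i) (h2 : i < 280000) : wordsOK i = true := by
  by_cases h10 : i < 270000
  ·
    by_cases h5 : i < 265000
    ·
      by_cases h2 : i < 262000
      ·
        by_cases h1 : i < 261000
        ·
          exact allB_sound words_13_0 i (by omega) (by omega)
        ·
          exact allB_sound words_13_1 i (by omega) (by omega)
      ·
        by_cases h3 : i < 263000
        ·
          exact allB_sound words_13_2 i (by omega) (by omega)
        ·
          by_cases h4 : i < 264000
          ·
            exact allB_sound words_13_3 i (by omega) (by omega)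
          ·
            exact allB_sound words_13_4 i (by omega) (by omega)
    ·
      by_cases h7 : i < 267000
      ·
        by_cases h6 : i < 266000
        ·
          exact allB_sound words_13_5 i (by omega) (by omega)
        ·
          exact allB_sound words_13_6 i (by omega) (by omega)
      ·
        by_cases h8 : i < 268000
        ·
          exact allB_sound words_13_7 i (by omega) (by omega)
        ·
          by_cases h9 : i < 269000
          ·
            exact allB_sound words_13_8 i (by omega) (by omega)
          ·
            exact allB_sound words_13_9 i (by omega) (by omega)
  ·
    by_cases h15 : i < 275000
    ·
      by_cases h12 : i < 272000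
      ·
        by_cases h11 : i < 271000
        ·
          exact allB_sound words_13_10 i (by omega) (by omega)
        ·
          exact allB_sound words_13_11 i (by omega) (by omega)
      ·
        by_cases h13 : i < 273000
        ·
          exact allB_sound words_13_12 i (by omega) (by omega)
        ·
          by_cases h14 : i < 274000
          ·
            exact allB_sound words_13_13 i (by omega) (by omega)
          ·
            exact allB_sound words_13_14 i (by omega) (by omega)
    ·
      by_cases h17 : i < 277000
      ·
        by_cases h16 : i < 276000
        ·
          exact allB_sound words_13_15 i (by omega) (by omega)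
        ·
          exact allB_sound words_13_16 i (by omega) (by omega)
      ·
        by_cases h18 : i < 278000
        ·
          exact allB_sound words_13_17 i (by omega) (by omega)
        ·
          by_cases h19 : i < 279000
          ·
            exact allB_sound words_13_18 i (by omega) (by omega)
          ·
            exact allB_sound words_13_19 i (by omega) (by omega)

end Cfsg.Lib.FiFour
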