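import Cfsg.Agent.FiFour.Test

/-!
Kernel checks of the relators on the points, block 14.
-/

set_option autoImplicit false
set_option Elab.async false

namespace Cfsg.Lib.FiFour

set_option maxRecDepth 100000 in
theorem pairs_14_0 : allB pairsOK 1000 280000 = true := by decide +kernel

set_option maxRecDepth 100000 in
theorem pairs_14_1 : allB pairsOK 1000 281000 = true := by decide +kernel

set_option maxRecDepth 100000 in
theorem pairs_14_2 : allB pairsOK 1000 282000 = true := by decide +kernel

set_option maxRecDepth 100000 in
theorem pairs_14_3 : allB pairsOK 1000 283000 = true := by decide +kernel

set_option maxRecDepth 100000 in
theorem pairs_14_4 : allB pairsOK 1000 284000 = true := by decide +kernel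

set_option maxRecDepth 100000 in
theorem pairs_14_5 : allB pairsOK 1000 285000 = true := by decide +kernel

set_option maxRecDepth 100000 in
theorem pairs_14_6 : allB pairsOK 1000 286000 = true := by decide +kernel

set_option maxRecDepth 100000 in
theorem pairs_14_7 : allB pairsOK 1000 287000 = true := by decide +kernel

set_option maxRecDepth 100000 in
theorem pairs_14_8 : allB pairsOK 1000 288000 = true := by decide +kernel

set_option maxRecDepth 100000 in
theorem pairs_14_9 : allB pairsOK 1000 289000 = true := by decide +kernel

set_option maxRecDepth 100000 in
theorem pairs_14_10 : allB pairsOK 1000 290000 = true := by decide +kernel

set_option maxRecDepth 100000 in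
theorem pairs_14_11 : allB pairsOK 1000 291000 = true := by decide +kernel

set_option maxRecDepth 100000 in
theorem pairs_14_12 : allB pairsOK 1000 292000 = true := by decide +kernel

set_option maxRecDepth 100000 in
theorem pairs_14_13 : allB pairsOK 1000 293000 = true := by decide +kernel

set_option maxRecDepth 100000 in
theorem pairs_14_14 : allB pairsOK 1000 294000 = true := by decide +kernel

set_option maxRecDepth 100000 in
theorem pairs_14_15 : allB pairsOK 1000 295000 = true := by decide +kernel

set_option maxRecDepth 100000 in
theorem pairs_14_16 : allB pairsOK 1000 296000 = true := by decide +kernel

set_option maxRecDepth 100000 in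
theorem pairs_14_17 : allB pairsOK 1000 297000 = true := by decide +kernel

set_option maxRecDepth 100000 in
theorem pairs_14_18 : allB pairsOK 1000 298000 = true := by decide +kernel

set_option maxRecDepth 100000 in
theorem pairs_14_19 : allB pairsOK 1000 299000 = true := by decide +kernel

theorem pairs_14 (i : ℕ) (h1 : 280000 ≤ i) (h2 : i < 300000) : pairsOK i = true := by
  by_cases h10 : i < 290000
  ·
    by_cases h5 : i < 285000
    ·
      by_cases h2 : i < 282000
      ·
        by_cases h1 : i < 281000
        ·
          exact allB_sound pairs_14_0 i (by omega) (by omega)
        ·
          exact allB_sound pairs_14_1 i (by omega) (by omega)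
      ·
        by_cases h3 : i < 283000
        ·
          exact allB_sound pairs_14_2 i (by omega) (by omega)
        ·
          by_cases h4 : i < 284000
          ·
            exact allB_sound pairs_14_3 i (by omega) (by omega)
          ·
            exact allB_sound pairs_14_4 i (by omega) (by omega)
    ·
      by_cases h7 : i < 287000
      ·
        by_cases h6 : i < 286000
        ·
          exact allB_sound pairs_14_5 i (by omega) (by omega)
        ·
          exact allB_sound pairs_14_6 i (by omega) (by omega)
      ·
        by_cases h8 : i < 288000
        ·
          exact allB_sound pairs_14_7 i (by omega) (by omega)
        ·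
          by_cases h9 : i < 289000
          ·
            exact allB_sound pairs_14_8 i (by omega) (by omega)
          ·
            exact allB_sound pairs_14_9 i (by omega) (by omega)
  ·
    by_cases h15 : i < 295000
    ·
      by_cases h12 : i < 292000
      ·
        by_cases h11 : i < 291000
        ·
          exact allB_sound pairs_14_10 i (by omega) (by omega)
        ·
          exact allB_sound pairs_14_11 i (by omega) (by omega)
      ·
        by_cases h13 : i < 293000
        ·
          exact allB_sound pairs_14_12 i (by omega) (by omega)
        ·
          by_cases h14 : i < 294000
          ·
            exact allB_sound pairs_14_13 i (by omega) (by omega)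
          ·
            exact allB_sound pairs_14_14 i (by omega) (by omega)
    ·
      by_cases h17 : i < 297000
      ·
        by_cases h16 : i < 296000
        ·
          exact allB_sound pairs_14_15 i (by omega) (by omega)
        ·
          exact allB_sound pairs_14_16 i (by omega) (by omega)
      ·
        by_cases h18 : i < 298000
        ·
          exact allB_sound pairs_14_17 i (by omega) (by omega)
        ·
          by_cases h19 : i < 299000
          ·
            exact allB_sound pairs_14_18 i (by omega) (by omega)
          ·
            exact allB_sound pairs_14_19 i (by omega) (by omega)

set_option maxRecDepth 100000 in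
theorem words_14_0 : allB wordsOK 1000 280000 = true := by decide +kernel

set_option maxRecDepth 100000 in
theorem words_14_1 : allB wordsOK 1000 281000 = true := by decide +kernel

set_option maxRecDepth 100000 in
theorem words_14_2 : allB wordsOK 1000 282000 = true := by decide +kernel

set_option maxRecDepth 100000 in
theorem words_14_3 : allB wordsOK 1000 283000 = true := by decide +kernel

set_option maxRecDepth 100000 in
theorem words_14_4 : allB wordsOK 1000 284000 = true := by decide +kernel

set_option maxRecDepth 100000 in
theorem words_14_5 : allB wordsOK 1000 285000 = true := by decide +kernel

set_option maxRecDepth 100000 in
theorem words_14_6 : allB wordsOK 1000 286000 = true := by decide +kernel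

set_option maxRecDepth 100000 in
theorem words_14_7 : allB wordsOK 1000 287000 = true := by decide +kernel

set_option maxRecDepth 100000 in
theorem words_14_8 : allB wordsOK 1000 288000 = true := by decide +kernel

set_option maxRecDepth 100000 in
theorem words_14_9 : allB wordsOK 1000 289000 = true := by decide +kernel

set_option maxRecDepth 100000 in
theorem words_14_10 : allB wordsOK 1000 290000 = true := by decide +kernel

set_option maxRecDepth 100000 in
theorem words_14_11 : allB wordsOK 1000 291000 = true := by decide +kernel

set_option maxRecDepth 100000 in
theorem words_14_12 : allB wordsOK 1000 292000 = true := by decide +kernel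

set_option maxRecDepth 100000 in
theorem words_14_13 : allB wordsOK 1000 293000 = true := by decide +kernel

set_option maxRecDepth 100000 in
theorem words_14_14 : allB wordsOK 1000 294000 = true := by decide +kernel

set_option maxRecDepth 100000 in
theorem words_14_15 : allB wordsOK 1000 295000 = true := by decide +kernel

set_option maxRecDepth 100000 in
theorem words_14_16 : allB wordsOK 1000 296000 = true := by decide +kernel

set_option maxRecDepth 100000 in
theorem words_14_17 : allB wordsOK 1000 297000 = true := by decide +kernel

set_option maxRecDepth 100000 in
theorem words_14_18 : allB wordsOK 1000 298000 = true := by decide +kernel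

set_option maxRecDepth 100000 in
theorem words_14_19 : allB wordsOK 1000 299000 = true := by decide +kernel

theorem words_14 (i : ℕ) (h1 : 280000 ≤ i) (h2 : i < 300000) : wordsOK i = true := by
  by_cases h10 : i < 290000
  ·
    by_cases h5 : i < 285000
    ·
      by_cases h2 : i < 282000
      ·
        by_cases h1 : i < 281000
        ·
          exact allB_sound words_14_0 i (by omega) (by omega)
        ·
          exact allB_sound words_14_1 i (by omega) (by omega)
      ·
        by_cases h3 : i < 283000
        ·
          exact allB_sound words_14_2 i (by omega) (by omega)
        ·
          by_cases h4 : i < 284000
          ·
            exact allB_sound words_14_3 i (by omega) (by omega)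
          ·
            exact allB_sound words_14_4 i (by omega) (by omega)
    ·
      by_cases h7 : i < 287000
      ·
        by_cases h6 : i < 286000
        ·
          exact allB_sound words_14_5 i (by omega) (by omega)
        ·
          exact allB_sound words_14_6 i (by omega) (by omega)
      ·
        by_cases h8 : i < 288000
        ·
          exact allB_sound words_14_7 i (by omega) (by omega)
        ·
          by_cases h9 : i < 289000
          ·
            exact allB_sound words_14_8 i (by omega) (by omega)
          ·
            exact allB_sound words_14_9 i (by omega) (by omega)
  ·
    by_cases h15 : i < 295000
    ·
      by_cases h12 : i < 292000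
      ·
        by_cases h11 : i < 291000
        ·
          exact allB_sound words_14_10 i (by omega) (by omega)
        ·
          exact allB_sound words_14_11 i (by omega) (by omega)
      ·
        by_cases h13 : i < 293000
        ·
          exact allB_sound words_14_12 i (by omega) (by omega)
        ·
          by_cases h14 : i < 294000
          ·
            exact allB_sound words_14_13 i (by omega) (by omega)
          ·
            exact allB_sound words_14_14 i (by omega) (by omega)
    ·
      by_cases h17 : i < 297000
      ·
        by_cases h16 : i < 296000
        ·
          exact allB_sound words_14_15 i (by omega) (by omega)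
        ·
          exact allB_sound words_14_16 i (by omega) (by omega)
      ·
        by_cases h18 : i < 298000
        ·
          exact allB_sound words_14_17 i (by omega) (by omega)
        ·
          by_cases h19 : i < 299000
          ·
            exact allB_sound words_14_18 i (by omega) (by omega)
          ·
            exact allB_sound words_14_19 i (by omega) (by omega)

end Cfsg.Lib.FiFour
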