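import Cfsg.Agent.FiFour.Test

/-!
Kernel checks of the relators on the points, block 15.
-/

set_option autoImplicit false
set_option Elab.async false

namespace Cfsg.Lib.FiFour

set_option maxRecDepth 100000 in
theorem pairs_15_0 : allB pairsOK 1000 300000 = true := by decide +kernel

set_option maxRecDepth 100000 in
theorem pairs_15_1 : allB pairsOK 1000 301000 = true := by decide +kernel

set_option maxRecDepth 100000 in
theorem pairs_15_2 : allB pairsOK 1000 302000 = true := by decide +kernel

set_option maxRecDepth 100000 in
theorem pairs_15_3 : allB pairsOK 1000 303000 = true := by decide +kernel

set_option maxRecDepth 100000 in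
theorem pairs_15_4 : allB pairsOK 1000 304000 = true := by decide +kernel

set_option maxRecDepth 100000 in
theorem pairs_15_5 : allB pairsOK 1000 305000 = true := by decide +kernel

set_option maxRecDepth 100000 in
theorem pairs_15_6 : allB pairsOK 936 306000 = true := by decide +kernel

theorem pairs_15 (i : ℕ) (h1 : 300000 ≤ i) (h2 : i < 306936) : pairsOK i = true := by
  by_cases h3 : i < 303000
  ·
    by_cases h1 : i < 301000
    ·
      exact allB_sound pairs_15_0 i (by omega) (by omega)
    ·
      by_cases h2 : i < 302000
      ·
        exact allB_sound pairs_15_1 i (by omega) (by omega)
      ·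
        exact allB_sound pairs_15_2 i (by omega) (by omega)
  ·
    by_cases h5 : i < 305000
    ·
      by_cases h4 : i < 304000
      ·
        exact allB_sound pairs_15_3 i (by omega) (by omega)
      ·
        exact allB_sound pairs_15_4 i (by omega) (by omega)
    ·
      by_cases h6 : i < 306000
      ·
        exact allB_sound pairs_15_5 i (by omega) (by omega)
      ·
        exact allB_sound pairs_15_6 i (by omega) (by omega)

set_option maxRecDepth 100000 in
theorem words_15_0 : allB wordsOK 1000 300000 = true := by decide +kernel

set_option maxRecDepth 100000 in
theorem words_15_1 : allB wordsOK 1000 301000 = true := by decide +kernel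

set_option maxRecDepth 100000 in
theorem words_15_2 : allB wordsOK 1000 302000 = true := by decide +kernel

set_option maxRecDepth 100000 in
theorem words_15_3 : allB wordsOK 1000 303000 = true := by decide +kernel

set_option maxRecDepth 100000 in
theorem words_15_4 : allB wordsOK 1000 304000 = true := by decide +kernel

set_option maxRecDepth 100000 in
theorem words_15_5 : allB wordsOK 1000 305000 = true := by decide +kernel

set_option maxRecDepth 100000 in
theorem words_15_6 : allB wordsOK 936 306000 = true := by decide +kernel

theorem words_15 (i : ℕ) (h1 : 300000 ≤ i) (h2 : i < 306936) : wordsOK i = true := by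
  by_cases h3 : i < 303000
  ·
    by_cases h1 : i < 301000
    ·
      exact allB_sound words_15_0 i (by omega) (by omega)
    ·
      by_cases h2 : i < 302000
      ·
        exact allB_sound words_15_1 i (by omega) (by omega)
      ·
        exact allB_sound words_15_2 i (by omega) (by omega)
  ·
    by_cases h5 : i < 305000
    ·
      by_cases h4 : i < 304000
      ·
        exact allB_sound words_15_3 i (by omega) (by omega)
      ·
        exact allB_sound words_15_4 i (by omega) (by omega)
    ·
      by_cases h6 : i < 306000
      ·
        exact allB_sound words_15_5 i (by omega) (by omega)
      ·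
        exact allB_sound words_15_6 i (by omega) (by omega)

end Cfsg.Lib.FiFour
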