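import Cfsg.Agent.FiFour.Test

/-!
Kernel checks of the relators on the points, block 2.
-/

set_option autoImplicit false
set_option Elab.async false

namespace Cfsg.Lib.FiFour

set_option maxRecDepth 100000 in
theorem pairs_2_0 : allB pairsOK 1000 40000 = true := by decide +kernel

set_option maxRecDepth 100000 in
theorem pairs_2_1 : allB pairsOK 1000 41000 = true := by decide +kernel

set_option maxRecDepth 100000 in
theorem pairs_2_2 : allB pairsOK 1000 42000 = true := by decide +kernel

set_option maxRecDepth 100000 in
theorem pairs_2_3 : allB pairsOK 1000 43000 = true := by decide +kernel

set_option maxRecDepth 100000 in
theorem pairs_2_4 : allB pairsOK 1000 44000 = true := by decide +kernel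

set_option maxRecDepth 100000 in
theorem pairs_2_5 : allB pairsOK 1000 45000 = true := by decide +kernel

set_option maxRecDepth 100000 in
theorem pairs_2_6 : allB pairsOK 1000 46000 = true := by decide +kernel

set_option maxRecDepth 100000 in
theorem pairs_2_7 : allB pairsOK 1000 47000 = true := by decide +kernel

set_option maxRecDepth 100000 in
theorem pairs_2_8 : allB pairsOK 1000 48000 = true := by decide +kernel

set_option maxRecDepth 100000 in
theorem pairs_2_9 : allB pairsOK 1000 49000 = true := by decide +kernel

set_option maxRecDepth 100000 in
theorem pairs_2_10 : allB pairsOK 1000 50000 = true := by decide +kernel

set_option maxRecDepth 100000 in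
theorem pairs_2_11 : allB pairsOK 1000 51000 = true := by decide +kernel

set_option maxRecDepth 100000 in
theorem pairs_2_12 : allB pairsOK 1000 52000 = true := by decide +kernel

set_option maxRecDepth 100000 in
theorem pairs_2_13 : allB pairsOK 1000 53000 = true := by decide +kernel

set_option maxRecDepth 100000 in
theorem pairs_2_14 : allB pairsOK 1000 54000 = true := by decide +kernel

set_option maxRecDepth 100000 in
theorem pairs_2_15 : allB pairsOK 1000 55000 = true := by decide +kernel

set_option maxRecDepth 100000 in
theorem pairs_2_16 : allB pairsOK 1000 56000 = true := by decide +kernel

set_option maxRecDepth 100000 in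
theorem pairs_2_17 : allB pairsOK 1000 57000 = true := by decide +kernel

set_option maxRecDepth 100000 in
theorem pairs_2_18 : allB pairsOK 1000 58000 = true := by decide +kernel

set_option maxRecDepth 100000 in
theorem pairs_2_19 : allB pairsOK 1000 59000 = true := by decide +kernel

theorem pairs_2 (i : ℕ) (h1 : 40000 ≤ i) (h2 : i < 60000) : pairsOK i = true := by
  by_cases h10 : i < 50000
  ·
    by_cases h5 : i < 45000
    ·
      by_cases h2 : i < 42000
      ·
        by_cases h1 : i < 41000
        ·
          exact allB_sound pairs_2_0 i (by omega) (by omega)
        ·
          exact allB_sound pairs_2_1 i (by omega) (by omega)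
      ·
        by_cases h3 : i < 43000
        ·
          exact allB_sound pairs_2_2 i (by omega) (by omega)
        ·
          by_cases h4 : i < 44000
          ·
            exact allB_sound pairs_2_3 i (by omega) (by omega)
          ·
            exact allB_sound pairs_2_4 i (by omega) (by omega)
    ·
      by_cases h7 : i < 47000
      ·
        by_cases h6 : i < 46000
        ·
          exact allB_sound pairs_2_5 i (by omega) (by omega)
        ·
          exact allB_sound pairs_2_6 i (by omega) (by omega)
      ·
        by_cases h8 : i < 48000
        ·
          exact allB_sound pairs_2_7 i (by omega) (by omega)
        ·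
          by_cases h9 : i < 49000
          ·
            exact allB_sound pairs_2_8 i (by omega) (by omega)
          ·
            exact allB_sound pairs_2_9 i (by omega) (by omega)
  ·
    by_cases h15 : i < 55000
    ·
      by_cases h12 : i < 52000
      ·
        by_cases h11 : i < 51000
        ·
          exact allB_sound pairs_2_10 i (by omega) (by omega)
        ·
          exact allB_sound pairs_2_11 i (by omega) (by omega)
      ·
        by_cases h13 : i < 53000
        ·
          exact allB_sound pairs_2_12 i (by omega) (by omega)
        ·
          by_cases h14 : i < 54000
          ·
            exact allB_sound pairs_2_13 i (by omega) (by omega)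
          ·
            exact allB_sound pairs_2_14 i (by omega) (by omega)
    ·
      by_cases h17 : i < 57000
      ·
        by_cases h16 : i < 56000
        ·
          exact allB_sound pairs_2_15 i (by omega) (by omega)
        ·
          exact allB_sound pairs_2_16 i (by omega) (by omega)
      ·
        by_cases h18 : i < 58000
        ·
          exact allB_sound pairs_2_17 i (by omega) (by omega)
        ·
          by_cases h19 : i < 59000
          ·
            exact allB_sound pairs_2_18 i (by omega) (by omega)
          ·
            exact allB_sound pairs_2_19 i (by omega) (by omega)

set_option maxRecDepth 100000 in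
theorem words_2_0 : allB wordsOK 1000 40000 = true := by decide +kernel

set_option maxRecDepth 100000 in
theorem words_2_1 : allB wordsOK 1000 41000 = true := by decide +kernel

set_option maxRecDepth 100000 in
theorem words_2_2 : allB wordsOK 1000 42000 = true := by decide +kernel

set_option maxRecDepth 100000 in
theorem words_2_3 : allB wordsOK 1000 43000 = true := by decide +kernel

set_option maxRecDepth 100000 in
theorem words_2_4 : allB wordsOK 1000 44000 = true := by decide +kernel

set_option maxRecDepth 100000 in
theorem words_2_5 : allB wordsOK 1000 45000 = true := by decide +kernel

set_option maxRecDepth 100000 in
theorem words_2_6 : allB wordsOK 1000 46000 = true := by decide +kernel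

set_option maxRecDepth 100000 in
theorem words_2_7 : allB wordsOK 1000 47000 = true := by decide +kernel

set_option maxRecDepth 100000 in
theorem words_2_8 : allB wordsOK 1000 48000 = true := by decide +kernel

set_option maxRecDepth 100000 in
theorem words_2_9 : allB wordsOK 1000 49000 = true := by decide +kernel

set_option maxRecDepth 100000 in
theorem words_2_10 : allB wordsOK 1000 50000 = true := by decide +kernel

set_option maxRecDepth 100000 in
theorem words_2_11 : allB wordsOK 1000 51000 = true := by decide +kernel

set_option maxRecDepth 100000 in
theorem words_2_12 : allB wordsOK 1000 52000 = true := by decide +kernel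

set_option maxRecDepth 100000 in
theorem words_2_13 : allB wordsOK 1000 53000 = true := by decide +kernel

set_option maxRecDepth 100000 in
theorem words_2_14 : allB wordsOK 1000 54000 = true := by decide +kernel

set_option maxRecDepth 100000 in
theorem words_2_15 : allB wordsOK 1000 55000 = true := by decide +kernel

set_option maxRecDepth 100000 in
theorem words_2_16 : allB wordsOK 1000 56000 = true := by decide +kernel

set_option maxRecDepth 100000 in
theorem words_2_17 : allB wordsOK 1000 57000 = true := by decide +kernel

set_option maxRecDepth 100000 in
theorem words_2_18 : allB wordsOK 1000 58000 = true := by decide +kernel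

set_option maxRecDepth 100000 in
theorem words_2_19 : allB wordsOK 1000 59000 = true := by decide +kernel

theorem words_2 (i : ℕ) (h1 : 40000 ≤ i) (h2 : i < 60000) : wordsOK i = true := by
  by_cases h10 : i < 50000
  ·
    by_cases h5 : i < 45000
    ·
      by_cases h2 : i < 42000
      ·
        by_cases h1 : i < 41000
        ·
          exact allB_sound words_2_0 i (by omega) (by omega)
        ·
          exact allB_sound words_2_1 i (by omega) (by omega)
      ·
        by_cases h3 : i < 43000
        ·
          exact allB_sound words_2_2 i (by omega) (by omega)
        ·
          by_cases h4 : i < 44000
          ·
            exact allB_sound words_2_3 i (by omega) (by omega)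
          ·
            exact allB_sound words_2_4 i (by omega) (by omega)
    ·
      by_cases h7 : i < 47000
      ·
        by_cases h6 : i < 46000
        ·
          exact allB_sound words_2_5 i (by omega) (by omega)
        ·
          exact allB_sound words_2_6 i (by omega) (by omega)
      ·
        by_cases h8 : i < 48000
        ·
          exact allB_sound words_2_7 i (by omega) (by omega)
        ·
          by_cases h9 : i < 49000
          ·
            exact allB_sound words_2_8 i (by omega) (by omega)
          ·
            exact allB_sound words_2_9 i (by omega) (by omega)
  ·
    by_cases h15 : i < 55000
    ·
      by_cases h12 : i < 52000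
      ·
        by_cases h11 : i < 51000
        ·
          exact allB_sound words_2_10 i (by omega) (by omega)
        ·
          exact allB_sound words_2_11 i (by omega) (by omega)
      ·
        by_cases h13 : i < 53000
        ·
          exact allB_sound words_2_12 i (by omega) (by omega)
        ·
          by_cases h14 : i < 54000
          ·
            exact allB_sound words_2_13 i (by omega) (by omega)
          ·
            exact allB_sound words_2_14 i (by omega) (by omega)
    ·
      by_cases h17 : i < 57000
      ·
        by_cases h16 : i < 56000
        ·
          exact allB_sound words_2_15 i (by omega) (by omega)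
        ·
          exact allB_sound words_2_16 i (by omega) (by omega)
      ·
        by_cases h18 : i < 58000
        ·
          exact allB_sound words_2_17 i (by omega) (by omega)
        ·
          by_cases h19 : i < 59000
          ·
            exact allB_sound words_2_18 i (by omega) (by omega)
          ·
            exact allB_sound words_2_19 i (by omega) (by omega)

end Cfsg.Lib.FiFour
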