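import Cfsg.Agent.FiFour.Test

/-!
Kernel checks of the relators on the points, block 3.
-/

set_option autoImplicit false
set_option Elab.async false

namespace Cfsg.Lib.FiFour

set_option maxRecDepth 100000 in
theorem pairs_3_0 : allB pairsOK 1000 60000 = true := by decide +kernel

set_option maxRecDepth 100000 in
theorem pairs_3_1 : allB pairsOK 1000 61000 = true := by decide +kernel

set_option maxRecDepth 100000 in
theorem pairs_3_2 : allB pairsOK 1000 62000 = true := by decide +kernel

set_option maxRecDepth 100000 in
theorem pairs_3_3 : allB pairsOK 1000 63000 = true := by decide +kernel

set_option maxRecDepth 100000 in
theorem pairs_3_4 : allB pairsOK 1000 64000 = true := by decide +kernel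

set_option maxRecDepth 100000 in
theorem pairs_3_5 : allB pairsOK 1000 65000 = true := by decide +kernel

set_option maxRecDepth 100000 in
theorem pairs_3_6 : allB pairsOK 1000 66000 = true := by decide +kernel

set_option maxRecDepth 100000 in
theorem pairs_3_7 : allB pairsOK 1000 67000 = true := by decide +kernel

set_option maxRecDepth 100000 in
theorem pairs_3_8 : allB pairsOK 1000 68000 = true := by decide +kernel

set_option maxRecDepth 100000 in
theorem pairs_3_9 : allB pairsOK 1000 69000 = true := by decide +kernel

set_option maxRecDepth 100000 in
theorem pairs_3_10 : allB pairsOK 1000 70000 = true := by decide +kernel

set_option maxRecDepth 100000 in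
theorem pairs_3_11 : allB pairsOK 1000 71000 = true := by decide +kernel

set_option maxRecDepth 100000 in
theorem pairs_3_12 : allB pairsOK 1000 72000 = true := by decide +kernel

set_option maxRecDepth 100000 in
theorem pairs_3_13 : allB pairsOK 1000 73000 = true := by decide +kernel

set_option maxRecDepth 100000 in
theorem pairs_3_14 : allB pairsOK 1000 74000 = true := by decide +kernel

set_option maxRecDepth 100000 in
theorem pairs_3_15 : allB pairsOK 1000 75000 = true := by decide +kernel

set_option maxRecDepth 100000 in
theorem pairs_3_16 : allB pairsOK 1000 76000 = true := by decide +kernel

set_option maxRecDepth 100000 in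
theorem pairs_3_17 : allB pairsOK 1000 77000 = true := by decide +kernel

set_option maxRecDepth 100000 in
theorem pairs_3_18 : allB pairsOK 1000 78000 = true := by decide +kernel

set_option maxRecDepth 100000 in
theorem pairs_3_19 : allB pairsOK 1000 79000 = true := by decide +kernel

theorem pairs_3 (i : ℕ) (h1 : 60000 ≤ i) (h2 : i < 80000) : pairsOK i = true := by
  by_cases h10 : i < 70000
  ·
    by_cases h5 : i < 65000
    ·
      by_cases h2 : i < 62000
      ·
        by_cases h1 : i < 61000
        ·
          exact allB_sound pairs_3_0 i (by omega) (by omega)
        ·
          exact allB_sound pairs_3_1 i (by omega) (by omega)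
      ·
        by_cases h3 : i < 63000
        ·
          exact allB_sound pairs_3_2 i (by omega) (by omega)
        ·
          by_cases h4 : i < 64000
          ·
            exact allB_sound pairs_3_3 i (by omega) (by omega)
          ·
            exact allB_sound pairs_3_4 i (by omega) (by omega)
    ·
      by_cases h7 : i < 67000
      ·
        by_cases h6 : i < 66000
        ·
          exact allB_sound pairs_3_5 i (by omega) (by omega)
        ·
          exact allB_sound pairs_3_6 i (by omega) (by omega)
      ·
        by_cases h8 : i < 68000
        ·
          exact allB_sound pairs_3_7 i (by omega) (by omega)
        ·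
          by_cases h9 : i < 69000
          ·
            exact allB_sound pairs_3_8 i (by omega) (by omega)
          ·
            exact allB_sound pairs_3_9 i (by omega) (by omega)
  ·
    by_cases h15 : i < 75000
    ·
      by_cases h12 : i < 72000
      ·
        by_cases h11 : i < 71000
        ·
          exact allB_sound pairs_3_10 i (by omega) (by omega)
        ·
          exact allB_sound pairs_3_11 i (by omega) (by omega)
      ·
        by_cases h13 : i < 73000
        ·
          exact allB_sound pairs_3_12 i (by omega) (by omega)
        ·
          by_cases h14 : i < 74000
          ·
            exact allB_sound pairs_3_13 i (by omega) (by omega)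
          ·
            exact allB_sound pairs_3_14 i (by omega) (by omega)
    ·
      by_cases h17 : i < 77000
      ·
        by_cases h16 : i < 76000
        ·
          exact allB_sound pairs_3_15 i (by omega) (by omega)
        ·
          exact allB_sound pairs_3_16 i (by omega) (by omega)
      ·
        by_cases h18 : i < 78000
        ·
          exact allB_sound pairs_3_17 i (by omega) (by omega)
        ·
          by_cases h19 : i < 79000
          ·
            exact allB_sound pairs_3_18 i (by omega) (by omega)
          ·
            exact allB_sound pairs_3_19 i (by omega) (by omega)

set_option maxRecDepth 100000 in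
theorem words_3_0 : allB wordsOK 1000 60000 = true := by decide +kernel

set_option maxRecDepth 100000 in
theorem words_3_1 : allB wordsOK 1000 61000 = true := by decide +kernel

set_option maxRecDepth 100000 in
theorem words_3_2 : allB wordsOK 1000 62000 = true := by decide +kernel

set_option maxRecDepth 100000 in
theorem words_3_3 : allB wordsOK 1000 63000 = true := by decide +kernel

set_option maxRecDepth 100000 in
theorem words_3_4 : allB wordsOK 1000 64000 = true := by decide +kernel

set_option maxRecDepth 100000 in
theorem words_3_5 : allB wordsOK 1000 65000 = true := by decide +kernel

set_option maxRecDepth 100000 in
theorem words_3_6 : allB wordsOK 1000 66000 = true := by decide +kernel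

set_option maxRecDepth 100000 in
theorem words_3_7 : allB wordsOK 1000 67000 = true := by decide +kernel

set_option maxRecDepth 100000 in
theorem words_3_8 : allB wordsOK 1000 68000 = true := by decide +kernel

set_option maxRecDepth 100000 in
theorem words_3_9 : allB wordsOK 1000 69000 = true := by decide +kernel

set_option maxRecDepth 100000 in
theorem words_3_10 : allB wordsOK 1000 70000 = true := by decide +kernel

set_option maxRecDepth 100000 in
theorem words_3_11 : allB wordsOK 1000 71000 = true := by decide +kernel

set_option maxRecDepth 100000 in
theorem words_3_12 : allB wordsOK 1000 72000 = true := by decide +kernel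

set_option maxRecDepth 100000 in
theorem words_3_13 : allB wordsOK 1000 73000 = true := by decide +kernel

set_option maxRecDepth 100000 in
theorem words_3_14 : allB wordsOK 1000 74000 = true := by decide +kernel

set_option maxRecDepth 100000 in
theorem words_3_15 : allB wordsOK 1000 75000 = true := by decide +kernel

set_option maxRecDepth 100000 in
theorem words_3_16 : allB wordsOK 1000 76000 = true := by decide +kernel

set_option maxRecDepth 100000 in
theorem words_3_17 : allB wordsOK 1000 77000 = true := by decide +kernel

set_option maxRecDepth 100000 in
theorem words_3_18 : allB wordsOK 1000 78000 = true := by decide +kernel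

set_option maxRecDepth 100000 in
theorem words_3_19 : allB wordsOK 1000 79000 = true := by decide +kernel

theorem words_3 (i : ℕ) (h1 : 60000 ≤ i) (h2 : i < 80000) : wordsOK i = true := by
  by_cases h10 : i < 70000
  ·
    by_cases h5 : i < 65000
    ·
      by_cases h2 : i < 62000
      ·
        by_cases h1 : i < 61000
        ·
          exact allB_sound words_3_0 i (by omega) (by omega)
        ·
          exact allB_sound words_3_1 i (by omega) (by omega)
      ·
        by_cases h3 : i < 63000
        ·
          exact allB_sound words_3_2 i (by omega) (by omega)
        ·
          by_cases h4 : i < 64000
          ·
            exact allB_sound words_3_3 i (by omega) (by omega)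
          ·
            exact allB_sound words_3_4 i (by omega) (by omega)
    ·
      by_cases h7 : i < 67000
      ·
        by_cases h6 : i < 66000
        ·
          exact allB_sound words_3_5 i (by omega) (by omega)
        ·
          exact allB_sound words_3_6 i (by omega) (by omega)
      ·
        by_cases h8 : i < 68000
        ·
          exact allB_sound words_3_7 i (by omega) (by omega)
        ·
          by_cases h9 : i < 69000
          ·
            exact allB_sound words_3_8 i (by omega) (by omega)
          ·
            exact allB_sound words_3_9 i (by omega) (by omega)
  ·
    by_cases h15 : i < 75000
    ·
      by_cases h12 : i < 72000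
      ·
        by_cases h11 : i < 71000
        ·
          exact allB_sound words_3_10 i (by omega) (by omega)
        ·
          exact allB_sound words_3_11 i (by omega) (by omega)
      ·
        by_cases h13 : i < 73000
        ·
          exact allB_sound words_3_12 i (by omega) (by omega)
        ·
          by_cases h14 : i < 74000
          ·
            exact allB_sound words_3_13 i (by omega) (by omega)
          ·
            exact allB_sound words_3_14 i (by omega) (by omega)
    ·
      by_cases h17 : i < 77000
      ·
        by_cases h16 : i < 76000
        ·
          exact allB_sound words_3_15 i (by omega) (by omega)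
        ·
          exact allB_sound words_3_16 i (by omega) (by omega)
      ·
        by_cases h18 : i < 78000
        ·
          exact allB_sound words_3_17 i (by omega) (by omega)
        ·
          by_cases h19 : i < 79000
          ·
            exact allB_sound words_3_18 i (by omega) (by omega)
          ·
            exact allB_sound words_3_19 i (by omega) (by omega)

end Cfsg.Lib.FiFour
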