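import Cfsg.Agent.FiFour.Test

/-!
Kernel checks of the relators on the points, block 4.
-/

set_option autoImplicit false
set_option Elab.async false

namespace Cfsg.Lib.FiFour

set_option maxRecDepth 100000 in
theorem pairs_4_0 : allB pairsOK 1000 80000 = true := by decide +kernel

set_option maxRecDepth 100000 in
theorem pairs_4_1 : allB pairsOK 1000 81000 = true := by decide +kernel

set_option maxRecDepth 100000 in
theorem pairs_4_2 : allB pairsOK 1000 82000 = true := by decide +kernel

set_option maxRecDepth 100000 in
theorem pairs_4_3 : allB pairsOK 1000 83000 = true := by decide +kernel

set_option maxRecDepth 100000 in
theorem pairs_4_4 : allB pairsOK 1000 84000 = true := by decide +kernel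

set_option maxRecDepth 100000 in
theorem pairs_4_5 : allB pairsOK 1000 85000 = true := by decide +kernel

set_option maxRecDepth 100000 in
theorem pairs_4_6 : allB pairsOK 1000 86000 = true := by decide +kernel

set_option maxRecDepth 100000 in
theorem pairs_4_7 : allB pairsOK 1000 87000 = true := by decide +kernel

set_option maxRecDepth 100000 in
theorem pairs_4_8 : allB pairsOK 1000 88000 = true := by decide +kernel

set_option maxRecDepth 100000 in
theorem pairs_4_9 : allB pairsOK 1000 89000 = true := by decide +kernel

set_option maxRecDepth 100000 in
theorem pairs_4_10 : allB pairsOK 1000 90000 = true := by decide +kernel

set_option maxRecDepth 100000 in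
theorem pairs_4_11 : allB pairsOK 1000 91000 = true := by decide +kernel

set_option maxRecDepth 100000 in
theorem pairs_4_12 : allB pairsOK 1000 92000 = true := by decide +kernel

set_option maxRecDepth 100000 in
theorem pairs_4_13 : allB pairsOK 1000 93000 = true := by decide +kernel

set_option maxRecDepth 100000 in
theorem pairs_4_14 : allB pairsOK 1000 94000 = true := by decide +kernel

set_option maxRecDepth 100000 in
theorem pairs_4_15 : allB pairsOK 1000 95000 = true := by decide +kernel

set_option maxRecDepth 100000 in
theorem pairs_4_16 : allB pairsOK 1000 96000 = true := by decide +kernel

set_option maxRecDepth 100000 in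
theorem pairs_4_17 : allB pairsOK 1000 97000 = true := by decide +kernel

set_option maxRecDepth 100000 in
theorem pairs_4_18 : allB pairsOK 1000 98000 = true := by decide +kernel

set_option maxRecDepth 100000 in
theorem pairs_4_19 : allB pairsOK 1000 99000 = true := by decide +kernel

theorem pairs_4 (i : ℕ) (h1 : 80000 ≤ i) (h2 : i < 100000) : pairsOK i = true := by
  by_cases h10 : i < 90000
  ·
    by_cases h5 : i < 85000
    ·
      by_cases h2 : i < 82000
      ·
        by_cases h1 : i < 81000
        ·
          exact allB_sound pairs_4_0 i (by omega) (by omega)
        ·
          exact allB_sound pairs_4_1 i (by omega) (by omega)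
      ·
        by_cases h3 : i < 83000
        ·
          exact allB_sound pairs_4_2 i (by omega) (by omega)
        ·
          by_cases h4 : i < 84000
          ·
            exact allB_sound pairs_4_3 i (by omega) (by omega)
          ·
            exact allB_sound pairs_4_4 i (by omega) (by omega)
    ·
      by_cases h7 : i < 87000
      ·
        by_cases h6 : i < 86000
        ·
          exact allB_sound pairs_4_5 i (by omega) (by omega)
        ·
          exact allB_sound pairs_4_6 i (by omega) (by omega)
      ·
        by_cases h8 : i < 88000
        ·
          exact allB_sound pairs_4_7 i (by omega) (by omega)
        ·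
          by_cases h9 : i < 89000
          ·
            exact allB_sound pairs_4_8 i (by omega) (by omega)
          ·
            exact allB_sound pairs_4_9 i (by omega) (by omega)
  ·
    by_cases h15 : i < 95000
    ·
      by_cases h12 : i < 92000
      ·
        by_cases h11 : i < 91000
        ·
          exact allB_sound pairs_4_10 i (by omega) (by omega)
        ·
          exact allB_sound pairs_4_11 i (by omega) (by omega)
      ·
        by_cases h13 : i < 93000
        ·
          exact allB_sound pairs_4_12 i (by omega) (by omega)
        ·
          by_cases h14 : i < 94000
          ·
            exact allB_sound pairs_4_13 i (by omega) (by omega)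
          ·
            exact allB_sound pairs_4_14 i (by omega) (by omega)
    ·
      by_cases h17 : i < 97000
      ·
        by_cases h16 : i < 96000
        ·
          exact allB_sound pairs_4_15 i (by omega) (by omega)
        ·
          exact allB_sound pairs_4_16 i (by omega) (by omega)
      ·
        by_cases h18 : i < 98000
        ·
          exact allB_sound pairs_4_17 i (by omega) (by omega)
        ·
          by_cases h19 : i < 99000
          ·
            exact allB_sound pairs_4_18 i (by omega) (by omega)
          ·
            exact allB_sound pairs_4_19 i (by omega) (by omega)

set_option maxRecDepth 100000 in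
theorem words_4_0 : allB wordsOK 1000 80000 = true := by decide +kernel

set_option maxRecDepth 100000 in
theorem words_4_1 : allB wordsOK 1000 81000 = true := by decide +kernel

set_option maxRecDepth 100000 in
theorem words_4_2 : allB wordsOK 1000 82000 = true := by decide +kernel

set_option maxRecDepth 100000 in
theorem words_4_3 : allB wordsOK 1000 83000 = true := by decide +kernel

set_option maxRecDepth 100000 in
theorem words_4_4 : allB wordsOK 1000 84000 = true := by decide +kernel

set_option maxRecDepth 100000 in
theorem words_4_5 : allB wordsOK 1000 85000 = true := by decide +kernel

set_option maxRecDepth 100000 in
theorem words_4_6 : allB wordsOK 1000 86000 = true := by decide +kernel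

set_option maxRecDepth 100000 in
theorem words_4_7 : allB wordsOK 1000 87000 = true := by decide +kernel

set_option maxRecDepth 100000 in
theorem words_4_8 : allB wordsOK 1000 88000 = true := by decide +kernel

set_option maxRecDepth 100000 in
theorem words_4_9 : allB wordsOK 1000 89000 = true := by decide +kernel

set_option maxRecDepth 100000 in
theorem words_4_10 : allB wordsOK 1000 90000 = true := by decide +kernel

set_option maxRecDepth 100000 in
theorem words_4_11 : allB wordsOK 1000 91000 = true := by decide +kernel

set_option maxRecDepth 100000 in
theorem words_4_12 : allB wordsOK 1000 92000 = true := by decide +kernel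

set_option maxRecDepth 100000 in
theorem words_4_13 : allB wordsOK 1000 93000 = true := by decide +kernel

set_option maxRecDepth 100000 in
theorem words_4_14 : allB wordsOK 1000 94000 = true := by decide +kernel

set_option maxRecDepth 100000 in
theorem words_4_15 : allB wordsOK 1000 95000 = true := by decide +kernel

set_option maxRecDepth 100000 in
theorem words_4_16 : allB wordsOK 1000 96000 = true := by decide +kernel

set_option maxRecDepth 100000 in
theorem words_4_17 : allB wordsOK 1000 97000 = true := by decide +kernel

set_option maxRecDepth 100000 in
theorem words_4_18 : allB wordsOK 1000 98000 = true := by decide +kernel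

set_option maxRecDepth 100000 in
theorem words_4_19 : allB wordsOK 1000 99000 = true := by decide +kernel

theorem words_4 (i : ℕ) (h1 : 80000 ≤ i) (h2 : i < 100000) : wordsOK i = true := by
  by_cases h10 : i < 90000
  ·
    by_cases h5 : i < 85000
    ·
      by_cases h2 : i < 82000
      ·
        by_cases h1 : i < 81000
        ·
          exact allB_sound words_4_0 i (by omega) (by omega)
        ·
          exact allB_sound words_4_1 i (by omega) (by omega)
      ·
        by_cases h3 : i < 83000
        ·
          exact allB_sound words_4_2 i (by omega) (by omega)
        ·
          by_cases h4 : i < 84000
          ·
            exact allB_sound words_4_3 i (by omega) (by omega)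
          ·
            exact allB_sound words_4_4 i (by omega) (by omega)
    ·
      by_cases h7 : i < 87000
      ·
        by_cases h6 : i < 86000
        ·
          exact allB_sound words_4_5 i (by omega) (by omega)
        ·
          exact allB_sound words_4_6 i (by omega) (by omega)
      ·
        by_cases h8 : i < 88000
        ·
          exact allB_sound words_4_7 i (by omega) (by omega)
        ·
          by_cases h9 : i < 89000
          ·
            exact allB_sound words_4_8 i (by omega) (by omega)
          ·
            exact allB_sound words_4_9 i (by omega) (by omega)
  ·
    by_cases h15 : i < 95000
    ·
      by_cases h12 : i < 92000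
      ·
        by_cases h11 : i < 91000
        ·
          exact allB_sound words_4_10 i (by omega) (by omega)
        ·
          exact allB_sound words_4_11 i (by omega) (by omega)
      ·
        by_cases h13 : i < 93000
        ·
          exact allB_sound words_4_12 i (by omega) (by omega)
        ·
          by_cases h14 : i < 94000
          ·
            exact allB_sound words_4_13 i (by omega) (by omega)
          ·
            exact allB_sound words_4_14 i (by omega) (by omega)
    ·
      by_cases h17 : i < 97000
      ·
        by_cases h16 : i < 96000
        ·
          exact allB_sound words_4_15 i (by omega) (by omega)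
        ·
          exact allB_sound words_4_16 i (by omega) (by omega)
      ·
        by_cases h18 : i < 98000
        ·
          exact allB_sound words_4_17 i (by omega) (by omega)
        ·
          by_cases h19 : i < 99000
          ·
            exact allB_sound words_4_18 i (by omega) (by omega)
          ·
            exact allB_sound words_4_19 i (by omega) (by omega)

end Cfsg.Lib.FiFour
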