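import Cfsg.Agent.FiFour.Test

/-!
Kernel checks of the relators on the points, block 5.
-/

set_option autoImplicit false
set_option Elab.async false

namespace Cfsg.Lib.FiFour

set_option maxRecDepth 100000 in
theorem pairs_5_0 : allB pairsOK 1000 100000 = true := by decide +kernel

set_option maxRecDepth 100000 in
theorem pairs_5_1 : allB pairsOK 1000 101000 = true := by decide +kernel

set_option maxRecDepth 100000 in
theorem pairs_5_2 : allB pairsOK 1000 102000 = true := by decide +kernel

set_option maxRecDepth 100000 in
theorem pairs_5_3 : allB pairsOK 1000 103000 = true := by decide +kernel

set_option maxRecDepth 100000 in
theorem pairs_5_4 : allB pairsOK 1000 104000 = true := by decide +kernel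

set_option maxRecDepth 100000 in
theorem pairs_5_5 : allB pairsOK 1000 105000 = true := by decide +kernel

set_option maxRecDepth 100000 in
theorem pairs_5_6 : allB pairsOK 1000 106000 = true := by decide +kernel

set_option maxRecDepth 100000 in
theorem pairs_5_7 : allB pairsOK 1000 107000 = true := by decide +kernel

set_option maxRecDepth 100000 in
theorem pairs_5_8 : allB pairsOK 1000 108000 = true := by decide +kernel

set_option maxRecDepth 100000 in
theorem pairs_5_9 : allB pairsOK 1000 109000 = true := by decide +kernel

set_option maxRecDepth 100000 in
theorem pairs_5_10 : allB pairsOK 1000 110000 = true := by decide +kernel

set_option maxRecDepth 100000 in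
theorem pairs_5_11 : allB pairsOK 1000 111000 = true := by decide +kernel

set_option maxRecDepth 100000 in
theorem pairs_5_12 : allB pairsOK 1000 112000 = true := by decide +kernel

set_option maxRecDepth 100000 in
theorem pairs_5_13 : allB pairsOK 1000 113000 = true := by decide +kernel

set_option maxRecDepth 100000 in
theorem pairs_5_14 : allB pairsOK 1000 114000 = true := by decide +kernel

set_option maxRecDepth 100000 in
theorem pairs_5_15 : allB pairsOK 1000 115000 = true := by decide +kernel

set_option maxRecDepth 100000 in
theorem pairs_5_16 : allB pairsOK 1000 116000 = true := by decide +kernel

set_option maxRecDepth 100000 in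
theorem pairs_5_17 : allB pairsOK 1000 117000 = true := by decide +kernel

set_option maxRecDepth 100000 in
theorem pairs_5_18 : allB pairsOK 1000 118000 = true := by decide +kernel

set_option maxRecDepth 100000 in
theorem pairs_5_19 : allB pairsOK 1000 119000 = true := by decide +kernel

theorem pairs_5 (i : ℕ) (h1 : 100000 ≤ i) (h2 : i < 120000) : pairsOK i = true := by
  by_cases h10 : i < 110000
  ·
    by_cases h5 : i < 105000
    ·
      by_cases h2 : i < 102000
      ·
        by_cases h1 : i < 101000
        ·
          exact allB_sound pairs_5_0 i (by omega) (by omega)
        ·
          exact allB_sound pairs_5_1 i (by omega) (by omega)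
      ·
        by_cases h3 : i < 103000
        ·
          exact allB_sound pairs_5_2 i (by omega) (by omega)
        ·
          by_cases h4 : i < 104000
          ·
            exact allB_sound pairs_5_3 i (by omega) (by omega)
          ·
            exact allB_sound pairs_5_4 i (by omega) (by omega)
    ·
      by_cases h7 : i < 107000
      ·
        by_cases h6 : i < 106000
        ·
          exact allB_sound pairs_5_5 i (by omega) (by omega)
        ·
          exact allB_sound pairs_5_6 i (by omega) (by omega)
      ·
        by_cases h8 : i < 108000
        ·
          exact allB_sound pairs_5_7 i (by omega) (by omega)
        ·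
          by_cases h9 : i < 109000
          ·
            exact allB_sound pairs_5_8 i (by omega) (by omega)
          ·
            exact allB_sound pairs_5_9 i (by omega) (by omega)
  ·
    by_cases h15 : i < 115000
    ·
      by_cases h12 : i < 112000
      ·
        by_cases h11 : i < 111000
        ·
          exact allB_sound pairs_5_10 i (by omega) (by omega)
        ·
          exact allB_sound pairs_5_11 i (by omega) (by omega)
      ·
        by_cases h13 : i < 113000
        ·
          exact allB_sound pairs_5_12 i (by omega) (by omega)
        ·
          by_cases h14 : i < 114000
          ·
            exact allB_sound pairs_5_13 i (by omega) (by omega)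
          ·
            exact allB_sound pairs_5_14 i (by omega) (by omega)
    ·
      by_cases h17 : i < 117000
      ·
        by_cases h16 : i < 116000
        ·
          exact allB_sound pairs_5_15 i (by omega) (by omega)
        ·
          exact allB_sound pairs_5_16 i (by omega) (by omega)
      ·
        by_cases h18 : i < 118000
        ·
          exact allB_sound pairs_5_17 i (by omega) (by omega)
        ·
          by_cases h19 : i < 119000
          ·
            exact allB_sound pairs_5_18 i (by omega) (by omega)
          ·
            exact allB_sound pairs_5_19 i (by omega) (by omega)

set_option maxRecDepth 100000 in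
theorem words_5_0 : allB wordsOK 1000 100000 = true := by decide +kernel

set_option maxRecDepth 100000 in
theorem words_5_1 : allB wordsOK 1000 101000 = true := by decide +kernel

set_option maxRecDepth 100000 in
theorem words_5_2 : allB wordsOK 1000 102000 = true := by decide +kernel

set_option maxRecDepth 100000 in
theorem words_5_3 : allB wordsOK 1000 103000 = true := by decide +kernel

set_option maxRecDepth 100000 in
theorem words_5_4 : allB wordsOK 1000 104000 = true := by decide +kernel

set_option maxRecDepth 100000 in
theorem words_5_5 : allB wordsOK 1000 105000 = true := by decide +kernel

set_option maxRecDepth 100000 in
theorem words_5_6 : allB wordsOK 1000 106000 = true := by decide +kernel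

set_option maxRecDepth 100000 in
theorem words_5_7 : allB wordsOK 1000 107000 = true := by decide +kernel

set_option maxRecDepth 100000 in
theorem words_5_8 : allB wordsOK 1000 108000 = true := by decide +kernel

set_option maxRecDepth 100000 in
theorem words_5_9 : allB wordsOK 1000 109000 = true := by decide +kernel

set_option maxRecDepth 100000 in
theorem words_5_10 : allB wordsOK 1000 110000 = true := by decide +kernel

set_option maxRecDepth 100000 in
theorem words_5_11 : allB wordsOK 1000 111000 = true := by decide +kernel

set_option maxRecDepth 100000 in
theorem words_5_12 : allB wordsOK 1000 112000 = true := by decide +kernel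

set_option maxRecDepth 100000 in
theorem words_5_13 : allB wordsOK 1000 113000 = true := by decide +kernel

set_option maxRecDepth 100000 in
theorem words_5_14 : allB wordsOK 1000 114000 = true := by decide +kernel

set_option maxRecDepth 100000 in
theorem words_5_15 : allB wordsOK 1000 115000 = true := by decide +kernel

set_option maxRecDepth 100000 in
theorem words_5_16 : allB wordsOK 1000 116000 = true := by decide +kernel

set_option maxRecDepth 100000 in
theorem words_5_17 : allB wordsOK 1000 117000 = true := by decide +kernel

set_option maxRecDepth 100000 in
theorem words_5_18 : allB wordsOK 1000 118000 = true := by decide +kernel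

set_option maxRecDepth 100000 in
theorem words_5_19 : allB wordsOK 1000 119000 = true := by decide +kernel

theorem words_5 (i : ℕ) (h1 : 100000 ≤ i) (h2 : i < 120000) : wordsOK i = true := by
  by_cases h10 : i < 110000
  ·
    by_cases h5 : i < 105000
    ·
      by_cases h2 : i < 102000
      ·
        by_cases h1 : i < 101000
        ·
          exact allB_sound words_5_0 i (by omega) (by omega)
        ·
          exact allB_sound words_5_1 i (by omega) (by omega)
      ·
        by_cases h3 : i < 103000
        ·
          exact allB_sound words_5_2 i (by omega) (by omega)
        ·
          by_cases h4 : i < 104000
          ·
            exact allB_sound words_5_3 i (by omega) (by omega)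
          ·
            exact allB_sound words_5_4 i (by omega) (by omega)
    ·
      by_cases h7 : i < 107000
      ·
        by_cases h6 : i < 106000
        ·
          exact allB_sound words_5_5 i (by omega) (by omega)
        ·
          exact allB_sound words_5_6 i (by omega) (by omega)
      ·
        by_cases h8 : i < 108000
        ·
          exact allB_sound words_5_7 i (by omega) (by omega)
        ·
          by_cases h9 : i < 109000
          ·
            exact allB_sound words_5_8 i (by omega) (by omega)
          ·
            exact allB_sound words_5_9 i (by omega) (by omega)
  ·
    by_cases h15 : i < 115000
    ·
      by_cases h12 : i < 112000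
      ·
        by_cases h11 : i < 111000
        ·
          exact allB_sound words_5_10 i (by omega) (by omega)
        ·
          exact allB_sound words_5_11 i (by omega) (by omega)
      ·
        by_cases h13 : i < 113000
        ·
          exact allB_sound words_5_12 i (by omega) (by omega)
        ·
          by_cases h14 : i < 114000
          ·
            exact allB_sound words_5_13 i (by omega) (by omega)
          ·
            exact allB_sound words_5_14 i (by omega) (by omega)
    ·
      by_cases h17 : i < 117000
      ·
        by_cases h16 : i < 116000
        ·
          exact allB_sound words_5_15 i (by omega) (by omega)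
        ·
          exact allB_sound words_5_16 i (by omega) (by omega)
      ·
        by_cases h18 : i < 118000
        ·
          exact allB_sound words_5_17 i (by omega) (by omega)
        ·
          by_cases h19 : i < 119000
          ·
            exact allB_sound words_5_18 i (by omega) (by omega)
          ·
            exact allB_sound words_5_19 i (by omega) (by omega)

end Cfsg.Lib.FiFour
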