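import Cfsg.Agent.FiFour.Test

/-!
Kernel checks of the relators on the points, block 6.
-/

set_option autoImplicit false
set_option Elab.async false

namespace Cfsg.Lib.FiFour

set_option maxRecDepth 100000 in
theorem pairs_6_0 : allB pairsOK 1000 120000 = true := by decide +kernel

set_option maxRecDepth 100000 in
theorem pairs_6_1 : allB pairsOK 1000 121000 = true := by decide +kernel

set_option maxRecDepth 100000 in
theorem pairs_6_2 : allB pairsOK 1000 122000 = true := by decide +kernel

set_option maxRecDepth 100000 in
theorem pairs_6_3 : allB pairsOK 1000 123000 = true := by decide +kernel

set_option maxRecDepth 100000 in
theorem pairs_6_4 : allB pairsOK 1000 124000 = true := by decide +kernel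

set_option maxRecDepth 100000 in
theorem pairs_6_5 : allB pairsOK 1000 125000 = true := by decide +kernel

set_option maxRecDepth 100000 in
theorem pairs_6_6 : allB pairsOK 1000 126000 = true := by decide +kernel

set_option maxRecDepth 100000 in
theorem pairs_6_7 : allB pairsOK 1000 127000 = true := by decide +kernel

set_option maxRecDepth 100000 in
theorem pairs_6_8 : allB pairsOK 1000 128000 = true := by decide +kernel

set_option maxRecDepth 100000 in
theorem pairs_6_9 : allB pairsOK 1000 129000 = true := by decide +kernel

set_option maxRecDepth 100000 in
theorem pairs_6_10 : allB pairsOK 1000 130000 = true := by decide +kernel

set_option maxRecDepth 100000 in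
theorem pairs_6_11 : allB pairsOK 1000 131000 = true := by decide +kernel

set_option maxRecDepth 100000 in
theorem pairs_6_12 : allB pairsOK 1000 132000 = true := by decide +kernel

set_option maxRecDepth 100000 in
theorem pairs_6_13 : allB pairsOK 1000 133000 = true := by decide +kernel

set_option maxRecDepth 100000 in
theorem pairs_6_14 : allB pairsOK 1000 134000 = true := by decide +kernel

set_option maxRecDepth 100000 in
theorem pairs_6_15 : allB pairsOK 1000 135000 = true := by decide +kernel

set_option maxRecDepth 100000 in
theorem pairs_6_16 : allB pairsOK 1000 136000 = true := by decide +kernel

set_option maxRecDepth 100000 in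
theorem pairs_6_17 : allB pairsOK 1000 137000 = true := by decide +kernel

set_option maxRecDepth 100000 in
theorem pairs_6_18 : allB pairsOK 1000 138000 = true := by decide +kernel

set_option maxRecDepth 100000 in
theorem pairs_6_19 : allB pairsOK 1000 139000 = true := by decide +kernel

theorem pairs_6 (i : ℕ) (h1 : 120000 ≤ i) (h2 : i < 140000) : pairsOK i = true := by
  by_cases h10 : i < 130000
  ·
    by_cases h5 : i < 125000
    ·
      by_cases h2 : i < 122000
      ·
        by_cases h1 : i < 121000
        ·
          exact allB_sound pairs_6_0 i (by omega) (by omega)
        ·
          exact allB_sound pairs_6_1 i (by omega) (by omega)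
      ·
        by_cases h3 : i < 123000
        ·
          exact allB_sound pairs_6_2 i (by omega) (by omega)
        ·
          by_cases h4 : i < 124000
          ·
            exact allB_sound pairs_6_3 i (by omega) (by omega)
          ·
            exact allB_sound pairs_6_4 i (by omega) (by omega)
    ·
      by_cases h7 : i < 127000
      ·
        by_cases h6 : i < 126000
        ·
          exact allB_sound pairs_6_5 i (by omega) (by omega)
        ·
          exact allB_sound pairs_6_6 i (by omega) (by omega)
      ·
        by_cases h8 : i < 128000
        ·
          exact allB_sound pairs_6_7 i (by omega) (by omega)
        ·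
          by_cases h9 : i < 129000
          ·
            exact allB_sound pairs_6_8 i (by omega) (by omega)
          ·
            exact allB_sound pairs_6_9 i (by omega) (by omega)
  ·
    by_cases h15 : i < 135000
    ·
      by_cases h12 : i < 132000
      ·
        by_cases h11 : i < 131000
        ·
          exact allB_sound pairs_6_10 i (by omega) (by omega)
        ·
          exact allB_sound pairs_6_11 i (by omega) (by omega)
      ·
        by_cases h13 : i < 133000
        ·
          exact allB_sound pairs_6_12 i (by omega) (by omega)
        ·
          by_cases h14 : i < 134000
          ·
            exact allB_sound pairs_6_13 i (by omega) (by omega)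
          ·
            exact allB_sound pairs_6_14 i (by omega) (by omega)
    ·
      by_cases h17 : i < 137000
      ·
        by_cases h16 : i < 136000
        ·
          exact allB_sound pairs_6_15 i (by omega) (by omega)
        ·
          exact allB_sound pairs_6_16 i (by omega) (by omega)
      ·
        by_cases h18 : i < 138000
        ·
          exact allB_sound pairs_6_17 i (by omega) (by omega)
        ·
          by_cases h19 : i < 139000
          ·
            exact allB_sound pairs_6_18 i (by omega) (by omega)
          ·
            exact allB_sound pairs_6_19 i (by omega) (by omega)

set_option maxRecDepth 100000 in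
theorem words_6_0 : allB wordsOK 1000 120000 = true := by decide +kernel

set_option maxRecDepth 100000 in
theorem words_6_1 : allB wordsOK 1000 121000 = true := by decide +kernel

set_option maxRecDepth 100000 in
theorem words_6_2 : allB wordsOK 1000 122000 = true := by decide +kernel

set_option maxRecDepth 100000 in
theorem words_6_3 : allB wordsOK 1000 123000 = true := by decide +kernel

set_option maxRecDepth 100000 in
theorem words_6_4 : allB wordsOK 1000 124000 = true := by decide +kernel

set_option maxRecDepth 100000 in
theorem words_6_5 : allB wordsOK 1000 125000 = true := by decide +kernel

set_option maxRecDepth 100000 in
theorem words_6_6 : allB wordsOK 1000 126000 = true := by decide +kernel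

set_option maxRecDepth 100000 in
theorem words_6_7 : allB wordsOK 1000 127000 = true := by decide +kernel

set_option maxRecDepth 100000 in
theorem words_6_8 : allB wordsOK 1000 128000 = true := by decide +kernel

set_option maxRecDepth 100000 in
theorem words_6_9 : allB wordsOK 1000 129000 = true := by decide +kernel

set_option maxRecDepth 100000 in
theorem words_6_10 : allB wordsOK 1000 130000 = true := by decide +kernel

set_option maxRecDepth 100000 in
theorem words_6_11 : allB wordsOK 1000 131000 = true := by decide +kernel

set_option maxRecDepth 100000 in
theorem words_6_12 : allB wordsOK 1000 132000 = true := by decide +kernel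

set_option maxRecDepth 100000 in
theorem words_6_13 : allB wordsOK 1000 133000 = true := by decide +kernel

set_option maxRecDepth 100000 in
theorem words_6_14 : allB wordsOK 1000 134000 = true := by decide +kernel

set_option maxRecDepth 100000 in
theorem words_6_15 : allB wordsOK 1000 135000 = true := by decide +kernel

set_option maxRecDepth 100000 in
theorem words_6_16 : allB wordsOK 1000 136000 = true := by decide +kernel

set_option maxRecDepth 100000 in
theorem words_6_17 : allB wordsOK 1000 137000 = true := by decide +kernel

set_option maxRecDepth 100000 in
theorem words_6_18 : allB wordsOK 1000 138000 = true := by decide +kernel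

set_option maxRecDepth 100000 in
theorem words_6_19 : allB wordsOK 1000 139000 = true := by decide +kernel

theorem words_6 (i : ℕ) (h1 : 120000 ≤ i) (h2 : i < 140000) : wordsOK i = true := by
  by_cases h10 : i < 130000
  ·
    by_cases h5 : i < 125000
    ·
      by_cases h2 : i < 122000
      ·
        by_cases h1 : i < 121000
        ·
          exact allB_sound words_6_0 i (by omega) (by omega)
        ·
          exact allB_sound words_6_1 i (by omega) (by omega)
      ·
        by_cases h3 : i < 123000
        ·
          exact allB_sound words_6_2 i (by omega) (by omega)
        ·
          by_cases h4 : i < 124000
          ·
            exact allB_sound words_6_3 i (by omega) (by omega)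
          ·
            exact allB_sound words_6_4 i (by omega) (by omega)
    ·
      by_cases h7 : i < 127000
      ·
        by_cases h6 : i < 126000
        ·
          exact allB_sound words_6_5 i (by omega) (by omega)
        ·
          exact allB_sound words_6_6 i (by omega) (by omega)
      ·
        by_cases h8 : i < 128000
        ·
          exact allB_sound words_6_7 i (by omega) (by omega)
        ·
          by_cases h9 : i < 129000
          ·
            exact allB_sound words_6_8 i (by omega) (by omega)
          ·
            exact allB_sound words_6_9 i (by omega) (by omega)
  ·
    by_cases h15 : i < 135000
    ·
      by_cases h12 : i < 132000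
      ·
        by_cases h11 : i < 131000
        ·
          exact allB_sound words_6_10 i (by omega) (by omega)
        ·
          exact allB_sound words_6_11 i (by omega) (by omega)
      ·
        by_cases h13 : i < 133000
        ·
          exact allB_sound words_6_12 i (by omega) (by omega)
        ·
          by_cases h14 : i < 134000
          ·
            exact allB_sound words_6_13 i (by omega) (by omega)
          ·
            exact allB_sound words_6_14 i (by omega) (by omega)
    ·
      by_cases h17 : i < 137000
      ·
        by_cases h16 : i < 136000
        ·
          exact allB_sound words_6_15 i (by omega) (by omega)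
        ·
          exact allB_sound words_6_16 i (by omega) (by omega)
      ·
        by_cases h18 : i < 138000
        ·
          exact allB_sound words_6_17 i (by omega) (by omega)
        ·
          by_cases h19 : i < 139000
          ·
            exact allB_sound words_6_18 i (by omega) (by omega)
          ·
            exact allB_sound words_6_19 i (by omega) (by omega)

end Cfsg.Lib.FiFour
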