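import Cfsg.Agent.FiFour.Test

/-!
Kernel checks of the relators on the points, block 7.
-/

set_option autoImplicit false
set_option Elab.async false

namespace Cfsg.Lib.FiFour

set_option maxRecDepth 100000 in
theorem pairs_7_0 : allB pairsOK 1000 140000 = true := by decide +kernel

set_option maxRecDepth 100000 in
theorem pairs_7_1 : allB pairsOK 1000 141000 = true := by decide +kernel

set_option maxRecDepth 100000 in
theorem pairs_7_2 : allB pairsOK 1000 142000 = true := by decide +kernel

set_option maxRecDepth 100000 in
theorem pairs_7_3 : allB pairsOK 1000 143000 = true := by decide +kernel

set_option maxRecDepth 100000 in
theorem pairs_7_4 : allB pairsOK 1000 144000 = true := by decide +kernel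

set_option maxRecDepth 100000 in
theorem pairs_7_5 : allB pairsOK 1000 145000 = true := by decide +kernel

set_option maxRecDepth 100000 in
theorem pairs_7_6 : allB pairsOK 1000 146000 = true := by decide +kernel

set_option maxRecDepth 100000 in
theorem pairs_7_7 : allB pairsOK 1000 147000 = true := by decide +kernel

set_option maxRecDepth 100000 in
theorem pairs_7_8 : allB pairsOK 1000 148000 = true := by decide +kernel

set_option maxRecDepth 100000 in
theorem pairs_7_9 : allB pairsOK 1000 149000 = true := by decide +kernel

set_option maxRecDepth 100000 in
theorem pairs_7_10 : allB pairsOK 1000 150000 = true := by decide +kernel

set_option maxRecDepth 100000 in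
theorem pairs_7_11 : allB pairsOK 1000 151000 = true := by decide +kernel

set_option maxRecDepth 100000 in
theorem pairs_7_12 : allB pairsOK 1000 152000 = true := by decide +kernel

set_option maxRecDepth 100000 in
theorem pairs_7_13 : allB pairsOK 1000 153000 = true := by decide +kernel

set_option maxRecDepth 100000 in
theorem pairs_7_14 : allB pairsOK 1000 154000 = true := by decide +kernel

set_option maxRecDepth 100000 in
theorem pairs_7_15 : allB pairsOK 1000 155000 = true := by decide +kernel

set_option maxRecDepth 100000 in
theorem pairs_7_16 : allB pairsOK 1000 156000 = true := by decide +kernel

set_option maxRecDepth 100000 in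
theorem pairs_7_17 : allB pairsOK 1000 157000 = true := by decide +kernel

set_option maxRecDepth 100000 in
theorem pairs_7_18 : allB pairsOK 1000 158000 = true := by decide +kernel

set_option maxRecDepth 100000 in
theorem pairs_7_19 : allB pairsOK 1000 159000 = true := by decide +kernel

theorem pairs_7 (i : ℕ) (h1 : 140000 ≤ i) (h2 : i < 160000) : pairsOK i = true := by
  by_cases h10 : i < 150000
  ·
    by_cases h5 : i < 145000
    ·
      by_cases h2 : i < 142000
      ·
        by_cases h1 : i < 141000
        ·
          exact allB_sound pairs_7_0 i (by omega) (by omega)
        ·
          exact allB_sound pairs_7_1 i (by omega) (by omega)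
      ·
        by_cases h3 : i < 143000
        ·
          exact allB_sound pairs_7_2 i (by omega) (by omega)
        ·
          by_cases h4 : i < 144000
          ·
            exact allB_sound pairs_7_3 i (by omega) (by omega)
          ·
            exact allB_sound pairs_7_4 i (by omega) (by omega)
    ·
      by_cases h7 : i < 147000
      ·
        by_cases h6 : i < 146000
        ·
          exact allB_sound pairs_7_5 i (by omega) (by omega)
        ·
          exact allB_sound pairs_7_6 i (by omega) (by omega)
      ·
        by_cases h8 : i < 148000
        ·
          exact allB_sound pairs_7_7 i (by omega) (by omega)
        ·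
          by_cases h9 : i < 149000
          ·
            exact allB_sound pairs_7_8 i (by omega) (by omega)
          ·
            exact allB_sound pairs_7_9 i (by omega) (by omega)
  ·
    by_cases h15 : i < 155000
    ·
      by_cases h12 : i < 152000
      ·
        by_cases h11 : i < 151000
        ·
          exact allB_sound pairs_7_10 i (by omega) (by omega)
        ·
          exact allB_sound pairs_7_11 i (by omega) (by omega)
      ·
        by_cases h13 : i < 153000
        ·
          exact allB_sound pairs_7_12 i (by omega) (by omega)
        ·
          by_cases h14 : i < 154000
          ·
            exact allB_sound pairs_7_13 i (by omega) (by omega)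
          ·
            exact allB_sound pairs_7_14 i (by omega) (by omega)
    ·
      by_cases h17 : i < 157000
      ·
        by_cases h16 : i < 156000
        ·
          exact allB_sound pairs_7_15 i (by omega) (by omega)
        ·
          exact allB_sound pairs_7_16 i (by omega) (by omega)
      ·
        by_cases h18 : i < 158000
        ·
          exact allB_sound pairs_7_17 i (by omega) (by omega)
        ·
          by_cases h19 : i < 159000
          ·
            exact allB_sound pairs_7_18 i (by omega) (by omega)
          ·
            exact allB_sound pairs_7_19 i (by omega) (by omega)

set_option maxRecDepth 100000 in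
theorem words_7_0 : allB wordsOK 1000 140000 = true := by decide +kernel

set_option maxRecDepth 100000 in
theorem words_7_1 : allB wordsOK 1000 141000 = true := by decide +kernel

set_option maxRecDepth 100000 in
theorem words_7_2 : allB wordsOK 1000 142000 = true := by decide +kernel

set_option maxRecDepth 100000 in
theorem words_7_3 : allB wordsOK 1000 143000 = true := by decide +kernel

set_option maxRecDepth 100000 in
theorem words_7_4 : allB wordsOK 1000 144000 = true := by decide +kernel

set_option maxRecDepth 100000 in
theorem words_7_5 : allB wordsOK 1000 145000 = true := by decide +kernel

set_option maxRecDepth 100000 in
theorem words_7_6 : allB wordsOK 1000 146000 = true := by decide +kernel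

set_option maxRecDepth 100000 in
theorem words_7_7 : allB wordsOK 1000 147000 = true := by decide +kernel

set_option maxRecDepth 100000 in
theorem words_7_8 : allB wordsOK 1000 148000 = true := by decide +kernel

set_option maxRecDepth 100000 in
theorem words_7_9 : allB wordsOK 1000 149000 = true := by decide +kernel

set_option maxRecDepth 100000 in
theorem words_7_10 : allB wordsOK 1000 150000 = true := by decide +kernel

set_option maxRecDepth 100000 in
theorem words_7_11 : allB wordsOK 1000 151000 = true := by decide +kernel

set_option maxRecDepth 100000 in
theorem words_7_12 : allB wordsOK 1000 152000 = true := by decide +kernel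

set_option maxRecDepth 100000 in
theorem words_7_13 : allB wordsOK 1000 153000 = true := by decide +kernel

set_option maxRecDepth 100000 in
theorem words_7_14 : allB wordsOK 1000 154000 = true := by decide +kernel

set_option maxRecDepth 100000 in
theorem words_7_15 : allB wordsOK 1000 155000 = true := by decide +kernel

set_option maxRecDepth 100000 in
theorem words_7_16 : allB wordsOK 1000 156000 = true := by decide +kernel

set_option maxRecDepth 100000 in
theorem words_7_17 : allB wordsOK 1000 157000 = true := by decide +kernel

set_option maxRecDepth 100000 in
theorem words_7_18 : allB wordsOK 1000 158000 = true := by decide +kernel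

set_option maxRecDepth 100000 in
theorem words_7_19 : allB wordsOK 1000 159000 = true := by decide +kernel

theorem words_7 (i : ℕ) (h1 : 140000 ≤ i) (h2 : i < 160000) : wordsOK i = true := by
  by_cases h10 : i < 150000
  ·
    by_cases h5 : i < 145000
    ·
      by_cases h2 : i < 142000
      ·
        by_cases h1 : i < 141000
        ·
          exact allB_sound words_7_0 i (by omega) (by omega)
        ·
          exact allB_sound words_7_1 i (by omega) (by omega)
      ·
        by_cases h3 : i < 143000
        ·
          exact allB_sound words_7_2 i (by omega) (by omega)
        ·
          by_cases h4 : i < 144000
          ·
            exact allB_sound words_7_3 i (by omega) (by omega)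
          ·
            exact allB_sound words_7_4 i (by omega) (by omega)
    ·
      by_cases h7 : i < 147000
      ·
        by_cases h6 : i < 146000
        ·
          exact allB_sound words_7_5 i (by omega) (by omega)
        ·
          exact allB_sound words_7_6 i (by omega) (by omega)
      ·
        by_cases h8 : i < 148000
        ·
          exact allB_sound words_7_7 i (by omega) (by omega)
        ·
          by_cases h9 : i < 149000
          ·
            exact allB_sound words_7_8 i (by omega) (by omega)
          ·
            exact allB_sound words_7_9 i (by omega) (by omega)
  ·
    by_cases h15 : i < 155000
    ·
      by_cases h12 : i < 152000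
      ·
        by_cases h11 : i < 151000
        ·
          exact allB_sound words_7_10 i (by omega) (by omega)
        ·
          exact allB_sound words_7_11 i (by omega) (by omega)
      ·
        by_cases h13 : i < 153000
        ·
          exact allB_sound words_7_12 i (by omega) (by omega)
        ·
          by_cases h14 : i < 154000
          ·
            exact allB_sound words_7_13 i (by omega) (by omega)
          ·
            exact allB_sound words_7_14 i (by omega) (by omega)
    ·
      by_cases h17 : i < 157000
      ·
        by_cases h16 : i < 156000
        ·
          exact allB_sound words_7_15 i (by omega) (by omega)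
        ·
          exact allB_sound words_7_16 i (by omega) (by omega)
      ·
        by_cases h18 : i < 158000
        ·
          exact allB_sound words_7_17 i (by omega) (by omega)
        ·
          by_cases h19 : i < 159000
          ·
            exact allB_sound words_7_18 i (by omega) (by omega)
          ·
            exact allB_sound words_7_19 i (by omega) (by omega)

end Cfsg.Lib.FiFour
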