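import Cfsg.Agent.FiFour.Test

/-!
Kernel checks of the relators on the points, block 8.
-/

set_option autoImplicit false
set_option Elab.async false

namespace Cfsg.Lib.FiFour

set_option maxRecDepth 100000 in
theorem pairs_8_0 : allB pairsOK 1000 160000 = true := by decide +kernel

set_option maxRecDepth 100000 in
theorem pairs_8_1 : allB pairsOK 1000 161000 = true := by decide +kernel

set_option maxRecDepth 100000 in
theorem pairs_8_2 : allB pairsOK 1000 162000 = true := by decide +kernel

set_option maxRecDepth 100000 in
theorem pairs_8_3 : allB pairsOK 1000 163000 = true := by decide +kernel

set_option maxRecDepth 100000 in
theorem pairs_8_4 : allB pairsOK 1000 164000 = true := by decide +kernel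

set_option maxRecDepth 100000 in
theorem pairs_8_5 : allB pairsOK 1000 165000 = true := by decide +kernel

set_option maxRecDepth 100000 in
theorem pairs_8_6 : allB pairsOK 1000 166000 = true := by decide +kernel

set_option maxRecDepth 100000 in
theorem pairs_8_7 : allB pairsOK 1000 167000 = true := by decide +kernel

set_option maxRecDepth 100000 in
theorem pairs_8_8 : allB pairsOK 1000 168000 = true := by decide +kernel

set_option maxRecDepth 100000 in
theorem pairs_8_9 : allB pairsOK 1000 169000 = true := by decide +kernel

set_option maxRecDepth 100000 in
theorem pairs_8_10 : allB pairsOK 1000 170000 = true := by decide +kernel

set_option maxRecDepth 100000 in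
theorem pairs_8_11 : allB pairsOK 1000 171000 = true := by decide +kernel

set_option maxRecDepth 100000 in
theorem pairs_8_12 : allB pairsOK 1000 172000 = true := by decide +kernel

set_option maxRecDepth 100000 in
theorem pairs_8_13 : allB pairsOK 1000 173000 = true := by decide +kernel

set_option maxRecDepth 100000 in
theorem pairs_8_14 : allB pairsOK 1000 174000 = true := by decide +kernel

set_option maxRecDepth 100000 in
theorem pairs_8_15 : allB pairsOK 1000 175000 = true := by decide +kernel

set_option maxRecDepth 100000 in
theorem pairs_8_16 : allB pairsOK 1000 176000 = true := by decide +kernel

set_option maxRecDepth 100000 in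
theorem pairs_8_17 : allB pairsOK 1000 177000 = true := by decide +kernel

set_option maxRecDepth 100000 in
theorem pairs_8_18 : allB pairsOK 1000 178000 = true := by decide +kernel

set_option maxRecDepth 100000 in
theorem pairs_8_19 : allB pairsOK 1000 179000 = true := by decide +kernel

theorem pairs_8 (i : ℕ) (h1 : 160000 ≤ i) (h2 : i < 180000) : pairsOK i = true := by
  by_cases h10 : i < 170000
  ·
    by_cases h5 : i < 165000
    ·
      by_cases h2 : i < 162000
      ·
        by_cases h1 : i < 161000
        ·
          exact allB_sound pairs_8_0 i (by omega) (by omega)
        ·
          exact allB_sound pairs_8_1 i (by omega) (by omega)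
      ·
        by_cases h3 : i < 163000
        ·
          exact allB_sound pairs_8_2 i (by omega) (by omega)
        ·
          by_cases h4 : i < 164000
          ·
            exact allB_sound pairs_8_3 i (by omega) (by omega)
          ·
            exact allB_sound pairs_8_4 i (by omega) (by omega)
    ·
      by_cases h7 : i < 167000
      ·
        by_cases h6 : i < 166000
        ·
          exact allB_sound pairs_8_5 i (by omega) (by omega)
        ·
          exact allB_sound pairs_8_6 i (by omega) (by omega)
      ·
        by_cases h8 : i < 168000
        ·
          exact allB_sound pairs_8_7 i (by omega) (by omega)
        ·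
          by_cases h9 : i < 169000
          ·
            exact allB_sound pairs_8_8 i (by omega) (by omega)
          ·
            exact allB_sound pairs_8_9 i (by omega) (by omega)
  ·
    by_cases h15 : i < 175000
    ·
      by_cases h12 : i < 172000
      ·
        by_cases h11 : i < 171000
        ·
          exact allB_sound pairs_8_10 i (by omega) (by omega)
        ·
          exact allB_sound pairs_8_11 i (by omega) (by omega)
      ·
        by_cases h13 : i < 173000
        ·
          exact allB_sound pairs_8_12 i (by omega) (by omega)
        ·
          by_cases h14 : i < 174000
          ·
            exact allB_sound pairs_8_13 i (by omega) (by omega)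
          ·
            exact allB_sound pairs_8_14 i (by omega) (by omega)
    ·
      by_cases h17 : i < 177000
      ·
        by_cases h16 : i < 176000
        ·
          exact allB_sound pairs_8_15 i (by omega) (by omega)
        ·
          exact allB_sound pairs_8_16 i (by omega) (by omega)
      ·
        by_cases h18 : i < 178000
        ·
          exact allB_sound pairs_8_17 i (by omega) (by omega)
        ·
          by_cases h19 : i < 179000
          ·
            exact allB_sound pairs_8_18 i (by omega) (by omega)
          ·
            exact allB_sound pairs_8_19 i (by omega) (by omega)

set_option maxRecDepth 100000 in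
theorem words_8_0 : allB wordsOK 1000 160000 = true := by decide +kernel

set_option maxRecDepth 100000 in
theorem words_8_1 : allB wordsOK 1000 161000 = true := by decide +kernel

set_option maxRecDepth 100000 in
theorem words_8_2 : allB wordsOK 1000 162000 = true := by decide +kernel

set_option maxRecDepth 100000 in
theorem words_8_3 : allB wordsOK 1000 163000 = true := by decide +kernel

set_option maxRecDepth 100000 in
theorem words_8_4 : allB wordsOK 1000 164000 = true := by decide +kernel

set_option maxRecDepth 100000 in
theorem words_8_5 : allB wordsOK 1000 165000 = true := by decide +kernel

set_option maxRecDepth 100000 in
theorem words_8_6 : allB wordsOK 1000 166000 = true := by decide +kernel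

set_option maxRecDepth 100000 in
theorem words_8_7 : allB wordsOK 1000 167000 = true := by decide +kernel

set_option maxRecDepth 100000 in
theorem words_8_8 : allB wordsOK 1000 168000 = true := by decide +kernel

set_option maxRecDepth 100000 in
theorem words_8_9 : allB wordsOK 1000 169000 = true := by decide +kernel

set_option maxRecDepth 100000 in
theorem words_8_10 : allB wordsOK 1000 170000 = true := by decide +kernel

set_option maxRecDepth 100000 in
theorem words_8_11 : allB wordsOK 1000 171000 = true := by decide +kernel

set_option maxRecDepth 100000 in
theorem words_8_12 : allB wordsOK 1000 172000 = true := by decide +kernel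

set_option maxRecDepth 100000 in
theorem words_8_13 : allB wordsOK 1000 173000 = true := by decide +kernel

set_option maxRecDepth 100000 in
theorem words_8_14 : allB wordsOK 1000 174000 = true := by decide +kernel

set_option maxRecDepth 100000 in
theorem words_8_15 : allB wordsOK 1000 175000 = true := by decide +kernel

set_option maxRecDepth 100000 in
theorem words_8_16 : allB wordsOK 1000 176000 = true := by decide +kernel

set_option maxRecDepth 100000 in
theorem words_8_17 : allB wordsOK 1000 177000 = true := by decide +kernel

set_option maxRecDepth 100000 in
theorem words_8_18 : allB wordsOK 1000 178000 = true := by decide +kernel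

set_option maxRecDepth 100000 in
theorem words_8_19 : allB wordsOK 1000 179000 = true := by decide +kernel

theorem words_8 (i : ℕ) (h1 : 160000 ≤ i) (h2 : i < 180000) : wordsOK i = true := by
  by_cases h10 : i < 170000
  ·
    by_cases h5 : i < 165000
    ·
      by_cases h2 : i < 162000
      ·
        by_cases h1 : i < 161000
        ·
          exact allB_sound words_8_0 i (by omega) (by omega)
        ·
          exact allB_sound words_8_1 i (by omega) (by omega)
      ·
        by_cases h3 : i < 163000
        ·
          exact allB_sound words_8_2 i (by omega) (by omega)
        ·
          by_cases h4 : i < 164000
          ·
            exact allB_sound words_8_3 i (by omega) (by omega)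
          ·
            exact allB_sound words_8_4 i (by omega) (by omega)
    ·
      by_cases h7 : i < 167000
      ·
        by_cases h6 : i < 166000
        ·
          exact allB_sound words_8_5 i (by omega) (by omega)
        ·
          exact allB_sound words_8_6 i (by omega) (by omega)
      ·
        by_cases h8 : i < 168000
        ·
          exact allB_sound words_8_7 i (by omega) (by omega)
        ·
          by_cases h9 : i < 169000
          ·
            exact allB_sound words_8_8 i (by omega) (by omega)
          ·
            exact allB_sound words_8_9 i (by omega) (by omega)
  ·
    by_cases h15 : i < 175000
    ·
      by_cases h12 : i < 172000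
      ·
        by_cases h11 : i < 171000
        ·
          exact allB_sound words_8_10 i (by omega) (by omega)
        ·
          exact allB_sound words_8_11 i (by omega) (by omega)
      ·
        by_cases h13 : i < 173000
        ·
          exact allB_sound words_8_12 i (by omega) (by omega)
        ·
          by_cases h14 : i < 174000
          ·
            exact allB_sound words_8_13 i (by omega) (by omega)
          ·
            exact allB_sound words_8_14 i (by omega) (by omega)
    ·
      by_cases h17 : i < 177000
      ·
        by_cases h16 : i < 176000
        ·
          exact allB_sound words_8_15 i (by omega) (by omega)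
        ·
          exact allB_sound words_8_16 i (by omega) (by omega)
      ·
        by_cases h18 : i < 178000
        ·
          exact allB_sound words_8_17 i (by omega) (by omega)
        ·
          by_cases h19 : i < 179000
          ·
            exact allB_sound words_8_18 i (by omega) (by omega)
          ·
            exact allB_sound words_8_19 i (by omega) (by omega)

end Cfsg.Lib.FiFour
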