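import Cfsg.Agent.FiFour.Test

/-!
Kernel checks of the relators on the points, block 9.
-/

set_option autoImplicit false
set_option Elab.async false

namespace Cfsg.Lib.FiFour

set_option maxRecDepth 100000 in
theorem pairs_9_0 : allB pairsOK 1000 180000 = true := by decide +kernel

set_option maxRecDepth 100000 in
theorem pairs_9_1 : allB pairsOK 1000 181000 = true := by decide +kernel

set_option maxRecDepth 100000 in
theorem pairs_9_2 : allB pairsOK 1000 182000 = true := by decide +kernel

set_option maxRecDepth 100000 in
theorem pairs_9_3 : allB pairsOK 1000 183000 = true := by decide +kernel

set_option maxRecDepth 100000 in
theorem pairs_9_4 : allB pairsOK 1000 184000 = true := by decide +kernel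

set_option maxRecDepth 100000 in
theorem pairs_9_5 : allB pairsOK 1000 185000 = true := by decide +kernel

set_option maxRecDepth 100000 in
theorem pairs_9_6 : allB pairsOK 1000 186000 = true := by decide +kernel

set_option maxRecDepth 100000 in
theorem pairs_9_7 : allB pairsOK 1000 187000 = true := by decide +kernel

set_option maxRecDepth 100000 in
theorem pairs_9_8 : allB pairsOK 1000 188000 = true := by decide +kernel

set_option maxRecDepth 100000 in
theorem pairs_9_9 : allB pairsOK 1000 189000 = true := by decide +kernel

set_option maxRecDepth 100000 in
theorem pairs_9_10 : allB pairsOK 1000 190000 = true := by decide +kernel

set_option maxRecDepth 100000 in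
theorem pairs_9_11 : allB pairsOK 1000 191000 = true := by decide +kernel

set_option maxRecDepth 100000 in
theorem pairs_9_12 : allB pairsOK 1000 192000 = true := by decide +kernel

set_option maxRecDepth 100000 in
theorem pairs_9_13 : allB pairsOK 1000 193000 = true := by decide +kernel

set_option maxRecDepth 100000 in
theorem pairs_9_14 : allB pairsOK 1000 194000 = true := by decide +kernel

set_option maxRecDepth 100000 in
theorem pairs_9_15 : allB pairsOK 1000 195000 = true := by decide +kernel

set_option maxRecDepth 100000 in
theorem pairs_9_16 : allB pairsOK 1000 196000 = true := by decide +kernel

set_option maxRecDepth 100000 in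
theorem pairs_9_17 : allB pairsOK 1000 197000 = true := by decide +kernel

set_option maxRecDepth 100000 in
theorem pairs_9_18 : allB pairsOK 1000 198000 = true := by decide +kernel

set_option maxRecDepth 100000 in
theorem pairs_9_19 : allB pairsOK 1000 199000 = true := by decide +kernel

theorem pairs_9 (i : ℕ) (h1 : 180000 ≤ i) (h2 : i < 200000) : pairsOK i = true := by
  by_cases h10 : i < 190000
  ·
    by_cases h5 : i < 185000
    ·
      by_cases h2 : i < 182000
      ·
        by_cases h1 : i < 181000
        ·
          exact allB_sound pairs_9_0 i (by omega) (by omega)
        ·
          exact allB_sound pairs_9_1 i (by omega) (by omega)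
      ·
        by_cases h3 : i < 183000
        ·
          exact allB_sound pairs_9_2 i (by omega) (by omega)
        ·
          by_cases h4 : i < 184000
          ·
            exact allB_sound pairs_9_3 i (by omega) (by omega)
          ·
            exact allB_sound pairs_9_4 i (by omega) (by omega)
    ·
      by_cases h7 : i < 187000
      ·
        by_cases h6 : i < 186000
        ·
          exact allB_sound pairs_9_5 i (by omega) (by omega)
        ·
          exact allB_sound pairs_9_6 i (by omega) (by omega)
      ·
        by_cases h8 : i < 188000
        ·
          exact allB_sound pairs_9_7 i (by omega) (by omega)
        ·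
          by_cases h9 : i < 189000
          ·
            exact allB_sound pairs_9_8 i (by omega) (by omega)
          ·
            exact allB_sound pairs_9_9 i (by omega) (by omega)
  ·
    by_cases h15 : i < 195000
    ·
      by_cases h12 : i < 192000
      ·
        by_cases h11 : i < 191000
        ·
          exact allB_sound pairs_9_10 i (by omega) (by omega)
        ·
          exact allB_sound pairs_9_11 i (by omega) (by omega)
      ·
        by_cases h13 : i < 193000
        ·
          exact allB_sound pairs_9_12 i (by omega) (by omega)
        ·
          by_cases h14 : i < 194000
          ·
            exact allB_sound pairs_9_13 i (by omega) (by omega)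
          ·
            exact allB_sound pairs_9_14 i (by omega) (by omega)
    ·
      by_cases h17 : i < 197000
      ·
        by_cases h16 : i < 196000
        ·
          exact allB_sound pairs_9_15 i (by omega) (by omega)
        ·
          exact allB_sound pairs_9_16 i (by omega) (by omega)
      ·
        by_cases h18 : i < 198000
        ·
          exact allB_sound pairs_9_17 i (by omega) (by omega)
        ·
          by_cases h19 : i < 199000
          ·
            exact allB_sound pairs_9_18 i (by omega) (by omega)
          ·
            exact allB_sound pairs_9_19 i (by omega) (by omega)

set_option maxRecDepth 100000 in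
theorem words_9_0 : allB wordsOK 1000 180000 = true := by decide +kernel

set_option maxRecDepth 100000 in
theorem words_9_1 : allB wordsOK 1000 181000 = true := by decide +kernel

set_option maxRecDepth 100000 in
theorem words_9_2 : allB wordsOK 1000 182000 = true := by decide +kernel

set_option maxRecDepth 100000 in
theorem words_9_3 : allB wordsOK 1000 183000 = true := by decide +kernel

set_option maxRecDepth 100000 in
theorem words_9_4 : allB wordsOK 1000 184000 = true := by decide +kernel

set_option maxRecDepth 100000 in
theorem words_9_5 : allB wordsOK 1000 185000 = true := by decide +kernel

set_option maxRecDepth 100000 in
theorem words_9_6 : allB wordsOK 1000 186000 = true := by decide +kernel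

set_option maxRecDepth 100000 in
theorem words_9_7 : allB wordsOK 1000 187000 = true := by decide +kernel

set_option maxRecDepth 100000 in
theorem words_9_8 : allB wordsOK 1000 188000 = true := by decide +kernel

set_option maxRecDepth 100000 in
theorem words_9_9 : allB wordsOK 1000 189000 = true := by decide +kernel

set_option maxRecDepth 100000 in
theorem words_9_10 : allB wordsOK 1000 190000 = true := by decide +kernel

set_option maxRecDepth 100000 in
theorem words_9_11 : allB wordsOK 1000 191000 = true := by decide +kernel

set_option maxRecDepth 100000 in
theorem words_9_12 : allB wordsOK 1000 192000 = true := by decide +kernel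

set_option maxRecDepth 100000 in
theorem words_9_13 : allB wordsOK 1000 193000 = true := by decide +kernel

set_option maxRecDepth 100000 in
theorem words_9_14 : allB wordsOK 1000 194000 = true := by decide +kernel

set_option maxRecDepth 100000 in
theorem words_9_15 : allB wordsOK 1000 195000 = true := by decide +kernel

set_option maxRecDepth 100000 in
theorem words_9_16 : allB wordsOK 1000 196000 = true := by decide +kernel

set_option maxRecDepth 100000 in
theorem words_9_17 : allB wordsOK 1000 197000 = true := by decide +kernel

set_option maxRecDepth 100000 in
theorem words_9_18 : allB wordsOK 1000 198000 = true := by decide +kernel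

set_option maxRecDepth 100000 in
theorem words_9_19 : allB wordsOK 1000 199000 = true := by decide +kernel

theorem words_9 (i : ℕ) (h1 : 180000 ≤ i) (h2 : i < 200000) : wordsOK i = true := by
  by_cases h10 : i < 190000
  ·
    by_cases h5 : i < 185000
    ·
      by_cases h2 : i < 182000
      ·
        by_cases h1 : i < 181000
        ·
          exact allB_sound words_9_0 i (by omega) (by omega)
        ·
          exact allB_sound words_9_1 i (by omega) (by omega)
      ·
        by_cases h3 : i < 183000
        ·
          exact allB_sound words_9_2 i (by omega) (by omega)
        ·
          by_cases h4 : i < 184000
          ·
            exact allB_sound words_9_3 i (by omega) (by omega)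
          ·
            exact allB_sound words_9_4 i (by omega) (by omega)
    ·
      by_cases h7 : i < 187000
      ·
        by_cases h6 : i < 186000
        ·
          exact allB_sound words_9_5 i (by omega) (by omega)
        ·
          exact allB_sound words_9_6 i (by omega) (by omega)
      ·
        by_cases h8 : i < 188000
        ·
          exact allB_sound words_9_7 i (by omega) (by omega)
        ·
          by_cases h9 : i < 189000
          ·
            exact allB_sound words_9_8 i (by omega) (by omega)
          ·
            exact allB_sound words_9_9 i (by omega) (by omega)
  ·
    by_cases h15 : i < 195000
    ·
      by_cases h12 : i < 192000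
      ·
        by_cases h11 : i < 191000
        ·
          exact allB_sound words_9_10 i (by omega) (by omega)
        ·
          exact allB_sound words_9_11 i (by omega) (by omega)
      ·
        by_cases h13 : i < 193000
        ·
          exact allB_sound words_9_12 i (by omega) (by omega)
        ·
          by_cases h14 : i < 194000
          ·
            exact allB_sound words_9_13 i (by omega) (by omega)
          ·
            exact allB_sound words_9_14 i (by omega) (by omega)
    ·
      by_cases h17 : i < 197000
      ·
        by_cases h16 : i < 196000
        ·
          exact allB_sound words_9_15 i (by omega) (by omega)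
        ·
          exact allB_sound words_9_16 i (by omega) (by omega)
      ·
        by_cases h18 : i < 198000
        ·
          exact allB_sound words_9_17 i (by omega) (by omega)
        ·
          by_cases h19 : i < 199000
          ·
            exact allB_sound words_9_18 i (by omega) (by omega)
          ·
            exact allB_sound words_9_19 i (by omega) (by omega)

end Cfsg.Lib.FiFour
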