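import Cfsg.Agent.FiFour.ActPart0
import Cfsg.Agent.FiFour.ActPart1
import Cfsg.Agent.FiFour.ActPart2
import Cfsg.Agent.FiFour.ActPart3
import Cfsg.Agent.FiFour.ActPart4
import Cfsg.Agent.FiFour.ActPart5
import Cfsg.Agent.FiFour.ActPart6
import Cfsg.Agent.FiFour.ActPart7
import Cfsg.Agent.FiFour.ActPart8
import Cfsg.Agent.FiFour.ActPart9
import Cfsg.Agent.FiFour.ActPart10
import Cfsg.Agent.FiFour.ActPart11
import Cfsg.Agent.FiFour.ActPart12
import Cfsg.Agent.FiFour.ActPart13
import Cfsg.Agent.FiFour.ActPart14
import Cfsg.Agent.FiFour.ActPart15

/-!
The tests hold at all points.
-/

set_option autoImplicit false

namespace Cfsg.Lib.FiFour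

theorem pairs_ok (i : ℕ) (h : i < 306936) : pairsOK i = true := by
  by_cases h8 : i < 160000
  ·
    by_cases h4 : i < 80000
    ·
      by_cases h2 : i < 40000
      ·
        by_cases h1 : i < 20000
        ·
          exact pairs_0 i (by omega) (by omega)
        ·
          exact pairs_1 i (by omega) (by omega)
      ·
        by_cases h3 : i < 60000
        ·
          exact pairs_2 i (by omega) (by omega)
        ·
          exact pairs_3 i (by omega) (by omega)
    ·
      by_cases h6 : i < 120000
      ·
        by_cases h5 : i < 100000
        ·
          exact pairs_4 i (by omega) (by omega)
        ·
          exact pairs_5 i (by omega) (by omega)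
      ·
        by_cases h7 : i < 140000
        ·
          exact pairs_6 i (by omega) (by omega)
        ·
          exact pairs_7 i (by omega) (by omega)
  ·
    by_cases h12 : i < 240000
    ·
      by_cases h10 : i < 200000
      ·
        by_cases h9 : i < 180000
        ·
          exact pairs_8 i (by omega) (by omega)
        ·
          exact pairs_9 i (by omega) (by omega)
      ·
        by_cases h11 : i < 220000
        ·
          exact pairs_10 i (by omega) (by omega)
        ·
          exact pairs_11 i (by omega) (by omega)
    ·
      by_cases h14 : i < 280000
      ·
        by_cases h13 : i < 260000
        ·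
          exact pairs_12 i (by omega) (by omega)
        ·
          exact pairs_13 i (by omega) (by omega)
      ·
        by_cases h15 : i < 300000
        ·
          exact pairs_14 i (by omega) (by omega)
        ·
          exact pairs_15 i (by omega) (by omega)

theorem words_ok (i : ℕ) (h : i < 306936) : wordsOK i = true := by
  by_cases h8 : i < 160000
  ·
    by_cases h4 : i < 80000
    ·
      by_cases h2 : i < 40000
      ·
        by_cases h1 : i < 20000
        ·
          exact words_0 i (by omega) (by omega)
        ·
          exact words_1 i (by omega) (by omega)
      ·
        by_cases h3 : i < 60000
        ·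
          exact words_2 i (by omega) (by omega)
        ·
          exact words_3 i (by omega) (by omega)
    ·
      by_cases h6 : i < 120000
      ·
        by_cases h5 : i < 100000
        ·
          exact words_4 i (by omega) (by omega)
        ·
          exact words_5 i (by omega) (by omega)
      ·
        by_cases h7 : i < 140000
        ·
          exact words_6 i (by omega) (by omega)
        ·
          exact words_7 i (by omega) (by omega)
  ·
    by_cases h12 : i < 240000
    ·
      by_cases h10 : i < 200000
      ·
        by_cases h9 : i < 180000
        ·
          exact words_8 i (by omega) (by omega)
        ·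
          exact words_9 i (by omega) (by omega)
      ·
        by_cases h11 : i < 220000
        ·
          exact words_10 i (by omega) (by omega)
        ·
          exact words_11 i (by omega) (by omega)
    ·
      by_cases h14 : i < 280000
      ·
        by_cases h13 : i < 260000
        ·
          exact words_12 i (by omega) (by omega)
        ·
          exact words_13 i (by omega) (by omega)
      ·
        by_cases h15 : i < 300000
        ·
          exact words_14 i (by omega) (by omega)
        ·
          exact words_15 i (by omega) (by omega)

end Cfsg.Lib.FiFour
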