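import Cfsg.Agent.FiFour.Test

/-!
Kernel checks of the relators on the points, block 0.
-/

set_option autoImplicit false
set_option Elab.async false

namespace Cfsg.Lib.FiFour

set_option maxRecDepth 100000 in
theorem pairs_0_0 : allB pairsOK 1000 0 = true := by decide +kernel

set_option maxRecDepth 100000 in
theorem pairs_0_1 : allB pairsOK 1000 1000 = true := by decide +kernel

set_option maxRecDepth 100000 in
theorem pairs_0_2 : allB pairsOK 1000 2000 = true := by decide +kernel

set_option maxRecDepth 100000 in
theorem pairs_0_3 : allB pairsOK 1000 3000 = true := by decide +kernel

set_option maxRecDepth 100000 in
theorem pairs_0_4 : allB pairsOK 1000 4000 = true := by decide +kernel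

set_option maxRecDepth 100000 in
theorem pairs_0_5 : allB pairsOK 1000 5000 = true := by decide +kernel

set_option maxRecDepth 100000 in
theorem pairs_0_6 : allB pairsOK 1000 6000 = true := by decide +kernel

set_option maxRecDepth 100000 in
theorem pairs_0_7 : allB pairsOK 1000 7000 = true := by decide +kernel

set_option maxRecDepth 100000 in
theorem pairs_0_8 : allB pairsOK 1000 8000 = true := by decide +kernel

set_option maxRecDepth 100000 in
theorem pairs_0_9 : allB pairsOK 1000 9000 = true := by decide +kernel

set_option maxRecDepth 100000 in
theorem pairs_0_10 : allB pairsOK 1000 10000 = true := by decide +kernel

set_option maxRecDepth 100000 in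
theorem pairs_0_11 : allB pairsOK 1000 11000 = true := by decide +kernel

set_option maxRecDepth 100000 in
theorem pairs_0_12 : allB pairsOK 1000 12000 = true := by decide +kernel

set_option maxRecDepth 100000 in
theorem pairs_0_13 : allB pairsOK 1000 13000 = true := by decide +kernel

set_option maxRecDepth 100000 in
theorem pairs_0_14 : allB pairsOK 1000 14000 = true := by decide +kernel

set_option maxRecDepth 100000 in
theorem pairs_0_15 : allB pairsOK 1000 15000 = true := by decide +kernel

set_option maxRecDepth 100000 in
theorem pairs_0_16 : allB pairsOK 1000 16000 = true := by decide +kernel

set_option maxRecDepth 100000 in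
theorem pairs_0_17 : allB pairsOK 1000 17000 = true := by decide +kernel

set_option maxRecDepth 100000 in
theorem pairs_0_18 : allB pairsOK 1000 18000 = true := by decide +kernel

set_option maxRecDepth 100000 in
theorem pairs_0_19 : allB pairsOK 1000 19000 = true := by decide +kernel

theorem pairs_0 (i : ℕ) (h1 : 0 ≤ i) (h2 : i < 20000) : pairsOK i = true := by
  by_cases h10 : i < 10000
  ·
    by_cases h5 : i < 5000
    ·
      by_cases h2 : i < 2000
      ·
        by_cases h1 : i < 1000
        ·
          exact allB_sound pairs_0_0 i (by omega) (by omega)
        ·
          exact allB_sound pairs_0_1 i (by omega) (by omega)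
      ·
        by_cases h3 : i < 3000
        ·
          exact allB_sound pairs_0_2 i (by omega) (by omega)
        ·
          by_cases h4 : i < 4000
          ·
            exact allB_sound pairs_0_3 i (by omega) (by omega)
          ·
            exact allB_sound pairs_0_4 i (by omega) (by omega)
    ·
      by_cases h7 : i < 7000
      ·
        by_cases h6 : i < 6000
        ·
          exact allB_sound pairs_0_5 i (by omega) (by omega)
        ·
          exact allB_sound pairs_0_6 i (by omega) (by omega)
      ·
        by_cases h8 : i < 8000
        ·
          exact allB_sound pairs_0_7 i (by omega) (by omega)
        ·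
          by_cases h9 : i < 9000
          ·
            exact allB_sound pairs_0_8 i (by omega) (by omega)
          ·
            exact allB_sound pairs_0_9 i (by omega) (by omega)
  ·
    by_cases h15 : i < 15000
    ·
      by_cases h12 : i < 12000
      ·
        by_cases h11 : i < 11000
        ·
          exact allB_sound pairs_0_10 i (by omega) (by omega)
        ·
          exact allB_sound pairs_0_11 i (by omega) (by omega)
      ·
        by_cases h13 : i < 13000
        ·
          exact allB_sound pairs_0_12 i (by omega) (by omega)
        ·
          by_cases h14 : i < 14000
          ·
            exact allB_sound pairs_0_13 i (by omega) (by omega)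
          ·
            exact allB_sound pairs_0_14 i (by omega) (by omega)
    ·
      by_cases h17 : i < 17000
      ·
        by_cases h16 : i < 16000
        ·
          exact allB_sound pairs_0_15 i (by omega) (by omega)
        ·
          exact allB_sound pairs_0_16 i (by omega) (by omega)
      ·
        by_cases h18 : i < 18000
        ·
          exact allB_sound pairs_0_17 i (by omega) (by omega)
        ·
          by_cases h19 : i < 19000
          ·
            exact allB_sound pairs_0_18 i (by omega) (by omega)
          ·
            exact allB_sound pairs_0_19 i (by omega) (by omega)

set_option maxRecDepth 100000 in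
theorem words_0_0 : allB wordsOK 1000 0 = true := by decide +kernel

set_option maxRecDepth 100000 in
theorem words_0_1 : allB wordsOK 1000 1000 = true := by decide +kernel

set_option maxRecDepth 100000 in
theorem words_0_2 : allB wordsOK 1000 2000 = true := by decide +kernel

set_option maxRecDepth 100000 in
theorem words_0_3 : allB wordsOK 1000 3000 = true := by decide +kernel

set_option maxRecDepth 100000 in
theorem words_0_4 : allB wordsOK 1000 4000 = true := by decide +kernel

set_option maxRecDepth 100000 in
theorem words_0_5 : allB wordsOK 1000 5000 = true := by decide +kernel

set_option maxRecDepth 100000 in
theorem words_0_6 : allB wordsOK 1000 6000 = true := by decide +kernel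

set_option maxRecDepth 100000 in
theorem words_0_7 : allB wordsOK 1000 7000 = true := by decide +kernel

set_option maxRecDepth 100000 in
theorem words_0_8 : allB wordsOK 1000 8000 = true := by decide +kernel

set_option maxRecDepth 100000 in
theorem words_0_9 : allB wordsOK 1000 9000 = true := by decide +kernel

set_option maxRecDepth 100000 in
theorem words_0_10 : allB wordsOK 1000 10000 = true := by decide +kernel

set_option maxRecDepth 100000 in
theorem words_0_11 : allB wordsOK 1000 11000 = true := by decide +kernel

set_option maxRecDepth 100000 in
theorem words_0_12 : allB wordsOK 1000 12000 = true := by decide +kernel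

set_option maxRecDepth 100000 in
theorem words_0_13 : allB wordsOK 1000 13000 = true := by decide +kernel

set_option maxRecDepth 100000 in
theorem words_0_14 : allB wordsOK 1000 14000 = true := by decide +kernel

set_option maxRecDepth 100000 in
theorem words_0_15 : allB wordsOK 1000 15000 = true := by decide +kernel

set_option maxRecDepth 100000 in
theorem words_0_16 : allB wordsOK 1000 16000 = true := by decide +kernel

set_option maxRecDepth 100000 in
theorem words_0_17 : allB wordsOK 1000 17000 = true := by decide +kernel

set_option maxRecDepth 100000 in
theorem words_0_18 : allB wordsOK 1000 18000 = true := by decide +kernel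

set_option maxRecDepth 100000 in
theorem words_0_19 : allB wordsOK 1000 19000 = true := by decide +kernel

theorem words_0 (i : ℕ) (h1 : 0 ≤ i) (h2 : i < 20000) : wordsOK i = true := by
  by_cases h10 : i < 10000
  ·
    by_cases h5 : i < 5000
    ·
      by_cases h2 : i < 2000
      ·
        by_cases h1 : i < 1000
        ·
          exact allB_sound words_0_0 i (by omega) (by omega)
        ·
          exact allB_sound words_0_1 i (by omega) (by omega)
      ·
        by_cases h3 : i < 3000
        ·
          exact allB_sound words_0_2 i (by omega) (by omega)
        ·
          by_cases h4 : i < 4000
          ·
            exact allB_sound words_0_3 i (by omega) (by omega)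
          ·
            exact allB_sound words_0_4 i (by omega) (by omega)
    ·
      by_cases h7 : i < 7000
      ·
        by_cases h6 : i < 6000
        ·
          exact allB_sound words_0_5 i (by omega) (by omega)
        ·
          exact allB_sound words_0_6 i (by omega) (by omega)
      ·
        by_cases h8 : i < 8000
        ·
          exact allB_sound words_0_7 i (by omega) (by omega)
        ·
          by_cases h9 : i < 9000
          ·
            exact allB_sound words_0_8 i (by omega) (by omega)
          ·
            exact allB_sound words_0_9 i (by omega) (by omega)
  ·
    by_cases h15 : i < 15000
    ·
      by_cases h12 : i < 12000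
      ·
        by_cases h11 : i < 11000
        ·
          exact allB_sound words_0_10 i (by omega) (by omega)
        ·
          exact allB_sound words_0_11 i (by omega) (by omega)
      ·
        by_cases h13 : i < 13000
        ·
          exact allB_sound words_0_12 i (by omega) (by omega)
        ·
          by_cases h14 : i < 14000
          ·
            exact allB_sound words_0_13 i (by omega) (by omega)
          ·
            exact allB_sound words_0_14 i (by omega) (by omega)
    ·
      by_cases h17 : i < 17000
      ·
        by_cases h16 : i < 16000
        ·
          exact allB_sound words_0_15 i (by omega) (by omega)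
        ·
          exact allB_sound words_0_16 i (by omega) (by omega)
      ·
        by_cases h18 : i < 18000
        ·
          exact allB_sound words_0_17 i (by omega) (by omega)
        ·
          by_cases h19 : i < 19000
          ·
            exact allB_sound words_0_18 i (by omega) (by omega)
          ·
            exact allB_sound words_0_19 i (by omega) (by omega)

end Cfsg.Lib.FiFour
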