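import Cfsg.Agent.FiFour.Test

/-!
Reading the test of the relators at one point.
-/

set_option autoImplicit false
set_option maxRecDepth 100000

namespace Cfsg.Lib.FiFour

attribute [local irreducible] rowF sevF lonF

theorem fx_lt (e x : ℕ) : fx e x < 524288 := Nat.mod_lt _ (by norm_num)

theorem rowF_lt (p : ℕ) : rowF p < 2 ^ 228 := by
  unfold rowF
  exact lt_of_lt_of_le (Nat.mod_lt _ (by norm_num)) (by norm_num)

theorem nbrs_succ (e m : ℕ) : nbrs e (m + 1) = nbrs e m + rowF (fx e m) * 2 ^ (228 * m) := by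
  show Nat.add (nbrs e m) (Nat.shiftLeft (rowF (fx e m)) (Nat.mul 228 m)) = _
  rw [← Nat.shiftLeft_eq]
  rfl

theorem nbrs_lt (e : ℕ) : ∀ m, nbrs e m < 2 ^ (228 * m)
  | 0 => by show 0 < _; positivity
  | m + 1 => by
    have h1 := nbrs_lt e m
    have h2 := rowF_lt (fx e m)
    rw [nbrs_succ, show 228 * (m + 1) = 228 + 228 * m by ring, pow_add]
    calc nbrs e m + rowF (fx e m) * 2 ^ (228 * m) < (rowF (fx e m) + 1) * 2 ^ (228 * m) := by
          rw [add_mul, one_mul]; omega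
      _ ≤ 2 ^ 228 * 2 ^ (228 * m) := Nat.mul_le_mul_right _ h2

theorem nbrs_field (e : ℕ) : ∀ {m x : ℕ}, x < m → nbrs e m / 2 ^ (228 * x) % 2 ^ 228 = rowF (fx e x)
  | 0, _, h => absurd h (by omega)
  | m + 1, x, h => by
    rw [nbrs_succ]
    rcases Nat.eq_or_lt_of_le (Nat.le_of_lt_succ h) with rfl | hx
    · rw [Nat.add_mul_div_right _ _ (by positivity), Nat.div_eq_of_lt (nbrs_lt e x), Nat.zero_add,
        Nat.mod_eq_of_lt (rowF_lt _)]
    · have hs : 228 * m = 228 * x + (228 + 228 * (m - x - 1)) := by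
        obtain ⟨d, rfl⟩ := Nat.exists_eq_add_of_le hx
        rw [show x.succ + d - x - 1 = d by omega, Nat.succ_eq_add_one]
        ring
      rw [hs, pow_add, pow_add, mul_left_comm, Nat.add_mul_div_left _ _ (by positivity), mul_left_comm,
        Nat.add_mul_mod_self_left]
      exact nbrs_field e hx

/-- A field of a row of a neighbour. -/
theorem shift_field (e : ℕ) {x y : ℕ} (hx : x < 12) (hy : y < 12) :
    Nat.shiftRight (nbrs e 12) (228 * x + 19 * y) % 524288 = fx (rowF (fx e x)) y := by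
  show (nbrs e 12) >>> (228 * x + 19 * y) % 524288 = (rowF (fx e x)) >>> (19 * y) % 524288
  rw [Nat.shiftRight_eq_div_pow, Nat.shiftRight_eq_div_pow, ← nbrs_field e hx, pow_add, ← Nat.div_div_eq_div_mul]
  generalize nbrs e 12 / 2 ^ (228 * x) = A
  interval_cases y <;> norm_num <;> omega

theorem twoStep_eq (e : ℕ) {x y : ℕ} (hx : x < 12) (hy : y < 12) :
    twoStep (nbrs e 12) x y = fx (rowF (fx e x)) y := by
  rw [← shift_field e hx hy]
  show (Nat.shiftRight (nbrs e 12) (228 * x)) >>> (19 * y) % 524288 = _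
  rw [show Nat.shiftRight (nbrs e 12) (228 * x) = nbrs e 12 >>> (228 * x) from rfl, ← Nat.shiftRight_add]
  rfl

/-- Exclusive or of two fields, joined over a list. -/
noncomputable def joinXor (f g : ℕ → ℕ) : List ℕ → ℕ → ℕ
  | [], acc => acc
  | a :: r, acc => joinXor f g r (Nat.lor (Nat.xor (f a) (g a)) acc)

theorem land_lor_zero {a b m : ℕ} : Nat.land (Nat.lor a b) m = 0 ↔ Nat.land a m = 0 ∧ Nat.land b m = 0 := by
  show (a ||| b) &&& m = 0 ↔ a &&& m = 0 ∧ b &&& m = 0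
  rw [Nat.and_or_distrib_right, Nat.or_eq_zero_iff]

theorem xor_land_zero {a b : ℕ} (h : Nat.land (Nat.xor a b) 524287 = 0) : a % 524288 = b % 524288 := by
  have e : (a ^^^ b) &&& (2 ^ 19 - 1) = 0 := h
  rw [Nat.and_two_pow_sub_one_eq_mod, Nat.xor_mod_two_pow] at e
  exact Nat.xor_eq_zero_iff.1 e

theorem joinXor_zero {f g : ℕ → ℕ} : ∀ {L : List ℕ} {acc : ℕ}, Nat.land (joinXor f g L acc) 524287 = 0 →
    Nat.land acc 524287 = 0 ∧ ∀ a ∈ L, f a % 524288 = g a % 524288
  | [], _, h => ⟨h, fun a ha => absurd ha (by simp)⟩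
  | b :: r, acc, h => by
    obtain ⟨h1, h2⟩ := joinXor_zero (L := r) h
    obtain ⟨h3, h4⟩ := land_lor_zero.1 h1
    exact ⟨h4, List.forall_mem_cons.2 ⟨xor_land_zero h3, h2⟩⟩

end Cfsg.Lib.FiFour
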