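import Cfsg.Agent.FiFour.ActAll
import Cfsg.Agent.FiFour.Fields
import Cfsg.Agent.FiFour.Relators

/-!
The tables on 306936 points satisfy the relations.
-/

set_option autoImplicit false
set_option maxRecDepth 100000

namespace Cfsg.Lib.FiFour

open Cfsg.Lib.CosetCert
open Cfsg.Lib.ONPres (force force_eq)

attribute [local irreducible] rowF sevF lonF

/-- The number of points. -/
abbrev Pts : Type := Fin 306936

/-- The adjacent pairs. -/
def adjPairs : List (ℕ × ℕ) :=
  [(0, 1), (1, 2), (2, 3), (3, 4), (4, 5), (5, 6), (6, 9), (3, 7), (7, 8), (0, 11), (10, 11)]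

/-- The commuting pairs. -/
def comPairs : List (ℕ × ℕ) :=
  [(0, 2), (0, 3), (0, 4), (0, 5), (0, 6), (0, 7), (0, 8), (0, 9), (0, 10), (1, 3), (1, 4), (1, 5), (1, 6), (1, 7), (1, 8), (1, 9), (1, 10), (1, 11), (2, 4), (2, 5), (2, 6), (2, 7), (2, 8), (2, 9), (2, 10), (2, 11), (3, 5), (3, 6), (3, 8), (3, 9), (3, 10), (3, 11), (4, 6), (4, 7), (4, 8), (4, 9), (4, 10), (4, 11), (5, 7), (5, 8), (5, 9), (5, 10), (5, 11), (6, 7), (6, 8), (6, 10), (6, 11), (7, 9), (7, 10), (7, 11), (8, 9), (8, 10), (8, 11), (9, 10), (9, 11)]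

theorem pairs_spec {p : ℕ} (hp : p < 306936) :
    (∀ x < 12, mv x p < 306936 ∧ mv x (mv x p) = p) ∧
    (∀ q ∈ comPairs, mv q.2 (mv q.1 p) = mv q.1 (mv q.2 p)) ∧
    (∀ q ∈ adjPairs, p ≤ mv q.1 p → p ≤ mv q.2 p → mv q.1 (mv q.2 (mv q.1 p)) = mv q.2 (mv q.1 (mv q.2 p))) := by
  have h := pairs_ok p hp
  rw [pairsOK, force_eq, force_eq] at h
  simp only [Bool.and_eq_true] at h
  obtain ⟨⟨⟨hr, hi⟩, hc⟩, hb⟩ := h
  have hp' : p % 524288 = p := Nat.mod_eq_of_lt (by omega)
  refine ⟨fun x hx => ⟨?_, ?_⟩, ?_, ?_⟩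
  · simp only [rangeAt, Bool.and_eq_true, Nat.ble_eq] at hr
    unfold mv
    interval_cases x <;> omega
  · rw [Nat.beq_eq] at hi
    have e : invAt (nbrs (rowF p) 12) p = Nat.land (joinXor (fun o => Nat.shiftRight (nbrs (rowF p) 12) o)
      (fun _ => p) [0, 247, 494, 741, 988, 1235, 1482, 1729, 1976, 2223, 2470, 2717] 0) 524287 := rfl
    rw [e] at hi
    have := (joinXor_zero hi).2 (228 * x + 19 * x) (by interval_cases x <;> decide)
    rw [hp', shift_field _ hx hx] at this
    exact this
  · rw [Nat.beq_eq] at hc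
    have e : comAt (nbrs (rowF p) 12) = Nat.land (joinXor
      (fun q : ℕ => Nat.shiftRight (nbrs (rowF p) 12) ([38, 57, 76, 95, 114, 133, 152, 171, 190, 285, 304, 323, 342, 361, 380, 399, 418, 437, 532, 551, 570, 589, 608, 627, 646, 665, 779, 798, 836, 855, 874, 893, 1026, 1045, 1064, 1083, 1102, 1121, 1273, 1292, 1311, 1330, 1349, 1501, 1520, 1558, 1577, 1767, 1786, 1805, 1995, 2014, 2033, 2242, 2261].getD q 0))
      (fun q : ℕ => Nat.shiftRight (nbrs (rowF p) 12) ([456, 684, 912, 1140, 1368, 1596, 1824, 2052, 2280, 703, 931, 1159, 1387, 1615, 1843, 2071, 2299, 2527, 950, 1178, 1406, 1634, 1862, 2090, 2318, 2546, 1197, 1425, 1881, 2109, 2337, 2565, 1444, 1672, 1900, 2128, 2356, 2584, 1691, 1919, 2147, 2375, 2603, 1710, 1938, 2394, 2622, 2185, 2413, 2641, 2204, 2432, 2660, 2451, 2679].getD q 0)) (List.range 55) 0) 524287 := rfl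
    rw [e] at hc
    intro q hq
    obtain ⟨i, hi', rfl⟩ := List.getElem_of_mem hq
    have := (joinXor_zero hc).2 i (List.mem_range.2 hi')
    have hidx : ([38, 57, 76, 95, 114, 133, 152, 171, 190, 285, 304, 323, 342, 361, 380, 399, 418, 437, 532, 551, 570, 589, 608, 627, 646, 665, 779, 798, 836, 855, 874, 893, 1026, 1045, 1064, 1083, 1102, 1121, 1273, 1292, 1311, 1330, 1349, 1501, 1520, 1558, 1577, 1767, 1786, 1805, 1995, 2014, 2033, 2242, 2261].getD i 0) = 228 * (comPairs[i]).1 + 19 * (comPairs[i]).2 ∧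
        ([456, 684, 912, 1140, 1368, 1596, 1824, 2052, 2280, 703, 931, 1159, 1387, 1615, 1843, 2071, 2299, 2527, 950, 1178, 1406, 1634, 1862, 2090, 2318, 2546, 1197, 1425, 1881, 2109, 2337, 2565, 1444, 1672, 1900, 2128, 2356, 2584, 1691, 1919, 2147, 2375, 2603, 1710, 1938, 2394, 2622, 2185, 2413, 2641, 2204, 2432, 2660, 2451, 2679].getD i 0) = 228 * (comPairs[i]).2 + 19 * (comPairs[i]).1 ∧
        (comPairs[i]).1 < 12 ∧ (comPairs[i]).2 < 12 := by
      have key : (List.range 55).all (fun i => decide (([38, 57, 76, 95, 114, 133, 152, 171, 190, 285, 304, 323, 342, 361, 380, 399, 418, 437, 532, 551, 570, 589, 608, 627, 646, 665, 779, 798, 836, 855, 874, 893, 1026, 1045, 1064, 1083, 1102, 1121, 1273, 1292, 1311, 1330, 1349, 1501, 1520, 1558, 1577, 1767, 1786, 1805, 1995, 2014, 2033, 2242, 2261].getD i 0) = 228 * (comPairs.getD i (0, 0)).1 +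
          19 * (comPairs.getD i (0, 0)).2 ∧ ([456, 684, 912, 1140, 1368, 1596, 1824, 2052, 2280, 703, 931, 1159, 1387, 1615, 1843, 2071, 2299, 2527, 950, 1178, 1406, 1634, 1862, 2090, 2318, 2546, 1197, 1425, 1881, 2109, 2337, 2565, 1444, 1672, 1900, 2128, 2356, 2584, 1691, 1919, 2147, 2375, 2603, 1710, 1938, 2394, 2622, 2185, 2413, 2641, 2204, 2432, 2660, 2451, 2679].getD i 0) = 228 * (comPairs.getD i (0, 0)).2 +
          19 * (comPairs.getD i (0, 0)).1 ∧ (comPairs.getD i (0, 0)).1 < 12 ∧ (comPairs.getD i (0, 0)).2 < 12)) = true := by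
        decide +kernel
      have := List.all_eq_true.1 key i (List.mem_range.2 hi')
      rw [decide_eq_true_eq, List.getD_eq_getElem _ _ hi'] at this
      exact this
    rw [hidx.1, hidx.2.1, shift_field _ hidx.2.2.1 hidx.2.2.2, shift_field _ hidx.2.2.2 hidx.2.2.1] at this
    exact this
  · intro q hq h1 h2
    have hb' : braidAt (rowF p) (nbrs (rowF p) 12) p q.1 q.2 = true ∧ q.1 < 12 ∧ q.2 < 12 := by
      simp only [braidsAt, Bool.and_eq_true] at hb
      simp only [adjPairs, List.mem_cons, List.mem_nil_iff, or_false] at hq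
      rcases hq with rfl | rfl | rfl | rfl | rfl | rfl | rfl | rfl | rfl | rfl | rfl <;> simp [hb]
    obtain ⟨hb', hx, hy⟩ := hb'
    rw [braidAt, show Nat.ble p (fx (rowF p) q.1) = true from Nat.ble_eq_true_of_le h1,
      show Nat.ble p (fx (rowF p) q.2) = true from Nat.ble_eq_true_of_le h2, twoStep_eq _ hx hy, twoStep_eq _ hy hx] at hb'
    exact Nat.eq_of_beq_eq_true hb'

theorem mv_lt {x p : ℕ} (hx : x < 12) (hp : p < 306936) : mv x p < 306936 := ((pairs_spec hp).1 x hx).1

theorem mv_mv {x p : ℕ} (hx : x < 12) (hp : p < 306936) : mv x (mv x p) = p := ((pairs_spec hp).1 x hx).2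

/-- A braid at all points. -/
theorem braid_all {q : ℕ × ℕ} (hq : q ∈ adjPairs) : ∀ p < 306936,
    mv q.1 (mv q.2 (mv q.1 p)) = mv q.2 (mv q.1 (mv q.2 p)) := by
  have hlt : q.1 < 12 ∧ q.2 < 12 := by
    simp only [adjPairs, List.mem_cons, List.mem_nil_iff, or_false] at hq
    rcases hq with rfl | rfl | rfl | rfl | rfl | rfl | rfl | rfl | rfl | rfl | rfl <;> simp
  obtain ⟨hx, hy⟩ := hlt
  intro p
  induction p using Nat.strong_induction_on with
  | _ p ih =>
    intro hp
    rcases Nat.lt_or_ge (mv q.1 p) p with h | h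
    · have e := ih _ h (mv_lt hx hp)
      rw [mv_mv hx hp] at e
      have := congrArg (mv q.2) e
      rw [mv_mv hy (mv_lt hx (mv_lt hy (mv_lt hx hp)))] at this
      exact this.symm
    · rcases Nat.lt_or_ge (mv q.2 p) p with h' | h'
      · have e := ih _ h' (mv_lt hy hp)
        rw [mv_mv hy hp] at e
        have := congrArg (mv q.1) e
        rw [mv_mv hx (mv_lt hy (mv_lt hx (mv_lt hy hp)))] at this
        exact this.symm
      · exact (pairs_spec hp).2.2 q hq h h'

/-- A letter as a permutation of the points. -/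
noncomputable def act (x : ℕ) : Equiv.Perm Pts :=
  if hx : x < 12 then
    Function.Involutive.toPerm (fun p => ⟨mv x p.val, mv_lt hx p.isLt⟩) fun p => Fin.ext (mv_mv hx p.isLt)
  else 1

theorem act_val {x : ℕ} (hx : x < 12) (p : Pts) : (act x p).val = mv x p.val := by
  rw [act, dif_pos hx]
  rfl

theorem act_sq (x : ℕ) : act x * act x = 1 := by
  refine Equiv.ext fun p => Fin.ext ?_
  by_cases hx : x < 12
  · rw [Equiv.Perm.mul_apply, act_val hx, act_val hx, mv_mv hx p.isLt]; rfl
  · simp [act, hx]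

/-- Move a point along a word. -/
noncomputable def moves : List ℕ → ℕ → ℕ
  | [], q => q
  | x :: w, q => moves w (mv x q)

theorem walkW_eq : ∀ {w : List ℕ} {q t : ℕ}, walkW w q t = true → moves w q = t
  | [], _, _, h => Nat.eq_of_beq_eq_true h
  | _ :: w, _, _, h => by
    rw [walkW, force_eq] at h
    exact walkW_eq (w := w) h

theorem iterT_eq {f : ℕ → ℕ} : ∀ {k q t : ℕ}, iterT f k q t = true → f^[k] q = t
  | 0, _, _, h => Nat.eq_of_beq_eq_true h
  | k + 1, q, _, h => by
    rw [iterT, force_eq] at h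
    rw [Function.iterate_succ_apply]
    exact iterT_eq h

theorem moves_act : ∀ {w : List ℕ}, (∀ l ∈ w, l < 12) → ∀ p : Pts, moves w p.val = (wval act w.reverse p).val
  | [], _, _ => rfl
  | x :: w, h, p => by
    rw [moves, ← act_val (h x List.mem_cons_self), moves_act (fun l hl => h l (List.mem_cons_of_mem x hl)),
      List.reverse_cons, wval_append, wval_single, Equiv.Perm.mul_apply]

theorem table_pow {f : ℕ → ℕ} {g : Equiv.Perm Pts} (h : ∀ p : Pts, f p.val = (g p).val) :
    ∀ (k : ℕ) (p : Pts), f^[k] p.val = ((g ^ k) p).val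
  | 0, _ => rfl
  | k + 1, p => by rw [Function.iterate_succ_apply', table_pow h k p, h, pow_succ', Equiv.Perm.mul_apply]

theorem words_spec (p : Pts) : sevF p.val = (wval act sevenBase.reverse p).val ∧
    lonF p.val = (wval act longBase.reverse p).val ∧ sevF^[9] p.val = mv 10 p.val ∧ lonF^[17] p.val = p.val := by
  have h := words_ok p.val p.isLt
  simp only [wordsOK, Bool.and_eq_true] at h
  obtain ⟨⟨⟨⟨⟨-, -⟩, h1⟩, h2⟩, h3⟩, h4⟩ := h
  exact ⟨(walkW_eq h1).symm.trans (moves_act (w := sevenBase) (by decide) p),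
    (walkW_eq h2).symm.trans (moves_act (w := longBase) (by decide) p), iterT_eq h3, iterT_eq h4⟩

theorem act_pair {x y : ℕ} (hx : x < 12) (hy : y < 12) (hxy : x < y) : wval act (pairWord x y) = 1 := by
  have hl : (lab x y = 2 ∧ (x, y) ∈ comPairs) ∨ (lab x y = 3 ∧ ((x, y) ∈ adjPairs ∨ (y, x) ∈ adjPairs)) := by
    have key : ((List.range 12).all fun x => (List.range 12).all fun y => decide (¬ x < y ∨
        (lab x y = 2 ∧ (x, y) ∈ comPairs) ∨ (lab x y = 3 ∧ ((x, y) ∈ adjPairs ∨ (y, x) ∈ adjPairs)))) = true := by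
      decide +kernel
    have := List.all_eq_true.1 (List.all_eq_true.1 key x (List.mem_range.2 hx)) y (List.mem_range.2 hy)
    rw [decide_eq_true_eq] at this
    exact this.resolve_left (fun h => h hxy)
  rw [pairWord, wval_rpt, wval_cons, wval_cons, wval_nil, mul_one]
  have sx : (act x)⁻¹ = act x := inv_eq_of_mul_eq_one_left (act_sq x)
  have sy : (act y)⁻¹ = act y := inv_eq_of_mul_eq_one_left (act_sq y)
  rcases hl with ⟨e, hc⟩ | ⟨e, hc⟩ <;> rw [e]
  · have hcomm : act x * act y = act y * act x := Equiv.ext fun p => Fin.ext (by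
      rw [Equiv.Perm.mul_apply, Equiv.Perm.mul_apply, act_val hx, act_val hy, act_val hy, act_val hx]
      exact ((pairs_spec p.isLt).2.1 _ hc).symm)
    rw [sq, mul_assoc, ← mul_assoc (act y), ← hcomm, mul_assoc, act_sq, mul_one, act_sq]
  · have hbraid : act x * act y * act x = act y * act x * act y := Equiv.ext fun p => Fin.ext (by
      simp only [Equiv.Perm.mul_apply, act_val hx, act_val hy]
      rcases hc with hc | hc
      · exact braid_all hc _ p.isLt
      · exact (braid_all hc _ p.isLt).symm)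
    have : (act x * act y) ^ 3 = (act x * act y * act x) * (act y * act x * act y) := by
      simp only [pow_succ, pow_zero, one_mul, mul_assoc]
    rw [this, ← hbraid]
    simp only [mul_assoc]
    rw [← mul_assoc (act x) (act x), act_sq, one_mul, ← mul_assoc (act y) (act y), act_sq, one_mul, act_sq]

theorem good_act : Good act := by
  have hinv : ∀ w : List ℕ, wval act w.reverse = (wval act w)⁻¹ := fun w => wval_reverse act fun l _ => act_sq l
  intro w hw
  rcases List.mem_append.1 hw with hw | hw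
  · obtain ⟨x, hx, hw⟩ := List.mem_flatMap.1 hw
    obtain ⟨y, hy, rfl⟩ := List.mem_map.1 hw
    rw [List.mem_range] at hx hy
    rcases Nat.lt_trichotomy x y with h | rfl | h
    · exact act_pair hx hy h
    · rw [pairWord, lab_self, wval_rpt, pow_one, wval_cons, wval_single, act_sq]
    · have e : pairWord x y = (pairWord y x).reverse := by
        have key : ((List.range 12).all fun x => (List.range 12).all fun y =>
            pairWord x y == (pairWord y x).reverse) = true := by decide +kernel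
        exact beq_iff_eq.1 (List.all_eq_true.1 (List.all_eq_true.1 key x (List.mem_range.2 hx)) y (List.mem_range.2 hy))
      rw [e, hinv, act_pair hy hx h, inv_one]
  · simp only [List.mem_cons, List.mem_nil_iff, or_false] at hw
    rcases hw with rfl | rfl
    · have e : wval act sevenBase.reverse ^ 9 = act 10 := Equiv.ext fun p => Fin.ext (by
        rw [← table_pow (f := sevF) (fun q => (words_spec q).1), (words_spec p).2.2.1, act_val (by norm_num)])
      rw [hinv, inv_pow] at e
      rw [centreWord, wval_cons, hinv, wval_rpt, e, act_sq]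
    · have e : wval act longBase.reverse ^ 17 = 1 := Equiv.ext fun p => Fin.ext (by
        rw [← table_pow (f := lonF) (fun q => (words_spec q).2.1), (words_spec p).2.2.2]; rfl)
      rw [hinv, inv_pow, inv_eq_one] at e
      rw [wval_rpt, e]

/-- The action on the points. -/
noncomputable def psiF : Cfsg.Spor.Fi24 →* Equiv.Perm Pts := toGrp good_act

theorem psiF_im {x : ℕ} (hx : x < 12) : psiF (im x) = act x := toGrp_im good_act hx

theorem psiF_im_val {x : ℕ} (hx : x < 12) (p : Pts) : (psiF (im x) p).val = mv x p.val := by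
  rw [psiF_im hx, act_val hx]

theorem psiF_wval : ∀ {w : List ℕ}, (∀ l ∈ w, l < 12) → psiF (wval im w) = wval act w
  | [], _ => map_one psiF
  | x :: w, h => by
    rw [wval_cons, wval_cons, map_mul, psiF_im (h x List.mem_cons_self),
      psiF_wval fun l hl => h l (List.mem_cons_of_mem x hl)]

end Cfsg.Lib.FiFour
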