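import Cfsg.Agent.FiFour.Test
import Cfsg.Agent.FiTwenty.TabData

/-!
The tables agree with those on 31671 points on one suborbit.
-/

set_option autoImplicit false
set_option Elab.async false
set_option maxRecDepth 100000

namespace Cfsg.Lib.FiFour

open Cfsg.Lib.PermCert
open Cfsg.Lib.ONPres (force)

/-- The test at one point of the suborbit. -/
noncomputable def agreeAt (i : ℕ) : Bool :=
  force (rowF (Nat.succ i)) fun e => Nat.beq (fx e 10) (Nat.succ i) &&
    (List.range 10).all fun x => Nat.beq (fx e x) (Nat.succ (ap (Cfsg.Lib.FiTwenty.sigTabs.getD x (0, 0)).1 i))

theorem agree_0 : allB agreeAt 1000 0 = true := by decide +kernel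

theorem agree_1 : allB agreeAt 1000 1000 = true := by decide +kernel

theorem agree_2 : allB agreeAt 1000 2000 = true := by decide +kernel

theorem agree_3 : allB agreeAt 1000 3000 = true := by decide +kernel

theorem agree_4 : allB agreeAt 1000 4000 = true := by decide +kernel

theorem agree_5 : allB agreeAt 1000 5000 = true := by decide +kernel

theorem agree_6 : allB agreeAt 1000 6000 = true := by decide +kernel

theorem agree_7 : allB agreeAt 1000 7000 = true := by decide +kernel

theorem agree_8 : allB agreeAt 1000 8000 = true := by decide +kernel

theorem agree_9 : allB agreeAt 1000 9000 = true := by decide +kernel

theorem agree_10 : allB agreeAt 1000 10000 = true := by decide +kernel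

theorem agree_11 : allB agreeAt 1000 11000 = true := by decide +kernel

theorem agree_12 : allB agreeAt 1000 12000 = true := by decide +kernel

theorem agree_13 : allB agreeAt 1000 13000 = true := by decide +kernel

theorem agree_14 : allB agreeAt 1000 14000 = true := by decide +kernel

theorem agree_15 : allB agreeAt 1000 15000 = true := by decide +kernel

theorem agree_16 : allB agreeAt 1000 16000 = true := by decide +kernel

theorem agree_17 : allB agreeAt 1000 17000 = true := by decide +kernel

theorem agree_18 : allB agreeAt 1000 18000 = true := by decide +kernel

theorem agree_19 : allB agreeAt 1000 19000 = true := by decide +kernel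

theorem agree_20 : allB agreeAt 1000 20000 = true := by decide +kernel

theorem agree_21 : allB agreeAt 1000 21000 = true := by decide +kernel

theorem agree_22 : allB agreeAt 1000 22000 = true := by decide +kernel

theorem agree_23 : allB agreeAt 1000 23000 = true := by decide +kernel

theorem agree_24 : allB agreeAt 1000 24000 = true := by decide +kernel

theorem agree_25 : allB agreeAt 1000 25000 = true := by decide +kernel

theorem agree_26 : allB agreeAt 1000 26000 = true := by decide +kernel

theorem agree_27 : allB agreeAt 1000 27000 = true := by decide +kernel

theorem agree_28 : allB agreeAt 1000 28000 = true := by decide +kernel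

theorem agree_29 : allB agreeAt 1000 29000 = true := by decide +kernel

theorem agree_30 : allB agreeAt 1000 30000 = true := by decide +kernel

theorem agree_31 : allB agreeAt 671 31000 = true := by decide +kernel

theorem agree_ok (i : ℕ) (h : i < 31671) : agreeAt i = true := by
  rcases Nat.lt_or_ge i 16000 with h16 | h16
  ·
    rcases Nat.lt_or_ge i 8000 with h8 | h8
    ·
      rcases Nat.lt_or_ge i 4000 with h4 | h4
      ·
        rcases Nat.lt_or_ge i 2000 with h2 | h2
        ·
          rcases Nat.lt_or_ge i 1000 with h1 | h1
          ·
            exact allB_sound agree_0 i (by omega) (by omega)
          ·
            exact allB_sound agree_1 i (by omega) (by omega)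
        ·
          rcases Nat.lt_or_ge i 3000 with h3 | h3
          ·
            exact allB_sound agree_2 i (by omega) (by omega)
          ·
            exact allB_sound agree_3 i (by omega) (by omega)
      ·
        rcases Nat.lt_or_ge i 6000 with h6 | h6
        ·
          rcases Nat.lt_or_ge i 5000 with h5 | h5
          ·
            exact allB_sound agree_4 i (by omega) (by omega)
          ·
            exact allB_sound agree_5 i (by omega) (by omega)
        ·
          rcases Nat.lt_or_ge i 7000 with h7 | h7
          ·
            exact allB_sound agree_6 i (by omega) (by omega)
          ·
            exact allB_sound agree_7 i (by omega) (by omega)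
    ·
      rcases Nat.lt_or_ge i 12000 with h12 | h12
      ·
        rcases Nat.lt_or_ge i 10000 with h10 | h10
        ·
          rcases Nat.lt_or_ge i 9000 with h9 | h9
          ·
            exact allB_sound agree_8 i (by omega) (by omega)
          ·
            exact allB_sound agree_9 i (by omega) (by omega)
        ·
          rcases Nat.lt_or_ge i 11000 with h11 | h11
          ·
            exact allB_sound agree_10 i (by omega) (by omega)
          ·
            exact allB_sound agree_11 i (by omega) (by omega)
      ·
        rcases Nat.lt_or_ge i 14000 with h14 | h14
        ·
          rcases Nat.lt_or_ge i 13000 with h13 | h13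
          ·
            exact allB_sound agree_12 i (by omega) (by omega)
          ·
            exact allB_sound agree_13 i (by omega) (by omega)
        ·
          rcases Nat.lt_or_ge i 15000 with h15 | h15
          ·
            exact allB_sound agree_14 i (by omega) (by omega)
          ·
            exact allB_sound agree_15 i (by omega) (by omega)
  ·
    rcases Nat.lt_or_ge i 24000 with h24 | h24
    ·
      rcases Nat.lt_or_ge i 20000 with h20 | h20
      ·
        rcases Nat.lt_or_ge i 18000 with h18 | h18
        ·
          rcases Nat.lt_or_ge i 17000 with h17 | h17
          ·
            exact allB_sound agree_16 i (by omega) (by omega)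
          ·
            exact allB_sound agree_17 i (by omega) (by omega)
        ·
          rcases Nat.lt_or_ge i 19000 with h19 | h19
          ·
            exact allB_sound agree_18 i (by omega) (by omega)
          ·
            exact allB_sound agree_19 i (by omega) (by omega)
      ·
        rcases Nat.lt_or_ge i 22000 with h22 | h22
        ·
          rcases Nat.lt_or_ge i 21000 with h21 | h21
          ·
            exact allB_sound agree_20 i (by omega) (by omega)
          ·
            exact allB_sound agree_21 i (by omega) (by omega)
        ·
          rcases Nat.lt_or_ge i 23000 with h23 | h23
          ·
            exact allB_sound agree_22 i (by omega) (by omega)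
          ·
            exact allB_sound agree_23 i (by omega) (by omega)
    ·
      rcases Nat.lt_or_ge i 28000 with h28 | h28
      ·
        rcases Nat.lt_or_ge i 26000 with h26 | h26
        ·
          rcases Nat.lt_or_ge i 25000 with h25 | h25
          ·
            exact allB_sound agree_24 i (by omega) (by omega)
          ·
            exact allB_sound agree_25 i (by omega) (by omega)
        ·
          rcases Nat.lt_or_ge i 27000 with h27 | h27
          ·
            exact allB_sound agree_26 i (by omega) (by omega)
          ·
            exact allB_sound agree_27 i (by omega) (by omega)
      ·
        rcases Nat.lt_or_ge i 30000 with h30 | h30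
        ·
          rcases Nat.lt_or_ge i 29000 with h29 | h29
          ·
            exact allB_sound agree_28 i (by omega) (by omega)
          ·
            exact allB_sound agree_29 i (by omega) (by omega)
        ·
          rcases Nat.lt_or_ge i 31000 with h31 | h31
          ·
            exact allB_sound agree_30 i (by omega) (by omega)
          ·
            exact allB_sound agree_31 i (by omega) (by omega)

end Cfsg.Lib.FiFour
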