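import Cfsg.Agent.FiFour.Test

/-!
Every point of the larger suborbit but the first has a letter to an earlier one.
-/

set_option autoImplicit false
set_option Elab.async false
set_option maxRecDepth 100000

namespace Cfsg.Lib.FiFour

open Cfsg.Lib.ONPres (force)

/-- An earlier point of the suborbit next to the point. -/
noncomputable def descAt (p : ℕ) : Bool :=
  force (rowF p) fun e => (List.range 11).any fun x => Nat.ble 31672 (fx e x) && Nat.ble (Nat.succ (fx e x)) p

theorem desc_0 : allB descAt 5000 31673 = true := by decide +kernel

theorem desc_1 : allB descAt 5000 36673 = true := by decide +kernel

theorem desc_2 : allB descAt 5000 41673 = true := by decide +kernel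

theorem desc_3 : allB descAt 5000 46673 = true := by decide +kernel

theorem desc_4 : allB descAt 5000 51673 = true := by decide +kernel

theorem desc_5 : allB descAt 5000 56673 = true := by decide +kernel

theorem desc_6 : allB descAt 5000 61673 = true := by decide +kernel

theorem desc_7 : allB descAt 5000 66673 = true := by decide +kernel

theorem desc_8 : allB descAt 5000 71673 = true := by decide +kernel

theorem desc_9 : allB descAt 5000 76673 = true := by decide +kernel

theorem desc_10 : allB descAt 5000 81673 = true := by decide +kernel

theorem desc_11 : allB descAt 5000 86673 = true := by decide +kernel

theorem desc_12 : allB descAt 5000 91673 = true := by decide +kernel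

theorem desc_13 : allB descAt 5000 96673 = true := by decide +kernel

theorem desc_14 : allB descAt 5000 101673 = true := by decide +kernel

theorem desc_15 : allB descAt 5000 106673 = true := by decide +kernel

theorem desc_16 : allB descAt 5000 111673 = true := by decide +kernel

theorem desc_17 : allB descAt 5000 116673 = true := by decide +kernel

theorem desc_18 : allB descAt 5000 121673 = true := by decide +kernel

theorem desc_19 : allB descAt 5000 126673 = true := by decide +kernel

theorem desc_20 : allB descAt 5000 131673 = true := by decide +kernel

theorem desc_21 : allB descAt 5000 136673 = true := by decide +kernel

theorem desc_22 : allB descAt 5000 141673 = true := by decide +kernel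

theorem desc_23 : allB descAt 5000 146673 = true := by decide +kernel

theorem desc_24 : allB descAt 5000 151673 = true := by decide +kernel

theorem desc_25 : allB descAt 5000 156673 = true := by decide +kernel

theorem desc_26 : allB descAt 5000 161673 = true := by decide +kernel

theorem desc_27 : allB descAt 5000 166673 = true := by decide +kernel

theorem desc_28 : allB descAt 5000 171673 = true := by decide +kernel

theorem desc_29 : allB descAt 5000 176673 = true := by decide +kernel

theorem desc_30 : allB descAt 5000 181673 = true := by decide +kernel

theorem desc_31 : allB descAt 5000 186673 = true := by decide +kernel

theorem desc_32 : allB descAt 5000 191673 = true := by decide +kernel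

theorem desc_33 : allB descAt 5000 196673 = true := by decide +kernel

theorem desc_34 : allB descAt 5000 201673 = true := by decide +kernel

theorem desc_35 : allB descAt 5000 206673 = true := by decide +kernel

theorem desc_36 : allB descAt 5000 211673 = true := by decide +kernel

theorem desc_37 : allB descAt 5000 216673 = true := by decide +kernel

theorem desc_38 : allB descAt 5000 221673 = true := by decide +kernel

theorem desc_39 : allB descAt 5000 226673 = true := by decide +kernel

theorem desc_40 : allB descAt 5000 231673 = true := by decide +kernel

theorem desc_41 : allB descAt 5000 236673 = true := by decide +kernel

theorem desc_42 : allB descAt 5000 241673 = true := by decide +kernel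

theorem desc_43 : allB descAt 5000 246673 = true := by decide +kernel

theorem desc_44 : allB descAt 5000 251673 = true := by decide +kernel

theorem desc_45 : allB descAt 5000 256673 = true := by decide +kernel

theorem desc_46 : allB descAt 5000 261673 = true := by decide +kernel

theorem desc_47 : allB descAt 5000 266673 = true := by decide +kernel

theorem desc_48 : allB descAt 5000 271673 = true := by decide +kernel

theorem desc_49 : allB descAt 5000 276673 = true := by decide +kernel

theorem desc_50 : allB descAt 5000 281673 = true := by decide +kernel

theorem desc_51 : allB descAt 5000 286673 = true := by decide +kernel

theorem desc_52 : allB descAt 5000 291673 = true := by decide +kernel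

theorem desc_53 : allB descAt 5000 296673 = true := by decide +kernel

theorem desc_54 : allB descAt 5000 301673 = true := by decide +kernel

theorem desc_55 : allB descAt 263 306673 = true := by decide +kernel

theorem desc_ok (i : ℕ) (h1 : 31673 ≤ i) (h : i < 306936) : descAt i = true := by
  rcases Nat.lt_or_ge i 171673 with h28 | h28
  ·
    rcases Nat.lt_or_ge i 101673 with h14 | h14
    ·
      rcases Nat.lt_or_ge i 66673 with h7 | h7
      ·
        rcases Nat.lt_or_ge i 46673 with h3 | h3
        ·
          rcases Nat.lt_or_ge i 36673 with h1 | h1
          ·
            exact allB_sound desc_0 i (by omega) (by omega)
          ·
            rcases Nat.lt_or_ge i 41673 with h2 | h2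
            ·
              exact allB_sound desc_1 i (by omega) (by omega)
            ·
              exact allB_sound desc_2 i (by omega) (by omega)
        ·
          rcases Nat.lt_or_ge i 56673 with h5 | h5
          ·
            rcases Nat.lt_or_ge i 51673 with h4 | h4
            ·
              exact allB_sound desc_3 i (by omega) (by omega)
            ·
              exact allB_sound desc_4 i (by omega) (by omega)
          ·
            rcases Nat.lt_or_ge i 61673 with h6 | h6
            ·
              exact allB_sound desc_5 i (by omega) (by omega)
            ·
              exact allB_sound desc_6 i (by omega) (by omega)
      ·
        rcases Nat.lt_or_ge i 81673 with h10 | h10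
        ·
          rcases Nat.lt_or_ge i 71673 with h8 | h8
          ·
            exact allB_sound desc_7 i (by omega) (by omega)
          ·
            rcases Nat.lt_or_ge i 76673 with h9 | h9
            ·
              exact allB_sound desc_8 i (by omega) (by omega)
            ·
              exact allB_sound desc_9 i (by omega) (by omega)
        ·
          rcases Nat.lt_or_ge i 91673 with h12 | h12
          ·
            rcases Nat.lt_or_ge i 86673 with h11 | h11
            ·
              exact allB_sound desc_10 i (by omega) (by omega)
            ·
              exact allB_sound desc_11 i (by omega) (by omega)
          ·
            rcases Nat.lt_or_ge i 96673 with h13 | h13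
            ·
              exact allB_sound desc_12 i (by omega) (by omega)
            ·
              exact allB_sound desc_13 i (by omega) (by omega)
    ·
      rcases Nat.lt_or_ge i 136673 with h21 | h21
      ·
        rcases Nat.lt_or_ge i 116673 with h17 | h17
        ·
          rcases Nat.lt_or_ge i 106673 with h15 | h15
          ·
            exact allB_sound desc_14 i (by omega) (by omega)
          ·
            rcases Nat.lt_or_ge i 111673 with h16 | h16
            ·
              exact allB_sound desc_15 i (by omega) (by omega)
            ·
              exact allB_sound desc_16 i (by omega) (by omega)
        ·
          rcases Nat.lt_or_ge i 126673 with h19 | h19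
          ·
            rcases Nat.lt_or_ge i 121673 with h18 | h18
            ·
              exact allB_sound desc_17 i (by omega) (by omega)
            ·
              exact allB_sound desc_18 i (by omega) (by omega)
          ·
            rcases Nat.lt_or_ge i 131673 with h20 | h20
            ·
              exact allB_sound desc_19 i (by omega) (by omega)
            ·
              exact allB_sound desc_20 i (by omega) (by omega)
      ·
        rcases Nat.lt_or_ge i 151673 with h24 | h24
        ·
          rcases Nat.lt_or_ge i 141673 with h22 | h22
          ·
            exact allB_sound desc_21 i (by omega) (by omega)
          ·
            rcases Nat.lt_or_ge i 146673 with h23 | h23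
            ·
              exact allB_sound desc_22 i (by omega) (by omega)
            ·
              exact allB_sound desc_23 i (by omega) (by omega)
        ·
          rcases Nat.lt_or_ge i 161673 with h26 | h26
          ·
            rcases Nat.lt_or_ge i 156673 with h25 | h25
            ·
              exact allB_sound desc_24 i (by omega) (by omega)
            ·
              exact allB_sound desc_25 i (by omega) (by omega)
          ·
            rcases Nat.lt_or_ge i 166673 with h27 | h27
            ·
              exact allB_sound desc_26 i (by omega) (by omega)
            ·
              exact allB_sound desc_27 i (by omega) (by omega)
  ·
    rcases Nat.lt_or_ge i 241673 with h42 | h42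
    ·
      rcases Nat.lt_or_ge i 206673 with h35 | h35
      ·
        rcases Nat.lt_or_ge i 186673 with h31 | h31
        ·
          rcases Nat.lt_or_ge i 176673 with h29 | h29
          ·
            exact allB_sound desc_28 i (by omega) (by omega)
          ·
            rcases Nat.lt_or_ge i 181673 with h30 | h30
            ·
              exact allB_sound desc_29 i (by omega) (by omega)
            ·
              exact allB_sound desc_30 i (by omega) (by omega)
        ·
          rcases Nat.lt_or_ge i 196673 with h33 | h33
          ·
            rcases Nat.lt_or_ge i 191673 with h32 | h32
            ·
              exact allB_sound desc_31 i (by omega) (by omega)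
            ·
              exact allB_sound desc_32 i (by omega) (by omega)
          ·
            rcases Nat.lt_or_ge i 201673 with h34 | h34
            ·
              exact allB_sound desc_33 i (by omega) (by omega)
            ·
              exact allB_sound desc_34 i (by omega) (by omega)
      ·
        rcases Nat.lt_or_ge i 221673 with h38 | h38
        ·
          rcases Nat.lt_or_ge i 211673 with h36 | h36
          ·
            exact allB_sound desc_35 i (by omega) (by omega)
          ·
            rcases Nat.lt_or_ge i 216673 with h37 | h37
            ·
              exact allB_sound desc_36 i (by omega) (by omega)
            ·
              exact allB_sound desc_37 i (by omega) (by omega)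
        ·
          rcases Nat.lt_or_ge i 231673 with h40 | h40
          ·
            rcases Nat.lt_or_ge i 226673 with h39 | h39
            ·
              exact allB_sound desc_38 i (by omega) (by omega)
            ·
              exact allB_sound desc_39 i (by omega) (by omega)
          ·
            rcases Nat.lt_or_ge i 236673 with h41 | h41
            ·
              exact allB_sound desc_40 i (by omega) (by omega)
            ·
              exact allB_sound desc_41 i (by omega) (by omega)
    ·
      rcases Nat.lt_or_ge i 276673 with h49 | h49
      ·
        rcases Nat.lt_or_ge i 256673 with h45 | h45
        ·
          rcases Nat.lt_or_ge i 246673 with h43 | h43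
          ·
            exact allB_sound desc_42 i (by omega) (by omega)
          ·
            rcases Nat.lt_or_ge i 251673 with h44 | h44
            ·
              exact allB_sound desc_43 i (by omega) (by omega)
            ·
              exact allB_sound desc_44 i (by omega) (by omega)
        ·
          rcases Nat.lt_or_ge i 266673 with h47 | h47
          ·
            rcases Nat.lt_or_ge i 261673 with h46 | h46
            ·
              exact allB_sound desc_45 i (by omega) (by omega)
            ·
              exact allB_sound desc_46 i (by omega) (by omega)
          ·
            rcases Nat.lt_or_ge i 271673 with h48 | h48
            ·
              exact allB_sound desc_47 i (by omega) (by omega)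
            ·
              exact allB_sound desc_48 i (by omega) (by omega)
      ·
        rcases Nat.lt_or_ge i 291673 with h52 | h52
        ·
          rcases Nat.lt_or_ge i 281673 with h50 | h50
          ·
            exact allB_sound desc_49 i (by omega) (by omega)
          ·
            rcases Nat.lt_or_ge i 286673 with h51 | h51
            ·
              exact allB_sound desc_50 i (by omega) (by omega)
            ·
              exact allB_sound desc_51 i (by omega) (by omega)
        ·
          rcases Nat.lt_or_ge i 301673 with h54 | h54
          ·
            rcases Nat.lt_or_ge i 296673 with h53 | h53
            ·
              exact allB_sound desc_52 i (by omega) (by omega)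
            ·
              exact allB_sound desc_53 i (by omega) (by omega)
          ·
            rcases Nat.lt_or_ge i 306673 with h55 | h55
            ·
              exact allB_sound desc_54 i (by omega) (by omega)
            ·
              exact allB_sound desc_55 i (by omega) (by omega)

end Cfsg.Lib.FiFour
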