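import Cfsg.Agent.FiFour.Core
import Cfsg.Agent.FiFour.BlockData
import Cfsg.Agent.FiFour.DescA

/-!
The subgroup on the nine letters away from the end, inside the stabiliser of a point of the larger suborbit, is
recognised by the image of one point of the smaller suborbit.
-/

set_option autoImplicit false
set_option maxRecDepth 100000

namespace Cfsg.Lib.FiFour

open Cfsg.Lib.CosetCert
open Cfsg.Lib.ONPres (force force_eq)

attribute [local irreducible] rowF sevF lonF blkMask

/-- The nine letters away from the end. -/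
def lamC : List ℕ := [1, 2, 3, 4, 5, 6, 7, 8, 9]

/-- The point of the larger suborbit next to the first. -/
def pA : Pts := ⟨31672, by norm_num⟩

/-- The first point of the smaller suborbit. -/
def pB : Pts := ⟨1, by norm_num⟩

theorem fix_pA : ∀ x : Fin 10, 1 ≤ x.val → mv x.val 31672 = 31672 := by decide +kernel

theorem fix_pB : ∀ x : Fin 9, 1 ≤ x.val → mv x.val 1 = 1 := by decide +kernel

theorem blkTree_len : blkTree.length = 1079 := by decide +kernel

theorem blkTree_ok : scanT lamC blkTree (Nat.shiftLeft 1 pB.val) = true := by decide +kernel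

/-- A test on the points of the orbit. -/
noncomputable def overBlk (f : ℕ → Bool) : Bool := f 1 && blkTree.all fun e => f e.1

/-- The letters keep the orbit, and the mask has its points. -/
noncomputable def blkClosed : Bool :=
  overBlk fun p => Nat.ble (Nat.succ p) 306936 && Nat.testBit blkMask p && lamC.all fun x => Nat.testBit blkMask (mv x p)

theorem blkClosed_ok : blkClosed = true := by decide +kernel

/-- The mask has no other points. -/
noncomputable def blkOnly : Bool :=
  Nat.beq blkMask (blkTree.foldl (fun s e => Nat.lor s (Nat.shiftLeft 1 e.1)) 2)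

theorem blkOnly_ok : blkOnly = true := by decide +kernel

theorem foldl_bits : ∀ (t : List (ℕ × ℕ × ℕ)) (s j : ℕ),
    (t.foldl (fun s e => Nat.lor s (Nat.shiftLeft 1 e.1)) s).testBit j = true → s.testBit j = true ∨ ∃ e ∈ t, e.1 = j
  | [], _, _, h => Or.inl h
  | e :: r, s, j, h => by
    rcases foldl_bits r _ j h with h | ⟨a, ha, he⟩
    · change (s ||| 1 <<< e.1).testBit j = true at h
      rw [Nat.testBit_or, Bool.or_eq_true, Nat.one_shiftLeft, Nat.testBit_two_pow, decide_eq_true_eq] at h
      rcases h with h | h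
      · exact Or.inl h
      · exact Or.inr ⟨e, List.mem_cons_self, h⟩
    · exact Or.inr ⟨a, List.mem_cons_of_mem e ha, he⟩

theorem overBlk_spec {f : ℕ → Bool} (h : overBlk f = true) {j : ℕ} (hj : blkMask.testBit j = true) : f j = true := by
  rw [overBlk, Bool.and_eq_true] at h
  rw [Nat.eq_of_beq_eq_true blkOnly_ok] at hj
  rcases foldl_bits _ _ j hj with h1 | ⟨e, he, rfl⟩
  · rw [show (2 : ℕ) = 2 ^ 1 from rfl, Nat.testBit_two_pow, decide_eq_true_eq] at h1
    exact h1 ▸ h.1
  · exact List.all_eq_true.1 h.2 e he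

theorem one_mem_blk : blkMask.testBit 1 = true := by
  have h := blkClosed_ok
  rw [blkClosed, overBlk] at h
  simp only [Bool.and_eq_true] at h
  exact h.1.1.2

theorem blk_letters {g : Cfsg.Spor.Fi24} (hg : g ∈ lgp im lamC) :
    ∀ p : Pts, blkMask.testBit p.val = true → blkMask.testBit (g • p : Pts).val = true ∧
      blkMask.testBit (g⁻¹ • p : Pts).val = true := by
  induction hg using Subgroup.closure_induction with
  | mem _ hy =>
    obtain ⟨x, hx, rfl⟩ := hy
    intro p hp
    have h := overBlk_spec blkClosed_ok hp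
    simp only [Bool.and_eq_true, List.all_eq_true] at h
    have h12 : x < 12 := (show ∀ x ∈ lamC, x < 12 by decide) x hx
    rw [inv_eq_of_mul_eq_one_left (im_sq x), im_smul_val h12]
    exact ⟨h.2 x hx, h.2 x hx⟩
  | one => intro p hp; rw [inv_one, one_smul]; exact ⟨hp, hp⟩
  | mul a b _ _ ha hb =>
    intro p hp
    rw [mul_inv_rev, mul_smul, mul_smul]
    exact ⟨(ha _ (hb p hp).1).1, (hb _ (ha p hp).2).2⟩
  | inv a _ ha => intro p hp; rw [inv_inv]; exact ⟨(ha p hp).2, (ha p hp).1⟩

theorem block_le_eleven : lgp im lamC ≤ lgp im lamT := lgp_mono im (by decide)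

theorem block_fix {g : Cfsg.Spor.Fi24} (hg : g ∈ lgp im lamC) : g • pA = pA := by
  induction hg using Subgroup.closure_induction with
  | mem _ hy =>
    obtain ⟨x, hx, rfl⟩ := hy
    obtain ⟨h10, h1⟩ := (show ∀ x ∈ lamC, x < 10 ∧ 1 ≤ x by decide) x hx
    refine Fin.ext ?_
    rw [im_smul_val (by omega)]
    exact fix_pA ⟨x, h10⟩ h1
  | one => exact one_smul _ _
  | mul a b _ _ ha hb => rw [mul_smul, hb, ha]
  | inv a _ ha => rw [inv_smul_eq_iff, ha]

open Cfsg.Lib.FiTwenty in
theorem card_cover : 9170703360 ≤ Nat.card (lgp imZ [1, 2, 3, 4, 5, 6, 7, 8]) := by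
  have hb : Finite (lgp imZ [1, 2, 3, 4, 5, 6, 7, 8]) := Subtype.finite
  have h3 := Cfsg.Lib.FiTwenty.step Cfsg.Lib.FiTwenty.D5.valid Cfsg.Lib.FiTwenty.lamH [1, 2, 3, 4, 5, 6, 7, 8] rfl
    (by decide +kernel) (by decide) (by decide +kernel) hb
  rw [Cfsg.Lib.FiTwenty.D5.fins_length] at h3
  have := h3.2
  have := Cfsg.Lib.FiTwenty.card_h
  omega

theorem card_block : 9904359628800 ≤ Nat.card (lgp im lamC) := by
  haveI : Finite (lgp im lamC) := Finite.of_injective _ (Subgroup.inclusion_injective block_le_eleven)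
  have h1 := Subgroup.card_mul_index (MulAction.stabilizer (lgp im lamC) pB)
  rw [MulAction.index_stabilizer] at h1
  have h2 := orbit_ge blkTree_ok
  rw [blkTree_len] at h2
  let f : lgp im lamC →* Cfsg.Spor.Fi23 := down.comp (Subgroup.inclusion block_le_eleven)
  have h3 : lgp Cfsg.Lib.FiTwenty.imZ [1, 2, 3, 4, 5, 6, 7, 8] ≤ (MulAction.stabilizer (lgp im lamC) pB).map f := by
    refine (Subgroup.closure_le _).2 ?_
    rintro _ ⟨x, hx, rfl⟩
    obtain ⟨h9, h1', hC⟩ := (show ∀ x ∈ [1, 2, 3, 4, 5, 6, 7, 8], x < 9 ∧ 1 ≤ x ∧ x ∈ lamC by decide) x hx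
    refine ⟨⟨im x, lgp_mem im hC⟩, Fin.ext ?_, down_eq (agrees_low (by omega))⟩
    show (im x • pB : Pts).val = _
    rw [im_smul_val (by omega)]
    exact fix_pB ⟨x, h9⟩ h1'
  have h4 : 9170703360 ≤ Nat.card (MulAction.stabilizer (lgp im lamC) pB) :=
    card_cover.trans ((Nat.card_le_card_of_injective _ (Subgroup.inclusion_injective h3)).trans
      (Nat.card_le_card_of_surjective _ (MonoidHom.subgroupMap_surjective _ _)))
  calc 9904359628800 = 9170703360 * 1080 := by norm_num
    _ ≤ _ := (Nat.mul_le_mul h4 h2).trans h1.le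

/-- A word moves the orbit into points missing a set. -/
noncomputable def movesOff (w : List ℕ) (S : ℕ) : Bool :=
  overBlk fun p => !(Nat.testBit S (moves w p))

/-- The image of the orbit under a word. -/
noncomputable def imgMask (w : List ℕ) : ℕ :=
  blkTree.foldl (fun s e => Nat.lor s (Nat.shiftLeft 1 (moves w e.1))) (Nat.shiftLeft 1 (moves w 1))

theorem apart_ok : (movesOff blkMoveA blkMask && movesOff blkMoveB blkMask &&
    movesOff (blkMoveA ++ blkMoveB.reverse) blkMask && Nat.beq (moves blkMoveA 31672) 31672 &&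
    Nat.beq (moves blkMoveB 31672) 31672 && inLetters lamT blkMoveA && inLetters lamT blkMoveB) = true := by
  decide +kernel

theorem wval_fix {w : List ℕ} (hw : inLetters lamT w = true) (p : Pts) :
    (((wval im w)⁻¹ • p : Pts)).val = moves w p.val := by
  have h12 : ∀ l ∈ w, l < 12 := by
    simp only [inLetters, List.all_eq_true, List.contains_iff_mem] at hw
    exact fun l hl => (show ∀ x ∈ lamT, x < 12 by decide) l (hw l hl)
  rw [moves_act h12, ← wval_reverse im (fun l _ => im_sq l), smul_pts,
    psiF_wval fun l hl => h12 l (List.mem_reverse.1 hl)]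

/-- The subgroup on eleven letters moves the point to all of the larger suborbit. -/
theorem large_reach (p : Pts) (hp : 31672 ≤ p.val) : ∃ g : lgp im lamT, g • pA = p := by
  have hmem : ∀ j, ∀ p : Pts, p.val = j → 31672 ≤ j → p ∈ MulAction.orbit (lgp im lamT) pA := by
    intro j
    induction j using Nat.strong_induction_on with
    | _ j ih =>
      intro p hp h1
      rcases Nat.eq_or_lt_of_le h1 with h1 | h1
      · rw [show p = pA from Fin.ext (by rw [hp, ← h1]; rfl)]
        exact MulAction.mem_orbit_self pA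
      · have h := desc_ok j h1 (hp ▸ p.isLt)
        rw [descAt, force_eq, List.any_eq_true] at h
        obtain ⟨x, hx, h⟩ := h
        rw [List.mem_range] at hx
        simp only [Bool.and_eq_true, Nat.ble_eq] at h
        have hx12 : x < 12 := by omega
        have hq : mv x j < 306936 := mv_lt hx12 (hp ▸ p.isLt)
        obtain ⟨g, hg⟩ := ih (mv x j) h.2 ⟨mv x j, hq⟩ rfl h.1
        have hmem : im x ∈ lgp im lamT := lgp_mem im ((show ∀ x < 11, x ∈ lamT by decide) x hx)
        refine ⟨⟨im x, hmem⟩ * g, ?_⟩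
        show ((⟨im x, hmem⟩ * g : lgp im lamT) • pA : Pts) = p
        rw [mul_smul, show g • pA = (⟨mv x j, hq⟩ : Pts) from hg]
        refine Fin.ext ?_
        show (im x • (⟨mv x j, hq⟩ : Pts)).val = _
        rw [im_smul_val hx12, mv_mv hx12 (hp ▸ p.isLt), hp]
  exact hmem p.val p rfl hp

theorem orbit_large : 275264 ≤ (MulAction.orbit (lgp im lamT) pA).ncard := by
  have hmem : ∀ j, ∀ p : Pts, p.val = j → 31672 ≤ j → p ∈ MulAction.orbit (lgp im lamT) pA :=
    fun j p hp h => large_reach p (hp ▸ h)
  let f : Fin 275264 → MulAction.orbit (lgp im lamT) pA := fun i =>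
    ⟨⟨31672 + i.val, by have := i.isLt; omega⟩, hmem _ _ rfl (Nat.le_add_right _ _)⟩
  have hf : Function.Injective f := fun a b e => Fin.ext (by
    have := congrArg (fun y => (y.1 : Pts).val) e
    simp only [f] at this
    omega)
  have := Nat.card_le_card_of_injective f hf
  rwa [Nat.card_eq_fintype_card, Fintype.card_fin, Nat.card_coe_set_eq] at this

/-- An element on eleven letters fixing the point lies in the subgroup on nine as soon as it sends the first point
back into the orbit. -/
theorem mem_block {g : Cfsg.Spor.Fi24} (hg : g ∈ lgp im lamT) (hA : g • pA = pA)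
    (hB : blkMask.testBit (g⁻¹ • pB : Pts).val = true) : g ∈ lgp im lamC := by
  have h := apart_ok
  simp only [Bool.and_eq_true] at h
  obtain ⟨⟨⟨⟨⟨⟨o1, o2⟩, o3⟩, f1⟩, f2⟩, l1⟩, l2⟩ := h
  replace f1 := Nat.eq_of_beq_eq_true f1
  replace f2 := Nat.eq_of_beq_eq_true f2
  let u : Cfsg.Spor.Fi24 := wval im blkMoveA
  let v : Cfsg.Spor.Fi24 := wval im blkMoveB
  have hu : u • pA = pA := by
    have := wval_fix l1 pA
    rw [show (pA : Pts).val = 31672 from rfl, f1] at this
    exact (inv_smul_eq_iff.1 (Fin.ext this : u⁻¹ • pA = pA)).symm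
  have hv : v • pA = pA := by
    have := wval_fix l2 pA
    rw [show (pA : Pts).val = 31672 from rfl, f2] at this
    exact (inv_smul_eq_iff.1 (Fin.ext this : v⁻¹ • pA = pA)).symm
  let S : Subgroup (lgp im lamT) := MulAction.stabilizer (lgp im lamT) pA
  have hS : Nat.card S ≤ 3 * Nat.card (lgp im lamC) := by
    have h1 := Subgroup.card_mul_index S
    rw [MulAction.index_stabilizer, eleven_facts.2.1] at h1
    have h2 := Nat.mul_le_mul_left (Nat.card S) orbit_large
    have h3 := card_block
    omega
  let e : Fin 3 → Cfsg.Spor.Fi24 := ![1, u, v]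
  have he : ∀ i, e i ∈ lgp im lamT := fun i => by
    fin_cases i
    · exact one_mem _
    · exact lgp_wval im l1
    · exact lgp_wval im l2
  have heA : ∀ i, e i • pA = pA := fun i => by
    fin_cases i
    · exact one_smul _ _
    · exact hu
    · exact hv
  have cls : ∀ {c : Cfsg.Spor.Fi24}, c ∈ lgp im lamC → blkMask.testBit (c⁻¹ • pB : Pts).val = true :=
    fun hc => (blk_letters hc pB one_mem_blk).2
  have off : ∀ (w : List ℕ), inLetters lamT w = true → movesOff w blkMask = true → ∀ {p : Pts},
      blkMask.testBit p.val = true → blkMask.testBit ((wval im w)⁻¹ • p : Pts).val = false := by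
    intro w hw ho p hp
    have := overBlk_spec ho hp
    rw [Bool.not_eq_true'] at this
    rw [wval_fix hw p]
    exact this
  have apart : ∀ i j, i ≠ j → ∀ {p : Pts}, blkMask.testBit p.val = true →
      ¬ blkMask.testBit (e j • ((e i)⁻¹ • p) : Pts).val = true := by
    have hinv : ∀ {a : Cfsg.Spor.Fi24} {p : Pts}, (∀ {q : Pts}, blkMask.testBit q.val = true →
        blkMask.testBit (a⁻¹ • q : Pts).val = false) → blkMask.testBit p.val = true →
        ¬ blkMask.testBit (a • p : Pts).val = true := fun {a p} H hp hq => by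
      have := H hq
      rw [inv_smul_smul, hp] at this
      exact Bool.noConfusion this
    have l3 : inLetters lamT (blkMoveA ++ blkMoveB.reverse) = true := by decide +kernel
    have huv : (wval im (blkMoveA ++ blkMoveB.reverse))⁻¹ = v * u⁻¹ := by
      rw [wval_append, wval_reverse im (fun l _ => im_sq l), mul_inv_rev, inv_inv]
    have a1 : ∀ {q : Pts}, blkMask.testBit q.val = true → blkMask.testBit (u⁻¹ • q : Pts).val = false :=
      fun h => off _ l1 o1 h
    have a2 : ∀ {q : Pts}, blkMask.testBit q.val = true → blkMask.testBit (v⁻¹ • q : Pts).val = false :=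
      fun h => off _ l2 o2 h
    have a3 : ∀ {q : Pts}, blkMask.testBit q.val = true → blkMask.testBit (v • (u⁻¹ • q) : Pts).val = false :=
      fun h => by rw [← mul_smul, ← huv]; exact off _ l3 o3 h
    intro i j hij p hp
    fin_cases i <;> fin_cases j
    · exact absurd rfl hij
    · show ¬ blkMask.testBit (u • ((1 : Cfsg.Spor.Fi24)⁻¹ • p) : Pts).val = true
      rw [inv_one, one_smul]
      exact hinv a1 hp
    · show ¬ blkMask.testBit (v • ((1 : Cfsg.Spor.Fi24)⁻¹ • p) : Pts).val = true
      rw [inv_one, one_smul]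
      exact hinv a2 hp
    · show ¬ blkMask.testBit ((1 : Cfsg.Spor.Fi24) • (u⁻¹ • p) : Pts).val = true
      rw [one_smul, a1 hp]
      exact Bool.false_ne_true
    · exact absurd rfl hij
    · show ¬ blkMask.testBit (v • (u⁻¹ • p) : Pts).val = true
      rw [a3 hp]
      exact Bool.false_ne_true
    · show ¬ blkMask.testBit ((1 : Cfsg.Spor.Fi24) • (v⁻¹ • p) : Pts).val = true
      rw [one_smul, a2 hp]
      exact Bool.false_ne_true
    · show ¬ blkMask.testBit (u • (v⁻¹ • p) : Pts).val = true
      refine hinv (a := u * v⁻¹) (fun {q} hq => ?_) hp |> fun h => by rwa [mul_smul] at h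
      rw [mul_inv_rev, inv_inv, mul_smul]
      exact a3 hq
    · exact absurd rfl hij
  let F : lgp im lamC × Fin 3 → S := fun q => ⟨⟨q.1.1 * e q.2, mul_mem (block_le_eleven q.1.2) (he q.2)⟩,
    show (q.1.1 * e q.2) • pA = pA by rw [mul_smul, heA, block_fix q.1.2]⟩
  have hF : Function.Injective F := by
    intro a b eq
    have eq' : a.1.1 * e a.2 = b.1.1 * e b.2 := congrArg (fun y : S => y.1.1) eq
    have hij : a.2 = b.2 := by
      by_contra hne
      refine apart a.2 b.2 hne (cls a.1.2) ?_
      rw [← mul_smul (e a.2)⁻¹, ← mul_inv_rev, eq', mul_inv_rev, mul_smul, smul_inv_smul]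
      exact cls b.1.2
    refine Prod.ext (Subtype.ext ?_) hij
    rw [hij] at eq'
    exact mul_right_cancel eq'
  haveI : Finite (lgp im lamC) := Finite.of_injective _ (Subgroup.inclusion_injective block_le_eleven)
  have hsurj : Function.Surjective F := by
    have hc : Nat.card (lgp im lamC × Fin 3) = 3 * Nat.card (lgp im lamC) := by
      rw [Nat.card_prod, Nat.card_eq_fintype_card (α := Fin 3), Fintype.card_fin, mul_comm]
    exact ((Nat.bijective_iff_injective_and_card F).2 ⟨hF, by
      have := Nat.card_le_card_of_injective F hF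
      omega⟩).2
  obtain ⟨⟨c, i⟩, hci⟩ := hsurj ⟨⟨g, hg⟩, hA⟩
  have hci' : c.1 * e i = g := congrArg (fun y : S => y.1.1) hci
  by_cases hi : i = 0
  · rw [← hci', hi]
    exact mul_mem c.2 (one_mem _)
  · refine absurd hB ?_
    rw [← hci', mul_inv_rev, mul_smul]
    intro hB'
    refine apart i 0 hi (cls c.2) ?_
    show blkMask.testBit ((1 : Cfsg.Spor.Fi24) • ((e i)⁻¹ • (c.1⁻¹ • pB)) : Pts).val = true
    rw [one_smul]
    exact hB'

end Cfsg.Lib.FiFour
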