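import Cfsg.Agent.FiFour.EAData

/-!
The steps of the certificate are valid: part 0.
-/

set_option autoImplicit false
set_option Elab.async false

namespace Cfsg.Lib.FiFour.EA

open Cfsg.Lib.CosetCert

def steps0 : List (ℕ × ℕ) :=
  [(1,0x0),
   (1,0x0),
   (1,0x0),
   (1,0x0),
   (1,0x0),
   (0,0x0),
   (0,0x0),
   (2,0xd00000b00000100000c00000e),
   (3,0xb00000300000c),
   (4,0xb00000500000c),
   (5,0xb00000700000c),
   (6,0xb00000900000c),
   (0,0x0),
   (7,0x1900000d00001100000e00001a),
   (8,0xd00001300000e),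
   (9,0xd00001500000e),
   (10,0xd00001700000e),
   (11,0x1900001000001a),
   (0,0x0),
   (12,0x2500001900001d00001a000026),
   (13,0x1900001f00001a),
   (0,0x0),
   (14,0x2b00001900002100001a00002c),
   (15,0x25000024000026),
   (16,0x2b00002400002c),
   (17,0x2500001c000026),
   (18,0x2b00001c00002c),
   (0,0x0),
   (19,0x37000025000029000026000038),
   (0,0x0),
   (20,0x2b00002600003c),
   (21,0x2b00002a00002c),
   (22,0x37000030000038),
   (16,0x3b00003000003c),
   (23,0x37000034000038),
   (18,0x3b00003400003c),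
   (24,0x37000028000038),
   (0,0x0),
   (25,0x4b00003b00002800003c00004c),
   (0,0x0),
   (21,0x3b000038000050),
   (26,0x4b00003e00002e00003d00004c),
   (19,0x5200003e00003f00003d000051),
   (16,0x4f000042000050),
   (18,0x4f000046000050),
   (0,0x0),
   (25,0x5b00004f00004a00005000005c),
   (11,0x4b00004400004c),
   (0,0x0),
   (27,0x6100004b00004800004c000062),
   (13,0x5b00005200004c),
   (0,0x0),
   (28,0x67000061000060000062000068),
   (22,0x65000060000066),
   (8,0x61000053000062),
   (0,0x0),
   (23,0x65000062000070),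
   (10,0x6100004d000062),
   (0,0x0),
   (29,0x75000065000054000066000076),
   (27,0x7200005b00005a00005c000071),
   (12,0x7500005b00005500005c000076),
   (0,0x0),
   (28,0x7d00007200006c00007100007e),
   (15,0x7500006c000076),
   (0,0x0),
   (17,0x75000071000084),
   (10,0x7200005d000071),
   (30,0x7500005d000076),
   (3,0x67000063000068),
   (4,0x6700006d000068),
   (5,0x7d00006f000068),
   (6,0x67000073000068),
   (29,0x8300006f00006e000070000084),
   (24,0x8f00008c000090),
   (0,0x0),
   (29,0x9700008f00008e000090000098),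
   (31,0x8f000091000090),
   (15,0x8300007e000098),
   (0,0x0),
   (26,0x9f00008300007a0000840000a0),
   (30,0x83000087000084),
   (28,0x9e00008600008200008500009d),
   (7,0x9f00008600007b0000850000a0),
   (0,0x0),
   (26,0xa90000970000960000980000aa),
   (30,0x9700009b000098),
   (11,0x9f00009d0000aa),
   (13,0x9f0000930000a0),
   (0,0x0),
   (14,0xb300009f0000a30000a00000b4),
   (0,0x0),
   (27,0xb70000a90000a60000aa0000b8),
   (13,0xa90000990000aa),
   (0,0x0),
   (14,0xbd0000a90000ad0000aa0000be),
   (2,0xb70000b00000a70000af0000b8),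
   (16,0xb30000af0000be),
   (18,0xb30000a80000b4),
   (20,0xb30000a20000b4),
   (21,0xb30000b20000b4),
   (8,0xb70000ab0000b8),
   (9,0xb70000bb0000b8),
   (0,0x0),
   (18,0xbd0000b80000d0),
   (20,0xbd0000ac0000be),
   (21,0xbd0000bc0000be),
   (2,0xd20000c40000c50000c30000d1),
   (0,0x0),
   (25,0xd90000cf0000ba0000d00000da),
   (20,0xcf0000cc0000d0),
   (21,0xcf0000ce0000d0),
   (7,0xd90000d20000bf0000d10000da),
   (11,0xd90000d80000da),
   (0,0x0),
   (12,0xe50000d90000dd0000da0000e6),
   (13,0xd90000df0000da),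
   (15,0xe50000e40000e6),
   (17,0xe50000e20000e6),
   (0,0x0),
   (19,0xef0000e50000e90000e60000f0),
   (30,0xe50000db0000e6),
   (22,0xef0000ec0000f0),
   (23,0xef0000ee0000f0),
   (24,0xef0000e80000f0),
   (31,0xef0000f30000f0)]

theorem steps0_ok : cert.stepsOK 0 steps0 = true ∧ ruleBound spec.length steps0 = true := by
  decide +kernel

end Cfsg.Lib.FiFour.EA
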