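import Cfsg.Agent.CosetCert.TabSplit
import Cfsg.Agent.FiFour.EAPart0

/-!
The certificate is valid.
-/

set_option autoImplicit false
set_option Elab.async false

namespace Cfsg.Lib.FiFour.EA

open Cfsg.Lib.CosetCert

theorem spec_ok : cert.rotsOK rels spec = true := by decide +kernel

theorem top_length : steps0.length = 126 := by decide +kernel

theorem tab0_ok : cert.tabPart 126 0 27 = true := by decide +kernel

theorem tab_ok : cert.tabOK steps0.length = true := by
  rw [top_length]
  exact Cert.tabOK_of_part (by decide +kernel) tab0_ok

theorem valid : cert.Valid rels :=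
  ⟨by decide, spec, steps0, spec_ok, steps0_ok.1, steps0_ok.2, tab_ok⟩

theorem fins_length : cert.fin.length = 27 := by rw [Cert.fin, List.length_map, List.length_range]; rfl

end Cfsg.Lib.FiFour.EA
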