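import Cfsg.Agent.CosetCert.TabSplit
import Cfsg.Agent.FiFour.EDData

/-!
The table of the certificate, block 0.
-/

set_option autoImplicit false
set_option Elab.async false

namespace Cfsg.Lib.FiFour.ED

open Cfsg.Lib.CosetCert

theorem tab0_ok : cert.tabPart 181338 0 400 = true := by decide +kernel

theorem tab1_ok : cert.tabPart 181338 400 400 = true := by decide +kernel

theorem tab2_ok : cert.tabPart 181338 800 400 = true := by decide +kernel

theorem tab3_ok : cert.tabPart 181338 1200 400 = true := by decide +kernel

theorem tab4_ok : cert.tabPart 181338 1600 400 = true := by decide +kernel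

theorem tab5_ok : cert.tabPart 181338 2000 400 = true := by decide +kernel

theorem tab6_ok : cert.tabPart 181338 2400 400 = true := by decide +kernel

theorem tab7_ok : cert.tabPart 181338 2800 400 = true := by decide +kernel

theorem tab8_ok : cert.tabPart 181338 3200 400 = true := by decide +kernel

theorem tab9_ok : cert.tabPart 181338 3600 400 = true := by decide +kernel

theorem tab10_ok : cert.tabPart 181338 4000 400 = true := by decide +kernel

theorem tab11_ok : cert.tabPart 181338 4400 400 = true := by decide +kernel

end Cfsg.Lib.FiFour.ED
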