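import Cfsg.Agent.CosetCert.TabSplit
import Cfsg.Agent.FiFour.EDData

/-!
The table of the certificate, block 1.
-/

set_option autoImplicit false
set_option Elab.async false

namespace Cfsg.Lib.FiFour.ED

open Cfsg.Lib.CosetCert

theorem tab12_ok : cert.tabPart 181338 4800 400 = true := by decide +kernel

theorem tab13_ok : cert.tabPart 181338 5200 400 = true := by decide +kernel

theorem tab14_ok : cert.tabPart 181338 5600 400 = true := by decide +kernel

theorem tab15_ok : cert.tabPart 181338 6000 400 = true := by decide +kernel

theorem tab16_ok : cert.tabPart 181338 6400 400 = true := by decide +kernel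

theorem tab17_ok : cert.tabPart 181338 6800 400 = true := by decide +kernel

theorem tab18_ok : cert.tabPart 181338 7200 400 = true := by decide +kernel

theorem tab19_ok : cert.tabPart 181338 7600 400 = true := by decide +kernel

theorem tab20_ok : cert.tabPart 181338 8000 400 = true := by decide +kernel

theorem tab21_ok : cert.tabPart 181338 8400 400 = true := by decide +kernel

theorem tab22_ok : cert.tabPart 181338 8800 400 = true := by decide +kernel

theorem tab23_ok : cert.tabPart 181338 9200 400 = true := by decide +kernel

end Cfsg.Lib.FiFour.ED
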