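import Cfsg.Agent.CosetCert.TabSplit
import Cfsg.Agent.FiFour.EDData

/-!
The table of the certificate, block 3.
-/

set_option autoImplicit false
set_option Elab.async false

namespace Cfsg.Lib.FiFour.ED

open Cfsg.Lib.CosetCert

theorem tab36_ok : cert.tabPart 181338 14400 400 = true := by decide +kernel

theorem tab37_ok : cert.tabPart 181338 14800 400 = true := by decide +kernel

theorem tab38_ok : cert.tabPart 181338 15200 400 = true := by decide +kernel

theorem tab39_ok : cert.tabPart 181338 15600 400 = true := by decide +kernel

theorem tab40_ok : cert.tabPart 181338 16000 400 = true := by decide +kernel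

theorem tab41_ok : cert.tabPart 181338 16400 400 = true := by decide +kernel

theorem tab42_ok : cert.tabPart 181338 16800 400 = true := by decide +kernel

theorem tab43_ok : cert.tabPart 181338 17200 400 = true := by decide +kernel

theorem tab44_ok : cert.tabPart 181338 17600 400 = true := by decide +kernel

theorem tab45_ok : cert.tabPart 181338 18000 400 = true := by decide +kernel

theorem tab46_ok : cert.tabPart 181338 18400 400 = true := by decide +kernel

theorem tab47_ok : cert.tabPart 181338 18800 400 = true := by decide +kernel

end Cfsg.Lib.FiFour.ED
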