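import Cfsg.Agent.CosetCert.TabSplit
import Cfsg.Agent.FiFour.EDData

/-!
The table of the certificate, block 4.
-/

set_option autoImplicit false
set_option Elab.async false

namespace Cfsg.Lib.FiFour.ED

open Cfsg.Lib.CosetCert

theorem tab48_ok : cert.tabPart 181338 19200 400 = true := by decide +kernel

theorem tab49_ok : cert.tabPart 181338 19600 400 = true := by decide +kernel

theorem tab50_ok : cert.tabPart 181338 20000 400 = true := by decide +kernel

theorem tab51_ok : cert.tabPart 181338 20400 400 = true := by decide +kernel

theorem tab52_ok : cert.tabPart 181338 20800 400 = true := by decide +kernel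

theorem tab53_ok : cert.tabPart 181338 21200 400 = true := by decide +kernel

theorem tab54_ok : cert.tabPart 181338 21600 400 = true := by decide +kernel

theorem tab55_ok : cert.tabPart 181338 22000 400 = true := by decide +kernel

theorem tab56_ok : cert.tabPart 181338 22400 400 = true := by decide +kernel

theorem tab57_ok : cert.tabPart 181338 22800 400 = true := by decide +kernel

theorem tab58_ok : cert.tabPart 181338 23200 400 = true := by decide +kernel

theorem tab59_ok : cert.tabPart 181338 23600 400 = true := by decide +kernel

end Cfsg.Lib.FiFour.ED
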