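import Cfsg.Agent.CosetCert.TabSplit
import Cfsg.Agent.FiFour.EDData

/-!
The table of the certificate, block 5.
-/

set_option autoImplicit false
set_option Elab.async false

namespace Cfsg.Lib.FiFour.ED

open Cfsg.Lib.CosetCert

theorem tab60_ok : cert.tabPart 181338 24000 400 = true := by decide +kernel

theorem tab61_ok : cert.tabPart 181338 24400 400 = true := by decide +kernel

theorem tab62_ok : cert.tabPart 181338 24800 400 = true := by decide +kernel

theorem tab63_ok : cert.tabPart 181338 25200 400 = true := by decide +kernel

theorem tab64_ok : cert.tabPart 181338 25600 400 = true := by decide +kernel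

theorem tab65_ok : cert.tabPart 181338 26000 400 = true := by decide +kernel

theorem tab66_ok : cert.tabPart 181338 26400 400 = true := by decide +kernel

theorem tab67_ok : cert.tabPart 181338 26800 400 = true := by decide +kernel

theorem tab68_ok : cert.tabPart 181338 27200 400 = true := by decide +kernel

theorem tab69_ok : cert.tabPart 181338 27600 400 = true := by decide +kernel

theorem tab70_ok : cert.tabPart 181338 28000 400 = true := by decide +kernel

theorem tab71_ok : cert.tabPart 181338 28400 31 = true := by decide +kernel

end Cfsg.Lib.FiFour.ED
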