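import Cfsg.Agent.CosetCert.TabSplit
import Cfsg.Agent.FiFour.EDPart0
import Cfsg.Agent.FiFour.EDPart1
import Cfsg.Agent.FiFour.EDPart2
import Cfsg.Agent.FiFour.EDPart3
import Cfsg.Agent.FiFour.EDPart4
import Cfsg.Agent.FiFour.EDPart5
import Cfsg.Agent.FiFour.EDPart6
import Cfsg.Agent.FiFour.EDPart7
import Cfsg.Agent.FiFour.EDPart8
import Cfsg.Agent.FiFour.EDPart9
import Cfsg.Agent.FiFour.EDPart10
import Cfsg.Agent.FiFour.EDPart11
import Cfsg.Agent.FiFour.EDTab0
import Cfsg.Agent.FiFour.EDTab1
import Cfsg.Agent.FiFour.EDTab2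
import Cfsg.Agent.FiFour.EDTab3
import Cfsg.Agent.FiFour.EDTab4
import Cfsg.Agent.FiFour.EDTab5

/-!
The certificate is valid.
-/

set_option autoImplicit false
set_option Elab.async false

namespace Cfsg.Lib.FiFour.ED

open Cfsg.Lib.CosetCert

theorem cat0x5_0_len : cat0x5_0.length = 16384 := by decide +kernel

theorem cat1x5_0_len : cat1x5_0.length = 16384 := by decide +kernel

theorem cat2x5_0_len : cat2x5_0.length = 16384 := by decide +kernel

theorem cat3x5_0_len : cat3x5_0.length = 16384 := by decide +kernel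

theorem cat4x5_0_len : cat4x5_0.length = 16384 := by decide +kernel

theorem cat5x5_0_len : cat5x5_0.length = 16384 := by decide +kernel

theorem cat6x5_0_len : cat6x5_0.length = 16384 := by decide +kernel

theorem cat7x5_0_len : cat7x5_0.length = 16384 := by decide +kernel

theorem cat8x5_0_len : cat8x5_0.length = 16384 := by decide +kernel

theorem cat9x5_0_len : cat9x5_0.length = 16384 := by decide +kernel

theorem cat10x5_0_len : cat10x5_0.length = 16384 := by decide +kernel

theorem cat11x2_0_len : cat11x2_0.length = 1114 := by decide +kernel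

def top0_0 : List (ℕ × ℕ) := cat0x5_0 ++ cat1x5_0

theorem top0_0_len : top0_0.length = 32768 := by
  rw [top0_0, List.length_append, cat0x5_0_len, cat1x5_0_len]

theorem top0_0_ok : cert.stepsOK 0 top0_0 = true ∧ ruleBound spec.length top0_0 = true :=
  stepsOK_cat cat0x5_0_ok cat1x5_0_ok (by rw [cat0x5_0_len])

def top0_1 : List (ℕ × ℕ) := cat2x5_0 ++ cat3x5_0

theorem top0_1_len : top0_1.length = 32768 := by
  rw [top0_1, List.length_append, cat2x5_0_len, cat3x5_0_len]

theorem top0_1_ok : cert.stepsOK 32768 top0_1 = true ∧ ruleBound spec.length top0_1 = true :=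
  stepsOK_cat cat2x5_0_ok cat3x5_0_ok (by rw [cat2x5_0_len])

def top0_2 : List (ℕ × ℕ) := cat4x5_0 ++ cat5x5_0

theorem top0_2_len : top0_2.length = 32768 := by
  rw [top0_2, List.length_append, cat4x5_0_len, cat5x5_0_len]

theorem top0_2_ok : cert.stepsOK 65536 top0_2 = true ∧ ruleBound spec.length top0_2 = true :=
  stepsOK_cat cat4x5_0_ok cat5x5_0_ok (by rw [cat4x5_0_len])

def top0_3 : List (ℕ × ℕ) := cat6x5_0 ++ cat7x5_0

theorem top0_3_len : top0_3.length = 32768 := by
  rw [top0_3, List.length_append, cat6x5_0_len, cat7x5_0_len]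

theorem top0_3_ok : cert.stepsOK 98304 top0_3 = true ∧ ruleBound spec.length top0_3 = true :=
  stepsOK_cat cat6x5_0_ok cat7x5_0_ok (by rw [cat6x5_0_len])

def top0_4 : List (ℕ × ℕ) := cat8x5_0 ++ cat9x5_0

theorem top0_4_len : top0_4.length = 32768 := by
  rw [top0_4, List.length_append, cat8x5_0_len, cat9x5_0_len]

theorem top0_4_ok : cert.stepsOK 131072 top0_4 = true ∧ ruleBound spec.length top0_4 = true :=
  stepsOK_cat cat8x5_0_ok cat9x5_0_ok (by rw [cat8x5_0_len])

def top0_5 : List (ℕ × ℕ) := cat10x5_0 ++ cat11x2_0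

theorem top0_5_len : top0_5.length = 17498 := by
  rw [top0_5, List.length_append, cat10x5_0_len, cat11x2_0_len]

theorem top0_5_ok : cert.stepsOK 163840 top0_5 = true ∧ ruleBound spec.length top0_5 = true :=
  stepsOK_cat cat10x5_0_ok cat11x2_0_ok (by rw [cat10x5_0_len])

def top1_0 : List (ℕ × ℕ) := top0_0 ++ top0_1

theorem top1_0_len : top1_0.length = 65536 := by
  rw [top1_0, List.length_append, top0_0_len, top0_1_len]

theorem top1_0_ok : cert.stepsOK 0 top1_0 = true ∧ ruleBound spec.length top1_0 = true :=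
  stepsOK_cat top0_0_ok top0_1_ok (by rw [top0_0_len])

def top1_1 : List (ℕ × ℕ) := top0_2 ++ top0_3

theorem top1_1_len : top1_1.length = 65536 := by
  rw [top1_1, List.length_append, top0_2_len, top0_3_len]

theorem top1_1_ok : cert.stepsOK 65536 top1_1 = true ∧ ruleBound spec.length top1_1 = true :=
  stepsOK_cat top0_2_ok top0_3_ok (by rw [top0_2_len])

def top1_2 : List (ℕ × ℕ) := top0_4 ++ top0_5

theorem top1_2_len : top1_2.length = 50266 := by
  rw [top1_2, List.length_append, top0_4_len, top0_5_len]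

theorem top1_2_ok : cert.stepsOK 131072 top1_2 = true ∧ ruleBound spec.length top1_2 = true :=
  stepsOK_cat top0_4_ok top0_5_ok (by rw [top0_4_len])

def top2_0 : List (ℕ × ℕ) := top1_0 ++ top1_1

theorem top2_0_len : top2_0.length = 131072 := by
  rw [top2_0, List.length_append, top1_0_len, top1_1_len]

theorem top2_0_ok : cert.stepsOK 0 top2_0 = true ∧ ruleBound spec.length top2_0 = true :=
  stepsOK_cat top1_0_ok top1_1_ok (by rw [top1_0_len])

def top3_0 : List (ℕ × ℕ) := top2_0 ++ top1_2

theorem top3_0_len : top3_0.length = 181338 := by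
  rw [top3_0, List.length_append, top2_0_len, top1_2_len]

theorem top3_0_ok : cert.stepsOK 0 top3_0 = true ∧ ruleBound spec.length top3_0 = true :=
  stepsOK_cat top2_0_ok top1_2_ok (by rw [top2_0_len])

theorem spec_ok : cert.rotsOK rels spec = true := by decide +kernel

theorem top_length : top3_0.length = 181338 := top3_0_len

theorem tabTo1_ok : cert.tabPart 181338 0 800 = true :=
  Cert.tabPart_add (b := 400) (c := 400) tab0_ok (by rw [Nat.zero_add]; exact tab1_ok)

theorem tabTo2_ok : cert.tabPart 181338 0 1200 = true :=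
  Cert.tabPart_add (b := 800) (c := 400) tabTo1_ok (by rw [Nat.zero_add]; exact tab2_ok)

theorem tabTo3_ok : cert.tabPart 181338 0 1600 = true :=
  Cert.tabPart_add (b := 1200) (c := 400) tabTo2_ok (by rw [Nat.zero_add]; exact tab3_ok)

theorem tabTo4_ok : cert.tabPart 181338 0 2000 = true :=
  Cert.tabPart_add (b := 1600) (c := 400) tabTo3_ok (by rw [Nat.zero_add]; exact tab4_ok)

theorem tabTo5_ok : cert.tabPart 181338 0 2400 = true :=
  Cert.tabPart_add (b := 2000) (c := 400) tabTo4_ok (by rw [Nat.zero_add]; exact tab5_ok)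

theorem tabTo6_ok : cert.tabPart 181338 0 2800 = true :=
  Cert.tabPart_add (b := 2400) (c := 400) tabTo5_ok (by rw [Nat.zero_add]; exact tab6_ok)

theorem tabTo7_ok : cert.tabPart 181338 0 3200 = true :=
  Cert.tabPart_add (b := 2800) (c := 400) tabTo6_ok (by rw [Nat.zero_add]; exact tab7_ok)

theorem tabTo8_ok : cert.tabPart 181338 0 3600 = true :=
  Cert.tabPart_add (b := 3200) (c := 400) tabTo7_ok (by rw [Nat.zero_add]; exact tab8_ok)

theorem tabTo9_ok : cert.tabPart 181338 0 4000 = true :=
  Cert.tabPart_add (b := 3600) (c := 400) tabTo8_ok (by rw [Nat.zero_add]; exact tab9_ok)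

theorem tabTo10_ok : cert.tabPart 181338 0 4400 = true :=
  Cert.tabPart_add (b := 4000) (c := 400) tabTo9_ok (by rw [Nat.zero_add]; exact tab10_ok)

theorem tabTo11_ok : cert.tabPart 181338 0 4800 = true :=
  Cert.tabPart_add (b := 4400) (c := 400) tabTo10_ok (by rw [Nat.zero_add]; exact tab11_ok)

theorem tabTo12_ok : cert.tabPart 181338 0 5200 = true :=
  Cert.tabPart_add (b := 4800) (c := 400) tabTo11_ok (by rw [Nat.zero_add]; exact tab12_ok)

theorem tabTo13_ok : cert.tabPart 181338 0 5600 = true :=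
  Cert.tabPart_add (b := 5200) (c := 400) tabTo12_ok (by rw [Nat.zero_add]; exact tab13_ok)

theorem tabTo14_ok : cert.tabPart 181338 0 6000 = true :=
  Cert.tabPart_add (b := 5600) (c := 400) tabTo13_ok (by rw [Nat.zero_add]; exact tab14_ok)

theorem tabTo15_ok : cert.tabPart 181338 0 6400 = true :=
  Cert.tabPart_add (b := 6000) (c := 400) tabTo14_ok (by rw [Nat.zero_add]; exact tab15_ok)

theorem tabTo16_ok : cert.tabPart 181338 0 6800 = true :=
  Cert.tabPart_add (b := 6400) (c := 400) tabTo15_ok (by rw [Nat.zero_add]; exact tab16_ok)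

theorem tabTo17_ok : cert.tabPart 181338 0 7200 = true :=
  Cert.tabPart_add (b := 6800) (c := 400) tabTo16_ok (by rw [Nat.zero_add]; exact tab17_ok)

theorem tabTo18_ok : cert.tabPart 181338 0 7600 = true :=
  Cert.tabPart_add (b := 7200) (c := 400) tabTo17_ok (by rw [Nat.zero_add]; exact tab18_ok)

theorem tabTo19_ok : cert.tabPart 181338 0 8000 = true :=
  Cert.tabPart_add (b := 7600) (c := 400) tabTo18_ok (by rw [Nat.zero_add]; exact tab19_ok)

theorem tabTo20_ok : cert.tabPart 181338 0 8400 = true :=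
  Cert.tabPart_add (b := 8000) (c := 400) tabTo19_ok (by rw [Nat.zero_add]; exact tab20_ok)

theorem tabTo21_ok : cert.tabPart 181338 0 8800 = true :=
  Cert.tabPart_add (b := 8400) (c := 400) tabTo20_ok (by rw [Nat.zero_add]; exact tab21_ok)

theorem tabTo22_ok : cert.tabPart 181338 0 9200 = true :=
  Cert.tabPart_add (b := 8800) (c := 400) tabTo21_ok (by rw [Nat.zero_add]; exact tab22_ok)

theorem tabTo23_ok : cert.tabPart 181338 0 9600 = true :=
  Cert.tabPart_add (b := 9200) (c := 400) tabTo22_ok (by rw [Nat.zero_add]; exact tab23_ok)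

theorem tabTo24_ok : cert.tabPart 181338 0 10000 = true :=
  Cert.tabPart_add (b := 9600) (c := 400) tabTo23_ok (by rw [Nat.zero_add]; exact tab24_ok)

theorem tabTo25_ok : cert.tabPart 181338 0 10400 = true :=
  Cert.tabPart_add (b := 10000) (c := 400) tabTo24_ok (by rw [Nat.zero_add]; exact tab25_ok)

theorem tabTo26_ok : cert.tabPart 181338 0 10800 = true :=
  Cert.tabPart_add (b := 10400) (c := 400) tabTo25_ok (by rw [Nat.zero_add]; exact tab26_ok)

theorem tabTo27_ok : cert.tabPart 181338 0 11200 = true :=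
  Cert.tabPart_add (b := 10800) (c := 400) tabTo26_ok (by rw [Nat.zero_add]; exact tab27_ok)

theorem tabTo28_ok : cert.tabPart 181338 0 11600 = true :=
  Cert.tabPart_add (b := 11200) (c := 400) tabTo27_ok (by rw [Nat.zero_add]; exact tab28_ok)

theorem tabTo29_ok : cert.tabPart 181338 0 12000 = true :=
  Cert.tabPart_add (b := 11600) (c := 400) tabTo28_ok (by rw [Nat.zero_add]; exact tab29_ok)

theorem tabTo30_ok : cert.tabPart 181338 0 12400 = true :=
  Cert.tabPart_add (b := 12000) (c := 400) tabTo29_ok (by rw [Nat.zero_add]; exact tab30_ok)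

theorem tabTo31_ok : cert.tabPart 181338 0 12800 = true :=
  Cert.tabPart_add (b := 12400) (c := 400) tabTo30_ok (by rw [Nat.zero_add]; exact tab31_ok)

theorem tabTo32_ok : cert.tabPart 181338 0 13200 = true :=
  Cert.tabPart_add (b := 12800) (c := 400) tabTo31_ok (by rw [Nat.zero_add]; exact tab32_ok)

theorem tabTo33_ok : cert.tabPart 181338 0 13600 = true :=
  Cert.tabPart_add (b := 13200) (c := 400) tabTo32_ok (by rw [Nat.zero_add]; exact tab33_ok)

theorem tabTo34_ok : cert.tabPart 181338 0 14000 = true :=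
  Cert.tabPart_add (b := 13600) (c := 400) tabTo33_ok (by rw [Nat.zero_add]; exact tab34_ok)

theorem tabTo35_ok : cert.tabPart 181338 0 14400 = true :=
  Cert.tabPart_add (b := 14000) (c := 400) tabTo34_ok (by rw [Nat.zero_add]; exact tab35_ok)

theorem tabTo36_ok : cert.tabPart 181338 0 14800 = true :=
  Cert.tabPart_add (b := 14400) (c := 400) tabTo35_ok (by rw [Nat.zero_add]; exact tab36_ok)

theorem tabTo37_ok : cert.tabPart 181338 0 15200 = true :=
  Cert.tabPart_add (b := 14800) (c := 400) tabTo36_ok (by rw [Nat.zero_add]; exact tab37_ok)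

theorem tabTo38_ok : cert.tabPart 181338 0 15600 = true :=
  Cert.tabPart_add (b := 15200) (c := 400) tabTo37_ok (by rw [Nat.zero_add]; exact tab38_ok)

theorem tabTo39_ok : cert.tabPart 181338 0 16000 = true :=
  Cert.tabPart_add (b := 15600) (c := 400) tabTo38_ok (by rw [Nat.zero_add]; exact tab39_ok)

theorem tabTo40_ok : cert.tabPart 181338 0 16400 = true :=
  Cert.tabPart_add (b := 16000) (c := 400) tabTo39_ok (by rw [Nat.zero_add]; exact tab40_ok)

theorem tabTo41_ok : cert.tabPart 181338 0 16800 = true :=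
  Cert.tabPart_add (b := 16400) (c := 400) tabTo40_ok (by rw [Nat.zero_add]; exact tab41_ok)

theorem tabTo42_ok : cert.tabPart 181338 0 17200 = true :=
  Cert.tabPart_add (b := 16800) (c := 400) tabTo41_ok (by rw [Nat.zero_add]; exact tab42_ok)

theorem tabTo43_ok : cert.tabPart 181338 0 17600 = true :=
  Cert.tabPart_add (b := 17200) (c := 400) tabTo42_ok (by rw [Nat.zero_add]; exact tab43_ok)

theorem tabTo44_ok : cert.tabPart 181338 0 18000 = true :=
  Cert.tabPart_add (b := 17600) (c := 400) tabTo43_ok (by rw [Nat.zero_add]; exact tab44_ok)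

theorem tabTo45_ok : cert.tabPart 181338 0 18400 = true :=
  Cert.tabPart_add (b := 18000) (c := 400) tabTo44_ok (by rw [Nat.zero_add]; exact tab45_ok)

theorem tabTo46_ok : cert.tabPart 181338 0 18800 = true :=
  Cert.tabPart_add (b := 18400) (c := 400) tabTo45_ok (by rw [Nat.zero_add]; exact tab46_ok)

theorem tabTo47_ok : cert.tabPart 181338 0 19200 = true :=
  Cert.tabPart_add (b := 18800) (c := 400) tabTo46_ok (by rw [Nat.zero_add]; exact tab47_ok)

theorem tabTo48_ok : cert.tabPart 181338 0 19600 = true :=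
  Cert.tabPart_add (b := 19200) (c := 400) tabTo47_ok (by rw [Nat.zero_add]; exact tab48_ok)

theorem tabTo49_ok : cert.tabPart 181338 0 20000 = true :=
  Cert.tabPart_add (b := 19600) (c := 400) tabTo48_ok (by rw [Nat.zero_add]; exact tab49_ok)

theorem tabTo50_ok : cert.tabPart 181338 0 20400 = true :=
  Cert.tabPart_add (b := 20000) (c := 400) tabTo49_ok (by rw [Nat.zero_add]; exact tab50_ok)

theorem tabTo51_ok : cert.tabPart 181338 0 20800 = true :=
  Cert.tabPart_add (b := 20400) (c := 400) tabTo50_ok (by rw [Nat.zero_add]; exact tab51_ok)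

theorem tabTo52_ok : cert.tabPart 181338 0 21200 = true :=
  Cert.tabPart_add (b := 20800) (c := 400) tabTo51_ok (by rw [Nat.zero_add]; exact tab52_ok)

theorem tabTo53_ok : cert.tabPart 181338 0 21600 = true :=
  Cert.tabPart_add (b := 21200) (c := 400) tabTo52_ok (by rw [Nat.zero_add]; exact tab53_ok)

theorem tabTo54_ok : cert.tabPart 181338 0 22000 = true :=
  Cert.tabPart_add (b := 21600) (c := 400) tabTo53_ok (by rw [Nat.zero_add]; exact tab54_ok)

theorem tabTo55_ok : cert.tabPart 181338 0 22400 = true :=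
  Cert.tabPart_add (b := 22000) (c := 400) tabTo54_ok (by rw [Nat.zero_add]; exact tab55_ok)

theorem tabTo56_ok : cert.tabPart 181338 0 22800 = true :=
  Cert.tabPart_add (b := 22400) (c := 400) tabTo55_ok (by rw [Nat.zero_add]; exact tab56_ok)

theorem tabTo57_ok : cert.tabPart 181338 0 23200 = true :=
  Cert.tabPart_add (b := 22800) (c := 400) tabTo56_ok (by rw [Nat.zero_add]; exact tab57_ok)

theorem tabTo58_ok : cert.tabPart 181338 0 23600 = true :=
  Cert.tabPart_add (b := 23200) (c := 400) tabTo57_ok (by rw [Nat.zero_add]; exact tab58_ok)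

theorem tabTo59_ok : cert.tabPart 181338 0 24000 = true :=
  Cert.tabPart_add (b := 23600) (c := 400) tabTo58_ok (by rw [Nat.zero_add]; exact tab59_ok)

theorem tabTo60_ok : cert.tabPart 181338 0 24400 = true :=
  Cert.tabPart_add (b := 24000) (c := 400) tabTo59_ok (by rw [Nat.zero_add]; exact tab60_ok)

theorem tabTo61_ok : cert.tabPart 181338 0 24800 = true :=
  Cert.tabPart_add (b := 24400) (c := 400) tabTo60_ok (by rw [Nat.zero_add]; exact tab61_ok)

theorem tabTo62_ok : cert.tabPart 181338 0 25200 = true :=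
  Cert.tabPart_add (b := 24800) (c := 400) tabTo61_ok (by rw [Nat.zero_add]; exact tab62_ok)

theorem tabTo63_ok : cert.tabPart 181338 0 25600 = true :=
  Cert.tabPart_add (b := 25200) (c := 400) tabTo62_ok (by rw [Nat.zero_add]; exact tab63_ok)

theorem tabTo64_ok : cert.tabPart 181338 0 26000 = true :=
  Cert.tabPart_add (b := 25600) (c := 400) tabTo63_ok (by rw [Nat.zero_add]; exact tab64_ok)

theorem tabTo65_ok : cert.tabPart 181338 0 26400 = true :=
  Cert.tabPart_add (b := 26000) (c := 400) tabTo64_ok (by rw [Nat.zero_add]; exact tab65_ok)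

theorem tabTo66_ok : cert.tabPart 181338 0 26800 = true :=
  Cert.tabPart_add (b := 26400) (c := 400) tabTo65_ok (by rw [Nat.zero_add]; exact tab66_ok)

theorem tabTo67_ok : cert.tabPart 181338 0 27200 = true :=
  Cert.tabPart_add (b := 26800) (c := 400) tabTo66_ok (by rw [Nat.zero_add]; exact tab67_ok)

theorem tabTo68_ok : cert.tabPart 181338 0 27600 = true :=
  Cert.tabPart_add (b := 27200) (c := 400) tabTo67_ok (by rw [Nat.zero_add]; exact tab68_ok)

theorem tabTo69_ok : cert.tabPart 181338 0 28000 = true :=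
  Cert.tabPart_add (b := 27600) (c := 400) tabTo68_ok (by rw [Nat.zero_add]; exact tab69_ok)

theorem tabTo70_ok : cert.tabPart 181338 0 28400 = true :=
  Cert.tabPart_add (b := 28000) (c := 400) tabTo69_ok (by rw [Nat.zero_add]; exact tab70_ok)

theorem tabTo71_ok : cert.tabPart 181338 0 28431 = true :=
  Cert.tabPart_add (b := 28400) (c := 31) tabTo70_ok (by rw [Nat.zero_add]; exact tab71_ok)

theorem tab_ok : cert.tabOK top3_0.length = true := by
  rw [top_length]
  exact Cert.tabOK_of_part (by decide +kernel) tabTo71_ok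

theorem valid : cert.Valid rels :=
  ⟨by decide, spec, top3_0, spec_ok, top3_0_ok.1, top3_0_ok.2, tab_ok⟩

theorem fins_length : cert.fin.length = 28431 := by rw [Cert.fin, List.length_map, List.length_range]; rfl

end Cfsg.Lib.FiFour.ED
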