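import Cfsg.Agent.FiFour.Relators
import Cfsg.Agent.FiFour.EACheck
import Cfsg.Agent.FiFour.EBCheck
import Cfsg.Agent.FiFour.ECCheck
import Cfsg.Agent.FiFour.EDCheck
import Cfsg.Agent.FiPres.D0Check
import Cfsg.Agent.FiPres.D1Check

/-!
An upper bound for the subgroup on ten of the twelve letters.
-/

set_option autoImplicit false
set_option maxRecDepth 20000

namespace Cfsg.Lib.FiFour

open Cfsg.Lib.CosetCert

/-- Nothing at all, and all relators. -/
def words : List (List ℕ) := [] :: allWords

/-- The list of relators of a level maps into the relators. -/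
def relsIn (R : List (List ℕ)) (Λ : List ℕ) : Bool :=
  R.all fun r => words.contains (r.map (pickL Λ)) && r.all fun l => decide (l < Λ.length)

/-- The subgroup letters of a level are among given letters. -/
def subsIn (subs Λ S : List ℕ) : Bool := subs.all fun s => S.contains (pickL Λ s)

/-- The ten letters. -/
def lamN : List ℕ := [0, 1, 2, 3, 4, 5, 7, 8, 11, 10]

/-- The nine letters of the stabiliser among the ten. -/
def lamM : List ℕ := [0, 1, 2, 3, 4, 5, 7, 8, 10]

theorem im_sq (l : ℕ) : im l * im l = 1 := by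
  have h : genOf l = genOf (idxOf (genOf l)) := (genOf_idxOf _).symm
  have e : im l = im (idxOf (genOf l)) := congrArg PresentedGroup.of h
  rw [e]
  exact good_im.inv (idxOf_lt _)

theorem step {C : Cert} {R : List (List ℕ)} (hC : C.Valid R) (Λ S : List ℕ) (hng : C.ng = Λ.length)
    (hrel : relsIn R Λ = true) (hsub : subsIn C.subs Λ S = true) (hK : Finite (lgp im S)) :
    Finite (lgp im Λ) ∧ Nat.card (lgp im Λ) ≤ C.fin.length * Nat.card (lgp im S) := by
  haveI := hK
  simp only [relsIn, List.all_eq_true, Bool.and_eq_true, decide_eq_true_eq, List.contains_iff_mem] at hrel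
  refine lgp_bound im hC Λ hng (fun r hr => ?_) (List.all_eq_true.2 fun r hr => List.all_eq_true.2 fun l hl =>
    decide_eq_true ((hrel r hr).2 l hl)) (fun l _ => im_sq l) (fun s hs => ?_)
  · rcases List.mem_cons.1 (hrel r hr).1 with e | h
    · rw [e]; rfl
    · exact good_im _ h
  · exact lgp_mem im (List.contains_iff_mem.1 (List.all_eq_true.1 hsub s hs))

theorem fin_nil : Finite (lgp im []) ∧ Nat.card (lgp im []) = 1 := by
  have : lgp im [] = ⊥ := by simp [lgp]
  rw [this]
  exact ⟨inferInstance, Subgroup.card_bot⟩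

/-- The eleventh letter lies in the seven. -/
theorem ten_mem_seven {S : List ℕ} (h : ∀ l ∈ sevenBase, l ∈ S) : im 10 ∈ lgp im S := by
  rw [good_im.centre]
  refine pow_mem (lgp_wval im ?_) 9
  simp only [inLetters, List.all_eq_true, List.contains_iff_mem]
  exact h

theorem lgp_add_ten {S : List ℕ} (h : ∀ l ∈ sevenBase, l ∈ S) : lgp im (S ++ [10]) = lgp im S := by
  refine le_antisymm ((Subgroup.closure_le _).2 ?_) (lgp_mono im fun l hl => List.mem_append_left _ hl)
  rintro _ ⟨l, hl, rfl⟩
  rcases List.mem_append.1 hl with hl | hl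
  · exact lgp_mem im hl
  · rw [List.mem_singleton] at hl
    exact hl ▸ ten_mem_seven h

open Cfsg.Lib.FiPres in
theorem bound_five : Finite (lgp im [2, 3, 4, 5, 7]) ∧ Nat.card (lgp im [2, 3, 4, 5, 7]) ≤ 1920 := by
  have h0 := step D0.valid [2, 3, 4, 7] [] rfl (by decide +kernel) (by decide +kernel) fin_nil.1
  rw [D0.fins_length, fin_nil.2] at h0
  have h1 := step D1.valid [2, 3, 4, 5, 7] [2, 3, 4, 7] rfl (by decide +kernel) (by decide +kernel) h0.1
  rw [D1.fins_length] at h1
  have := h0.2
  exact ⟨h1.1, h1.2.trans (by omega)⟩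

theorem bound_seven : Finite (lgp im sevenBase) ∧ Nat.card (lgp im sevenBase) ≤ 2903040 := by
  have h1 := step EA.valid [1, 2, 3, 4, 5, 7] [2, 3, 4, 5, 7] rfl (by decide +kernel) (by decide +kernel) bound_five.1
  rw [EA.fins_length] at h1
  have h2 := step EB.valid sevenBase [1, 2, 3, 4, 5, 7] rfl (by decide +kernel) (by decide +kernel) h1.1
  rw [EB.fins_length] at h2
  have := bound_five.2
  have := h1.2
  exact ⟨h2.1, h2.2.trans (by omega)⟩

theorem bound_eight : Finite (lgp im (11 :: sevenBase)) ∧ Nat.card (lgp im (11 :: sevenBase)) ≤ 348364800 := by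
  have e : lgp im (sevenBase ++ [10]) = lgp im sevenBase := lgp_add_ten fun _ h => h
  have h3 := step EC.valid (11 :: (sevenBase ++ [10])) (sevenBase ++ [10]) rfl (by decide +kernel) (by decide +kernel)
    (by rw [e]; exact bound_seven.1)
  rw [EC.fins_length, e] at h3
  rw [show 11 :: (sevenBase ++ [10]) = (11 :: sevenBase) ++ [10] from rfl,
    lgp_add_ten fun l hl => List.mem_cons_of_mem 11 hl] at h3
  have := bound_seven.2
  exact ⟨h3.1, h3.2.trans (by omega)⟩

theorem bound_ten : Finite (lgp im lamN) ∧ Nat.card (lgp im lamN) ≤ 9904359628800 := by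
  have h4 := step ED.valid lamN (11 :: sevenBase) rfl (by decide +kernel) (by decide +kernel) bound_eight.1
  rw [ED.fins_length] at h4
  have := bound_eight.2
  exact ⟨h4.1, h4.2.trans (by omega)⟩

end Cfsg.Lib.FiFour
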