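import Mathlib.Data.Nat.Notation

/-!
Words for conjugating the eleventh letter to the others, and a generating set of a stabiliser.
-/

set_option autoImplicit false

namespace Cfsg.Lib.FiFour

/-- The transposition on the nine letters, as a conjugating word. -/
def outWord : List ℕ := [1, 2, 3, 7, 4, 3, 2, 1]

/-- For each target: a generator and the generators conjugating it. -/
def targets : List (ℕ × List ℕ) :=
  [(0, [6, 5, 1, 2, 0, 1, 5, 6, 3, 2, 1, 5, 4, 3, 2, 1]),
   (7, []),
   (4, []),
   (3, []),
   (2, []),
   (1, []),
   (5, []),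
   (8, []),
   (1, [6, 8, 3, 4, 2, 3, 8, 7, 4, 3, 2])]

end Cfsg.Lib.FiFour
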