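import Cfsg.Agent.FiFour.Action

/-!
Counting points reached by words in chosen letters.
-/

set_option autoImplicit false
set_option maxRecDepth 100000

namespace Cfsg.Lib.FiFour

open Cfsg.Lib.CosetCert
open Cfsg.Lib.ONPres (force force_eq)

attribute [local irreducible] rowF sevF lonF

noncomputable instance actPts : MulAction Cfsg.Spor.Fi24 Pts := MulAction.compHom Pts psiF

theorem smul_pts (g : Cfsg.Spor.Fi24) (p : Pts) : g • p = psiF g p := rfl

theorem im_smul_val {x : ℕ} (hx : x < 12) (p : Pts) : (im x • p : Pts).val = mv x p.val := psiF_im_val hx p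

/-- The first point. -/
def p0 : Pts := ⟨0, by norm_num⟩

/-- A scan of a tree: every branch ends at a new point. -/
noncomputable def scanT (Λ : List ℕ) : List (ℕ × ℕ × ℕ) → ℕ → Bool
  | [], _ => true
  | (q, par, x) :: r, s => Nat.testBit s par && !(Nat.testBit s q) && Nat.ble (Nat.succ x) 12 && Λ.contains x &&
      Nat.beq (mv x par) q && force (Nat.lor s (Nat.shiftLeft 1 q)) fun t => scanT Λ r t

theorem scanT_sound {Λ : List ℕ} {b : Pts} : ∀ (t : List (ℕ × ℕ × ℕ)) (s : ℕ) (F : Finset Pts), scanT Λ t s = true →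
    (∀ p : Pts, p ∈ F ↔ s.testBit p.val = true) → (∀ j, s.testBit j = true → j < 306936) →
    (∀ p ∈ F, p ∈ MulAction.orbit (lgp im Λ) b) →
    F.card + t.length ≤ (MulAction.orbit (lgp im Λ) b).ncard
  | [], _, F, _, _, _, hF => by
    rw [List.length_nil, Nat.add_zero, ← Set.ncard_coe_finset]
    exact Set.ncard_le_ncard hF (Set.toFinite _)
  | (q, par, x) :: r, s, F, h, hmem, hlt, hF => by
    simp only [scanT, force_eq, Bool.and_eq_true, Nat.ble_eq, List.contains_iff_mem, Bool.not_eq_true'] at h
    obtain ⟨⟨⟨⟨⟨hp, hq⟩, hx⟩, hΛ⟩, he⟩, hr⟩ := h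
    replace he := Nat.eq_of_beq_eq_true he
    have hx' : x < 12 := hx
    have hqlt : q < 306936 := he ▸ mv_lt hx' (hlt _ hp)
    have hnot : (⟨q, hqlt⟩ : Pts) ∉ F := fun hc => by
      rw [hmem, hq] at hc
      exact Bool.noConfusion hc
    have hbit : ∀ j, (Nat.lor s (Nat.shiftLeft 1 q)).testBit j = true ↔ (s.testBit j = true ∨ j = q) := fun j => by
      show (s ||| 1 <<< q).testBit j = true ↔ _
      rw [Nat.testBit_or, Bool.or_eq_true, Nat.one_shiftLeft, Nat.testBit_two_pow, decide_eq_true_eq, eq_comm (a := q)]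
    have := scanT_sound (b := b) r _ (insert (⟨q, hqlt⟩ : Pts) F) hr
      (fun p => by rw [Finset.mem_insert, hbit, hmem, Fin.ext_iff, or_comm])
      (fun j hj => by rcases (hbit j).1 hj with hj | rfl; exacts [hlt j hj, hqlt])
      (fun p hp' => by
        rcases Finset.mem_insert.1 hp' with rfl | hp'
        · obtain ⟨g, hg⟩ := hF ⟨par, hlt _ hp⟩ ((hmem _).2 hp)
          refine ⟨⟨im x, lgp_mem im hΛ⟩ * g, ?_⟩
          show (⟨im x, lgp_mem im hΛ⟩ * g : lgp im Λ) • b = _
          rw [mul_smul]
          refine Fin.ext ?_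
          show (im x • (g • b) : Pts).val = q
          rw [im_smul_val hx', show g • b = (⟨par, hlt _ hp⟩ : Pts) from hg]
          exact he
        · exact hF p hp')
    rw [Finset.card_insert_of_notMem hnot] at this
    rw [List.length_cons]
    omega

/-- A tree at a base point gives a lower bound for the orbit. -/
theorem orbit_ge {Λ : List ℕ} {b : Pts} {t : List (ℕ × ℕ × ℕ)} (h : scanT Λ t (Nat.shiftLeft 1 b.val) = true) :
    1 + t.length ≤ (MulAction.orbit (lgp im Λ) b).ncard := by
  have := scanT_sound (b := b) t _ {b} h (fun p => by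
    show p ∈ ({b} : Finset Pts) ↔ (1 <<< b.val).testBit p.val = true
    rw [Finset.mem_singleton, Nat.one_shiftLeft, Nat.testBit_two_pow, decide_eq_true_eq, Fin.ext_iff, eq_comm])
    (fun j hj => by
      change (1 <<< b.val).testBit j = true at hj
      rw [Nat.one_shiftLeft, Nat.testBit_two_pow, decide_eq_true_eq] at hj
      exact hj ▸ b.isLt)
    (fun p hp => by rw [Finset.mem_singleton] at hp; subst hp; exact MulAction.mem_orbit_self _)
  rwa [Finset.card_singleton] at this

end Cfsg.Lib.FiFour
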