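import Cfsg.Agent.FiFour.Agree
import Cfsg.Agent.FiFour.Orbit
import Cfsg.Agent.FiTwenty.Simple

/-!
The subgroup on eleven letters, restricted to the smaller suborbit.
-/

set_option autoImplicit false
set_option maxRecDepth 100000

namespace Cfsg.Lib.FiFour

open Cfsg.Lib.CosetCert Cfsg.Lib.PermCert
open Cfsg.Lib.ONPres (force_eq)

attribute [local irreducible] rowF sevF lonF
attribute [local irreducible] Cfsg.Lib.FiTwenty.sig0 Cfsg.Lib.FiTwenty.sig1 Cfsg.Lib.FiTwenty.sig2
  Cfsg.Lib.FiTwenty.sig3 Cfsg.Lib.FiTwenty.sig4 Cfsg.Lib.FiTwenty.sig5 Cfsg.Lib.FiTwenty.sig6 Cfsg.Lib.FiTwenty.sig7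
  Cfsg.Lib.FiTwenty.sig8 Cfsg.Lib.FiTwenty.sig9 Cfsg.Lib.FiTwenty.sig10

/-- The eleven letters. -/
def lamT : List ℕ := [0, 1, 2, 3, 4, 5, 6, 7, 8, 9, 10]

/-- The suborbit, numbered. -/
def emb (i : Fin 31671) : Pts := ⟨i.val + 1, by have := i.isLt; omega⟩

theorem emb_inj : Function.Injective emb := fun i j e => Fin.ext (by
  have := congrArg Fin.val e
  change i.val + 1 = j.val + 1 at this
  omega)

/-- The two elements act alike on the suborbit. -/
def Agrees (g : Cfsg.Spor.Fi24) (f : Cfsg.Spor.Fi23) : Prop :=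
  ∀ i, g • emb i = emb (Cfsg.Lib.FiTwenty.psi f i)

theorem Agrees.unique {g : Cfsg.Spor.Fi24} {f f' : Cfsg.Spor.Fi23} (h : Agrees g f) (h' : Agrees g f') : f = f' :=
  Cfsg.Lib.FiTwenty.faithful_all.2 (Equiv.ext fun i => emb_inj ((h i).symm.trans (h' i)))

theorem agrees_one : Agrees 1 1 := fun i => by rw [one_smul, map_one]; rfl

theorem Agrees.mul {g g' : Cfsg.Spor.Fi24} {f f' : Cfsg.Spor.Fi23} (h : Agrees g f) (h' : Agrees g' f') :
    Agrees (g * g') (f * f') := fun i => by rw [mul_smul, h', h, map_mul]; rfl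

theorem Agrees.inv {g : Cfsg.Spor.Fi24} {f : Cfsg.Spor.Fi23} (h : Agrees g f) : Agrees g⁻¹ f⁻¹ := fun i => by
  rw [inv_smul_eq_iff, h, map_inv, ← Equiv.Perm.mul_apply, mul_inv_cancel]
  rfl

theorem agree_spec (i : Fin 31671) : mv 10 (i.val + 1) = i.val + 1 ∧
    ∀ x < 10, mv x (i.val + 1) = ap (Cfsg.Lib.FiTwenty.sigTabs.getD x (0, 0)).1 i.val + 1 := by
  have h := agree_ok i.val i.isLt
  rw [agreeAt, force_eq, Bool.and_eq_true] at h
  refine ⟨Nat.eq_of_beq_eq_true h.1, fun x hx => ?_⟩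
  have := List.all_eq_true.1 h.2 x (List.mem_range.2 hx)
  exact Nat.eq_of_beq_eq_true this

theorem agrees_ten : Agrees (im 10) 1 := fun i => Fin.ext (by
  rw [im_smul_val (by norm_num), map_one]
  exact (agree_spec i).1)

theorem agrees_low {x : ℕ} (hx : x < 10) : Agrees (im x) (Cfsg.Lib.FiTwenty.imZ x) := fun i => Fin.ext (by
  have hl : x < Cfsg.Lib.FiTwenty.sigTabs.length := by
    show x < 11
    omega
  rw [im_smul_val (by omega), (Cfsg.Lib.FiTwenty.psi_act x hl).2]
  show _ = _ + 1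
  rw [perm_apply (Cfsg.Lib.FiTwenty.psi_act x hl).1]
  exact (agree_spec i).2 x hx)

theorem exists_agrees {g : Cfsg.Spor.Fi24} (hg : g ∈ lgp im lamT) : ∃ f, Agrees g f := by
  induction hg using Subgroup.closure_induction with
  | mem _ hy =>
    obtain ⟨x, hx, rfl⟩ := hy
    have h : x < 11 := (show ∀ x ∈ lamT, x < 11 by decide) x hx
    rcases Nat.lt_or_ge x 10 with h10 | h10
    · exact ⟨_, agrees_low h10⟩
    · exact ⟨1, by rw [show x = 10 by omega]; exact agrees_ten⟩
  | one => exact ⟨1, agrees_one⟩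
  | mul _ _ _ _ ha hb =>
    obtain ⟨a, ha⟩ := ha
    obtain ⟨b, hb⟩ := hb
    exact ⟨a * b, ha.mul hb⟩
  | inv _ _ ha =>
    obtain ⟨a, ha⟩ := ha
    exact ⟨a⁻¹, ha.inv⟩

/-- The restriction, as a map to the group on ten letters. -/
noncomputable def down : lgp im lamT →* Cfsg.Spor.Fi23 where
  toFun g := (exists_agrees g.2).choose
  map_one' := (exists_agrees (one_mem _)).choose_spec.unique agrees_one
  map_mul' a b := (exists_agrees (a * b).2).choose_spec.unique
    ((exists_agrees a.2).choose_spec.mul (exists_agrees b.2).choose_spec)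

theorem down_eq {g : lgp im lamT} {f : Cfsg.Spor.Fi23} (h : Agrees g.1 f) : down g = f :=
  (exists_agrees g.2).choose_spec.unique h

theorem down_agrees (g : lgp im lamT) : Agrees g.1 (down g) := (exists_agrees g.2).choose_spec

theorem down_surjective : Function.Surjective down := by
  rw [← MonoidHom.range_eq_top]
  refine top_le_iff.1 (Cfsg.Lib.FiTwenty.lgp_top ▸ (Subgroup.closure_le _).2 ?_)
  rintro _ ⟨x, hx, rfl⟩
  rw [List.mem_range] at hx
  exact ⟨⟨im x, lgp_mem im ((show ∀ x < 10, x ∈ lamT by decide) x hx)⟩, down_eq (agrees_low hx)⟩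

theorem first_fixed : ∀ x : Fin 11, mv x.val 0 = 0 := by decide +kernel

/-- The subgroup on eleven letters fixes the first point. -/
theorem eleven_fix {g : Cfsg.Spor.Fi24} (hg : g ∈ lgp im lamT) : g • p0 = p0 := by
  induction hg using Subgroup.closure_induction with
  | mem _ hy =>
    obtain ⟨x, hx, rfl⟩ := hy
    have h : x < 11 := (show ∀ x ∈ lamT, x < 11 by decide) x hx
    refine Fin.ext ?_
    rw [im_smul_val (by omega)]
    exact first_fixed ⟨x, h⟩
  | one => exact one_smul _ _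
  | mul a b _ _ ha hb => rw [mul_smul, hb, ha]
  | inv a _ ha => rw [inv_smul_eq_iff, ha]

end Cfsg.Lib.FiFour
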