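import Cfsg.Agent.FiFour.Nine
import Cfsg.Agent.FiFour.Restrict
import Cfsg.Agent.FiTwenty.Cover
import Cfsg.Agent.FiPres.Aut

/-!
The subgroup on eleven letters is twice the group on ten letters, and acts faithfully.
-/

set_option autoImplicit false
set_option maxRecDepth 100000

namespace Cfsg.Lib.FiFour

open Cfsg.Lib.CosetCert

attribute [local irreducible] rowF sevF lonF

theorem wval_const (u : ℤˣ) : ∀ w : List ℕ, wval (fun _ => u) w = u ^ w.length
  | [] => (pow_zero u).symm
  | x :: w => by rw [wval_cons, wval_const u w, List.length_cons, pow_succ']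

theorem words_even : (allWords.all fun w => w.length % 2 == 0) = true := by decide +kernel

theorem good_sign : Good fun _ => (-1 : ℤˣ) := fun w hw => by
  have := List.all_eq_true.1 words_even w hw
  rw [beq_iff_eq] at this
  rw [wval_const, Even.neg_one_pow (Nat.even_iff.2 this)]

/-- The sign of the presented group. -/
def chi : Cfsg.Spor.Fi24 →* ℤˣ := toGrp good_sign

theorem chi_im {x : ℕ} (hx : x < 12) : chi (im x) = -1 := toGrp_im good_sign hx

theorem chi_wval : ∀ {w : List ℕ}, (∀ l ∈ w, l < 12) → chi (wval im w) = (-1) ^ w.length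
  | [], _ => map_one chi
  | x :: w, h => by
    rw [wval_cons, map_mul, chi_im (h x List.mem_cons_self), chi_wval fun l hl => h l (List.mem_cons_of_mem x hl),
      List.length_cons, pow_succ']

theorem ten_ne : im 10 ≠ 1 := fun h => by
  have := chi_im (x := 10) (by norm_num)
  rw [h, map_one] at this
  exact absurd this (by decide)

/-- The image of the nine letters in the smaller group. -/
def lamO : List ℕ := [0, 1, 2, 3, 4, 5, 7, 8]

open Cfsg.Lib.FiPres in
theorem card_flip : Nat.card (lgp im10 lamO) = 4585351680 := by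
  have h1 : Nat.card (lgp im10 [1, 2, 3, 4, 5, 6, 7, 8]) = 4585351680 := by
    have := Subgroup.card_mul_index (lgp im10 [1, 2, 3, 4, 5, 6, 7, 8])
    rw [index_k, factG.1] at this
    omega
  rw [← h1, ← Subgroup.card_map_of_injective (K := lgp im10 [1, 2, 3, 4, 5, 6, 7, 8]) (f := symHom)
    (show Function.Injective symHom from symAut.injective)]
  refine congrArg (fun S : Subgroup Cfsg.Spor.Fi22 => Nat.card S) ?_
  rw [lgp, lgp, MonoidHom.map_closure]
  refine congrArg Subgroup.closure (Set.ext fun y => ?_)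
  have key : ∀ k < 9, symHom (im10 k) = im10 (symL k) := fun k hk => by
    rw [im10_low hk, im10_low (symL_facts ⟨k, hk⟩).1, symHom, Cfsg.Lib.FiPres.toGrp_im good_sym hk]
  constructor
  · rintro ⟨x, hx, rfl⟩
    obtain ⟨h9, hs⟩ := (show ∀ x ∈ lamO, symL x < 9 ∧ symL (symL x) = x ∧ symL x ∈ [1, 2, 3, 4, 5, 6, 7, 8] by decide) x hx
    exact ⟨im10 (symL x), ⟨symL x, hs.2, rfl⟩, by rw [key _ h9, hs.1]⟩
  · rintro ⟨_, ⟨x, hx, rfl⟩, rfl⟩
    obtain ⟨h9, hs⟩ := (show ∀ x ∈ [1, 2, 3, 4, 5, 6, 7, 8], x < 9 ∧ symL x ∈ lamO by decide) x hx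
    exact ⟨symL x, hs, (key _ h9).symm⟩

open Cfsg.Lib.FiTwenty in
theorem card_small : 4585351680 ≤ Nat.card (lgp imZ lamO) := by
  rw [← card_flip]
  let S : Subgroup (lgp imZ lamH) := (lgp imZ lamO).subgroupOf (lgp imZ lamH)
  have hsub : ∀ x ∈ lamO, x ∈ lamH := by decide
  have h1 : lgp Cfsg.Lib.FiPres.im10 lamO ≤ S.map Cfsg.Lib.FiTwenty.down := by
    refine (Subgroup.closure_le _).2 ?_
    rintro _ ⟨x, hx, rfl⟩
    exact ⟨⟨imZ x, lgp_mem imZ (hsub x hx)⟩, lgp_mem imZ hx, Cfsg.Lib.FiTwenty.down_eq (Cfsg.Lib.FiTwenty.agrees_gen (hsub x hx))⟩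
  refine (Nat.card_le_card_of_injective _ (Subgroup.inclusion_injective h1)).trans ?_
  refine (Nat.card_le_card_of_surjective _ (MonoidHom.subgroupMap_surjective _ S)).trans ?_
  exact (Nat.card_congr (Subgroup.subgroupOfEquivOfLe (lgp_mono imZ hsub)).toEquiv).le

theorem nine_le_eleven : lgp im lamM ≤ lgp im lamT := lgp_mono im (by decide)

theorem agrees_wval : ∀ {w : List ℕ}, (∀ l ∈ w, l < 10) →
    Agrees (wval im w) (wval Cfsg.Lib.FiTwenty.imZ w)
  | [], _ => agrees_one
  | x :: w, h => by
    rw [wval_cons, Cfsg.Lib.FiTwenty.wval_cons]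
    exact (agrees_low (h x List.mem_cons_self)).mul (agrees_wval fun l hl => h l (List.mem_cons_of_mem x hl))

theorem ten_mem_nine : im 10 ∈ lgp im lamM := lgp_mem im (by decide)

theorem nine_facts : Nat.card (lgp im lamM) = 9170703360 ∧
    ∀ g ∈ lgp im lamM, Agrees g 1 → g = 1 ∨ g = im 10 := by
  haveI := bound_nine.1
  let f : lgp im lamM →* Cfsg.Spor.Fi23 := down.comp (Subgroup.inclusion nine_le_eleven)
  have hr : lgp Cfsg.Lib.FiTwenty.imZ lamO ≤ f.range := by
    refine (Subgroup.closure_le _).2 ?_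
    rintro _ ⟨x, hx, rfl⟩
    obtain ⟨h10, hM⟩ := (show ∀ x ∈ lamO, x < 10 ∧ x ∈ lamM by decide) x hx
    exact ⟨⟨im x, lgp_mem im hM⟩, down_eq (agrees_low h10)⟩
  haveI : Finite f.range := Finite.of_surjective f.rangeRestrict f.rangeRestrict_surjective
  have h1 : 4585351680 ≤ Nat.card f.range :=
    card_small.trans (Nat.card_le_card_of_injective _ (Subgroup.inclusion_injective hr))
  have h2 : Nat.card f.ker * Nat.card f.range = Nat.card (lgp im lamM) := by
    rw [← Subgroup.index_ker, Subgroup.card_mul_index]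
  let t : f.ker := ⟨⟨im 10, ten_mem_nine⟩, down_eq agrees_ten⟩
  have ht : t ≠ 1 := fun e => ten_ne (congrArg (fun y : f.ker => y.1.1) e)
  haveI : Nontrivial f.ker := ⟨⟨t, 1, ht⟩⟩
  have h3 : 2 ≤ Nat.card f.ker := Finite.one_lt_card
  have h4 := bound_nine.2.1
  have h5 : Nat.card f.ker = 2 := by
    have := Nat.mul_le_mul_left (Nat.card f.ker) h1
    omega
  refine ⟨?_, fun g hg ha => ?_⟩
  · have := Nat.mul_le_mul_left 2 h1
    rw [h5] at h2
    omega
  · obtain ⟨y, -, hy⟩ := (Nat.card_eq_two_iff' (1 : f.ker)).1 h5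
    have hgk : (⟨g, hg⟩ : lgp im lamM) ∈ f.ker := down_eq ha
    by_cases he : g = 1
    · exact Or.inl he
    · refine Or.inr ?_
      have e1 := hy ⟨⟨g, hg⟩, hgk⟩ fun e => he (congrArg (fun y : f.ker => y.1.1) e)
      have e2 := hy t ht
      exact congrArg (fun y : f.ker => y.1.1) (e1.trans e2.symm)

theorem stab_ten {g : Cfsg.Spor.Fi24} (hg : g ∈ lgp im lamN) (hfix : g • p0 = p0) : g ∈ lgp im lamM :=
  stab_of_card nine_facts.1 hg hfix

/-- Repeating the nine letters of the spider ten times gives the identity. -/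
theorem spider : wval im (rpt 10 [3, 2, 1, 3, 4, 5, 3, 7, 8]) = 1 := by
  have hlt : ∀ l ∈ rpt 10 [3, 2, 1, 3, 4, 5, 3, 7, 8], l < 10 := by decide
  have ha := agrees_wval hlt
  rw [Cfsg.Lib.FiTwenty.wval_low hlt] at ha
  have e : wval Cfsg.Lib.FiTwenty.im (rpt 10 [3, 2, 1, 3, 4, 5, 3, 7, 8]) = 1 :=
    Cfsg.Lib.FiTwenty.good_im _ (List.mem_append_right _ List.mem_cons_self)
  rw [e] at ha
  rcases nine_facts.2 _ (lgp_wval im (by decide +kernel)) ha with h | h
  · exact h
  · have := congrArg chi h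
    rw [chi_wval (fun l hl => Nat.lt_of_lt_of_le (hlt l hl) (by norm_num)), chi_im (by norm_num)] at this
    exact absurd this (by decide)

theorem lab_ten : ∀ x : Fin 10, lab x.val 10 = 2 := by decide +kernel

theorem lab_low : ∀ x y : Fin 10, lab x.val y.val = Cfsg.Spor.coxLabel Cfsg.Spor.Fi23.edges
    (Cfsg.Lib.FiTwenty.genOf x.val) (Cfsg.Lib.FiTwenty.genOf y.val) := by decide +kernel

/-- The central letter in the subgroup on eleven letters. -/
def zT : lgp im lamT := ⟨im 10, lgp_mem im (by decide)⟩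

theorem zT_center : zT ∈ Subgroup.center (lgp im lamT) := by
  rw [Subgroup.mem_center_iff]
  rintro ⟨g, hg⟩
  refine Subtype.ext ?_
  show g * im 10 = im 10 * g
  induction hg using Subgroup.closure_induction with
  | mem _ hy =>
    obtain ⟨x, hx, rfl⟩ := hy
    have h : x < 11 := (show ∀ x ∈ lamT, x < 11 by decide) x hx
    rcases Nat.lt_or_ge x 10 with h10 | h10
    · exact good_im.comm (by omega) (by norm_num) (lab_ten ⟨x, h10⟩)
    · rw [show x = 10 by omega]
  | one => rw [one_mul, mul_one]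
  | mul a b _ _ ha hb => rw [mul_assoc, hb, ← mul_assoc, ha, mul_assoc]
  | inv a _ ha =>
    exact inv_mul_eq_of_eq_mul (by rw [← mul_assoc, ha, mul_assoc, mul_inv_cancel, mul_one])

theorem eleven_facts : Finite (lgp im lamT) ∧ Nat.card (lgp im lamT) = 8178940946586009600 ∧
    ∀ g : lgp im lamT, down g = 1 → g = 1 ∨ g = zT := by
  let N : Subgroup (lgp im lamT) := Subgroup.zpowers zT
  have hle : N ≤ Subgroup.center (lgp im lamT) := Subgroup.zpowers_le.2 zT_center
  haveI hn : N.Normal := ⟨fun n hn g => by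
    rw [Subgroup.mem_center_iff.1 (hle hn) g, mul_inv_cancel_right]
    exact hn⟩
  have hz2 : zT * zT = 1 := Subtype.ext (im_sq 10)
  have hzne : zT ≠ 1 := fun e => ten_ne (congrArg Subtype.val e)
  have hN : Nat.card N = 2 := by
    rw [Nat.card_zpowers]
    exact orderOf_eq_prime (by rw [sq]; exact hz2) hzne
  let F : ℕ → lgp im lamT ⧸ N := fun x =>
    if h : x ∈ lamT then QuotientGroup.mk ⟨im x, lgp_mem im h⟩ else 1
  have hF : ∀ x, (h : x < 10) → F x = QuotientGroup.mk' N ⟨im x, lgp_mem im
      ((show ∀ x < 10, x ∈ lamT by decide) x h)⟩ := fun x h => dif_pos ((show ∀ x < 10, x ∈ lamT by decide) x h)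
  have hFw : ∀ w : List ℕ, (∀ l ∈ w, l < 10) → ∀ g : lgp im lamT, g.1 = wval im w →
      wval F w = QuotientGroup.mk' N g := by
    intro w
    induction w with
    | nil =>
      intro _ g hg
      rw [show g = 1 from Subtype.ext hg, map_one]
      rfl
    | cons x w ih =>
      intro h g hg
      have hx := h x List.mem_cons_self
      have hw := fun l hl => h l (List.mem_cons_of_mem x hl)
      have hin : wval im w ∈ lgp im lamT := lgp_wval im (by
        simp only [inLetters, List.all_eq_true, List.contains_iff_mem]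
        exact fun l hl => (show ∀ x < 10, x ∈ lamT by decide) l (hw l hl))
      rw [wval_cons, hF x hx, ih hw ⟨wval im w, hin⟩ rfl, ← map_mul]
      exact congrArg _ (Subtype.ext (by rw [hg, wval_cons]; rfl))
  have hG : Cfsg.Lib.FiTwenty.Good F := by
    have low : ∀ v : List ℕ, (∀ l ∈ v, l < 10) → wval im v = 1 → wval F v = 1 := fun v hv e => by
      rw [hFw v hv 1 e.symm, map_one]
    intro w hw
    rcases List.mem_append.1 hw with hw | hw
    · obtain ⟨x, hx, hw⟩ := List.mem_flatMap.1 hw
      obtain ⟨y, hy, rfl⟩ := List.mem_map.1 hw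
      rw [List.mem_range] at hx hy
      have e : Cfsg.Lib.FiTwenty.pairWord x y = pairWord x y := by
        rw [pairWord, lab_low ⟨x, hx⟩ ⟨y, hy⟩]
        rfl
      rw [e]
      refine low _ (fun l hl => ?_) (good_im.pair_word (by omega) (by omega))
      rw [pairWord, rpt, List.mem_flatten] at hl
      obtain ⟨u, hu, hl⟩ := hl
      rw [List.eq_of_mem_replicate hu] at hl
      simp only [List.mem_cons, List.mem_nil_iff, or_false] at hl
      rcases hl with rfl | rfl <;> assumption
    · simp only [Cfsg.Lib.FiTwenty.extraWords, List.mem_cons, List.mem_nil_iff, or_false] at hw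
      rcases hw with rfl | rfl
      · exact low _ (by decide) spider
      · have hin : wval im (rpt 9 sevenBase) ∈ lgp im lamT := lgp_wval im (by decide +kernel)
        show wval F (rpt 9 sevenBase) = 1
        rw [hFw _ (by decide) ⟨_, hin⟩ rfl, QuotientGroup.mk'_apply, QuotientGroup.eq_one_iff]
        refine Subgroup.mem_zpowers_iff.2 ⟨1, Subtype.ext ?_⟩
        rw [zpow_one]
        show im 10 = wval im (rpt 9 sevenBase)
        rw [wval_rpt]
        exact good_im.centre
  let ρ : Cfsg.Spor.Fi23 →* lgp im lamT ⧸ N := Cfsg.Lib.FiTwenty.toGrp hG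
  have hρ : Function.Surjective ρ := by
    rw [← MonoidHom.range_eq_top]
    refine top_le_iff.1 ?_
    rintro q -
    obtain ⟨⟨g, hg⟩, rfl⟩ := QuotientGroup.mk'_surjective N q
    have key : ∀ y, (hy : y ∈ lgp im lamT) → QuotientGroup.mk' N ⟨y, hy⟩ ∈ ρ.range := by
      intro y hy
      induction hy using Subgroup.closure_induction with
      | mem _ hy =>
        obtain ⟨x, hx, rfl⟩ := hy
        have h : x < 11 := (show ∀ x ∈ lamT, x < 11 by decide) x hx
        rcases Nat.lt_or_ge x 10 with h10 | h10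
        · exact ⟨Cfsg.Lib.FiTwenty.im x, (Cfsg.Lib.FiTwenty.toGrp_im hG h10).trans (hF x h10)⟩
        · obtain rfl : x = 10 := by omega
          refine ⟨1, ?_⟩
          rw [map_one, eq_comm, QuotientGroup.mk'_apply, QuotientGroup.eq_one_iff]
          exact Subgroup.mem_zpowers zT
      | one => exact one_mem ρ.range
      | mul a b ha hb iha ihb => exact mul_mem (iha) (ihb)
      | inv a ha iha => exact inv_mem iha
    exact key g hg
  haveI : Finite (lgp im lamT ⧸ N) := Finite.of_surjective ρ hρ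
  haveI : Finite N := Nat.finite_of_card_ne_zero (by omega)
  haveI : Finite (lgp im lamT) := Finite.of_equiv _ N.groupEquivQuotientProdSubgroup.symm
  have h1 : Nat.card (lgp im lamT) ≤ 2 * 4089470473293004800 := by
    rw [Subgroup.card_eq_card_quotient_mul_card_subgroup N, hN, mul_comm]
    exact Nat.mul_le_mul_left 2 (Cfsg.Lib.FiTwenty.faithful_all.1 ▸ Nat.card_le_card_of_surjective ρ hρ)
  have h2 : Nat.card down.ker * 4089470473293004800 = Nat.card (lgp im lamT) := by
    rw [← Cfsg.Lib.FiTwenty.faithful_all.1,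
      ← Nat.card_congr (QuotientGroup.quotientKerEquivOfSurjective down down_surjective).toEquiv, mul_comm,
      ← Subgroup.card_eq_card_quotient_mul_card_subgroup]
  let t : down.ker := ⟨zT, down_eq agrees_ten⟩
  have ht : t ≠ 1 := fun e => hzne (congrArg Subtype.val e)
  haveI : Nontrivial down.ker := ⟨⟨t, 1, ht⟩⟩
  have h3 : 2 ≤ Nat.card down.ker := Finite.one_lt_card
  have h5 : Nat.card down.ker = 2 :=
    le_antisymm (Nat.le_of_mul_le_mul_right (h2.le.trans h1) (by norm_num)) h3
  refine ⟨inferInstance, h2.symm.trans ((congrArg (fun n => n * 4089470473293004800) h5).trans (by norm_num)), fun g hg => ?_⟩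
  obtain ⟨y, -, hy⟩ := (Nat.card_eq_two_iff' (1 : down.ker)).1 h5
  by_cases he : g = 1
  · exact Or.inl he
  · exact Or.inr (congrArg Subtype.val ((hy ⟨g, hg⟩ fun e => he (congrArg Subtype.val e)).trans (hy t ht).symm))

instance finite_eleven : Finite (lgp im lamT) := eleven_facts.1

theorem ten_moves : Nat.beq (mv 10 31672) 31672 = false := by decide +kernel

/-- The subgroup on eleven letters acts faithfully. -/
theorem eleven_faithful : ∀ g ∈ lgp im lamT, psiF g = 1 → g = 1 := by
  intro g hg h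
  have ha : Agrees g 1 := fun i => by
    rw [map_one, smul_pts, h]
    rfl
  rcases eleven_facts.2.2 ⟨g, hg⟩ (down_eq ha) with e | e
  · exact congrArg Subtype.val e
  · have e' : g = im 10 := congrArg Subtype.val e
    have h2 := congrArg Fin.val (Equiv.Perm.ext_iff.1 h ⟨31672, by norm_num⟩)
    rw [e', psiF_im_val (by norm_num)] at h2
    change mv 10 31672 = 31672 at h2
    have := ten_moves
    rw [h2] at this
    exact absurd this (by decide)

end Cfsg.Lib.FiFour
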