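import Cfsg.Agent.FiFour.Test
import Cfsg.Agent.FiFour.CoverData

/-!
Every point moves towards one of eight seeds by letters commuting with the special one.
-/

set_option autoImplicit false
set_option Elab.async false
set_option maxRecDepth 100000

namespace Cfsg.Lib.FiFour

open Cfsg.Lib.ONPres (force)

/-- The seeds. -/
def seedPts : List ℕ := [31672, 31673, 60104, 60105, 88536, 8007, 11590, 23116]

/-- A seed, or an earlier point next to it. -/
noncomputable def descC (p : ℕ) : Bool :=
  seedPts.any (fun s => Nat.beq p s) ||
    force (rowF p) fun e => [1, 2, 3, 4, 5, 6, 7, 8, 9].any fun x => Nat.ble 31672 (fx e x) && Nat.ble (Nat.succ (fx e x)) p

/-- Follow the pointers to a seed. -/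
noncomputable def toSeed (L : List ℕ) : ℕ → ℕ → Bool
  | 0, _ => false
  | f + 1, p => L.any (fun s => Nat.beq p s) ||
      force (Nat.land (Nat.shiftRight ptrTab (Nat.mul 4 p)) 15) fun x =>
        Nat.ble 1 x && Nat.ble x 9 && force (mv x p) fun q => toSeed L f q

/-- The test on a point of the smaller suborbit. -/
noncomputable def seedB (p : ℕ) : Bool := toSeed seedPts 50 p

theorem descC_0 : allB descC 5000 31672 = true := by decide +kernel

theorem descC_1 : allB descC 5000 36672 = true := by decide +kernel

theorem descC_2 : allB descC 5000 41672 = true := by decide +kernel

theorem descC_3 : allB descC 5000 46672 = true := by decide +kernel

theorem descC_4 : allB descC 5000 51672 = true := by decide +kernel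

theorem descC_5 : allB descC 5000 56672 = true := by decide +kernel

theorem descC_6 : allB descC 5000 61672 = true := by decide +kernel

theorem descC_7 : allB descC 5000 66672 = true := by decide +kernel

theorem descC_8 : allB descC 5000 71672 = true := by decide +kernel

theorem descC_9 : allB descC 5000 76672 = true := by decide +kernel

theorem descC_10 : allB descC 5000 81672 = true := by decide +kernel

theorem descC_11 : allB descC 5000 86672 = true := by decide +kernel

theorem descC_12 : allB descC 5000 91672 = true := by decide +kernel

theorem descC_13 : allB descC 5000 96672 = true := by decide +kernel

theorem descC_14 : allB descC 5000 101672 = true := by decide +kernel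

theorem descC_15 : allB descC 5000 106672 = true := by decide +kernel

theorem descC_16 : allB descC 5000 111672 = true := by decide +kernel

theorem descC_17 : allB descC 5000 116672 = true := by decide +kernel

theorem descC_18 : allB descC 5000 121672 = true := by decide +kernel

theorem descC_19 : allB descC 5000 126672 = true := by decide +kernel

theorem descC_20 : allB descC 5000 131672 = true := by decide +kernel

theorem descC_21 : allB descC 5000 136672 = true := by decide +kernel

theorem descC_22 : allB descC 5000 141672 = true := by decide +kernel

theorem descC_23 : allB descC 5000 146672 = true := by decide +kernel

theorem descC_24 : allB descC 5000 151672 = true := by decide +kernel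

theorem descC_25 : allB descC 5000 156672 = true := by decide +kernel

theorem descC_26 : allB descC 5000 161672 = true := by decide +kernel

theorem descC_27 : allB descC 5000 166672 = true := by decide +kernel

theorem descC_28 : allB descC 5000 171672 = true := by decide +kernel

theorem descC_29 : allB descC 5000 176672 = true := by decide +kernel

theorem descC_30 : allB descC 5000 181672 = true := by decide +kernel

theorem descC_31 : allB descC 5000 186672 = true := by decide +kernel

theorem descC_32 : allB descC 5000 191672 = true := by decide +kernel

theorem descC_33 : allB descC 5000 196672 = true := by decide +kernel

theorem descC_34 : allB descC 5000 201672 = true := by decide +kernel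

theorem descC_35 : allB descC 5000 206672 = true := by decide +kernel

theorem descC_36 : allB descC 5000 211672 = true := by decide +kernel

theorem descC_37 : allB descC 5000 216672 = true := by decide +kernel

theorem descC_38 : allB descC 5000 221672 = true := by decide +kernel

theorem descC_39 : allB descC 5000 226672 = true := by decide +kernel

theorem descC_40 : allB descC 5000 231672 = true := by decide +kernel

theorem descC_41 : allB descC 5000 236672 = true := by decide +kernel

theorem descC_42 : allB descC 5000 241672 = true := by decide +kernel

theorem descC_43 : allB descC 5000 246672 = true := by decide +kernel

theorem descC_44 : allB descC 5000 251672 = true := by decide +kernel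

theorem descC_45 : allB descC 5000 256672 = true := by decide +kernel

theorem descC_46 : allB descC 5000 261672 = true := by decide +kernel

theorem descC_47 : allB descC 5000 266672 = true := by decide +kernel

theorem descC_48 : allB descC 5000 271672 = true := by decide +kernel

theorem descC_49 : allB descC 5000 276672 = true := by decide +kernel

theorem descC_50 : allB descC 5000 281672 = true := by decide +kernel

theorem descC_51 : allB descC 5000 286672 = true := by decide +kernel

theorem descC_52 : allB descC 5000 291672 = true := by decide +kernel

theorem descC_53 : allB descC 5000 296672 = true := by decide +kernel

theorem descC_54 : allB descC 5000 301672 = true := by decide +kernel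

theorem descC_55 : allB descC 264 306672 = true := by decide +kernel

theorem descC_ok (i : ℕ) (h1 : 31672 ≤ i) (h : i < 306936) : descC i = true := by
  rcases Nat.lt_or_ge i 171672 with h28 | h28
  ·
    rcases Nat.lt_or_ge i 101672 with h14 | h14
    ·
      rcases Nat.lt_or_ge i 66672 with h7 | h7
      ·
        rcases Nat.lt_or_ge i 46672 with h3 | h3
        ·
          rcases Nat.lt_or_ge i 36672 with h1 | h1
          ·
            exact allB_sound descC_0 i (by omega) (by omega)
          ·
            rcases Nat.lt_or_ge i 41672 with h2 | h2
            ·
              exact allB_sound descC_1 i (by omega) (by omega)
            ·
              exact allB_sound descC_2 i (by omega) (by omega)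
        ·
          rcases Nat.lt_or_ge i 56672 with h5 | h5
          ·
            rcases Nat.lt_or_ge i 51672 with h4 | h4
            ·
              exact allB_sound descC_3 i (by omega) (by omega)
            ·
              exact allB_sound descC_4 i (by omega) (by omega)
          ·
            rcases Nat.lt_or_ge i 61672 with h6 | h6
            ·
              exact allB_sound descC_5 i (by omega) (by omega)
            ·
              exact allB_sound descC_6 i (by omega) (by omega)
      ·
        rcases Nat.lt_or_ge i 81672 with h10 | h10
        ·
          rcases Nat.lt_or_ge i 71672 with h8 | h8
          ·
            exact allB_sound descC_7 i (by omega) (by omega)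
          ·
            rcases Nat.lt_or_ge i 76672 with h9 | h9
            ·
              exact allB_sound descC_8 i (by omega) (by omega)
            ·
              exact allB_sound descC_9 i (by omega) (by omega)
        ·
          rcases Nat.lt_or_ge i 91672 with h12 | h12
          ·
            rcases Nat.lt_or_ge i 86672 with h11 | h11
            ·
              exact allB_sound descC_10 i (by omega) (by omega)
            ·
              exact allB_sound descC_11 i (by omega) (by omega)
          ·
            rcases Nat.lt_or_ge i 96672 with h13 | h13
            ·
              exact allB_sound descC_12 i (by omega) (by omega)
            ·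
              exact allB_sound descC_13 i (by omega) (by omega)
    ·
      rcases Nat.lt_or_ge i 136672 with h21 | h21
      ·
        rcases Nat.lt_or_ge i 116672 with h17 | h17
        ·
          rcases Nat.lt_or_ge i 106672 with h15 | h15
          ·
            exact allB_sound descC_14 i (by omega) (by omega)
          ·
            rcases Nat.lt_or_ge i 111672 with h16 | h16
            ·
              exact allB_sound descC_15 i (by omega) (by omega)
            ·
              exact allB_sound descC_16 i (by omega) (by omega)
        ·
          rcases Nat.lt_or_ge i 126672 with h19 | h19
          ·
            rcases Nat.lt_or_ge i 121672 with h18 | h18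
            ·
              exact allB_sound descC_17 i (by omega) (by omega)
            ·
              exact allB_sound descC_18 i (by omega) (by omega)
          ·
            rcases Nat.lt_or_ge i 131672 with h20 | h20
            ·
              exact allB_sound descC_19 i (by omega) (by omega)
            ·
              exact allB_sound descC_20 i (by omega) (by omega)
      ·
        rcases Nat.lt_or_ge i 151672 with h24 | h24
        ·
          rcases Nat.lt_or_ge i 141672 with h22 | h22
          ·
            exact allB_sound descC_21 i (by omega) (by omega)
          ·
            rcases Nat.lt_or_ge i 146672 with h23 | h23
            ·
              exact allB_sound descC_22 i (by omega) (by omega)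
            ·
              exact allB_sound descC_23 i (by omega) (by omega)
        ·
          rcases Nat.lt_or_ge i 161672 with h26 | h26
          ·
            rcases Nat.lt_or_ge i 156672 with h25 | h25
            ·
              exact allB_sound descC_24 i (by omega) (by omega)
            ·
              exact allB_sound descC_25 i (by omega) (by omega)
          ·
            rcases Nat.lt_or_ge i 166672 with h27 | h27
            ·
              exact allB_sound descC_26 i (by omega) (by omega)
            ·
              exact allB_sound descC_27 i (by omega) (by omega)
  ·
    rcases Nat.lt_or_ge i 241672 with h42 | h42
    ·
      rcases Nat.lt_or_ge i 206672 with h35 | h35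
      ·
        rcases Nat.lt_or_ge i 186672 with h31 | h31
        ·
          rcases Nat.lt_or_ge i 176672 with h29 | h29
          ·
            exact allB_sound descC_28 i (by omega) (by omega)
          ·
            rcases Nat.lt_or_ge i 181672 with h30 | h30
            ·
              exact allB_sound descC_29 i (by omega) (by omega)
            ·
              exact allB_sound descC_30 i (by omega) (by omega)
        ·
          rcases Nat.lt_or_ge i 196672 with h33 | h33
          ·
            rcases Nat.lt_or_ge i 191672 with h32 | h32
            ·
              exact allB_sound descC_31 i (by omega) (by omega)
            ·
              exact allB_sound descC_32 i (by omega) (by omega)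
          ·
            rcases Nat.lt_or_ge i 201672 with h34 | h34
            ·
              exact allB_sound descC_33 i (by omega) (by omega)
            ·
              exact allB_sound descC_34 i (by omega) (by omega)
      ·
        rcases Nat.lt_or_ge i 221672 with h38 | h38
        ·
          rcases Nat.lt_or_ge i 211672 with h36 | h36
          ·
            exact allB_sound descC_35 i (by omega) (by omega)
          ·
            rcases Nat.lt_or_ge i 216672 with h37 | h37
            ·
              exact allB_sound descC_36 i (by omega) (by omega)
            ·
              exact allB_sound descC_37 i (by omega) (by omega)
        ·
          rcases Nat.lt_or_ge i 231672 with h40 | h40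
          ·
            rcases Nat.lt_or_ge i 226672 with h39 | h39
            ·
              exact allB_sound descC_38 i (by omega) (by omega)
            ·
              exact allB_sound descC_39 i (by omega) (by omega)
          ·
            rcases Nat.lt_or_ge i 236672 with h41 | h41
            ·
              exact allB_sound descC_40 i (by omega) (by omega)
            ·
              exact allB_sound descC_41 i (by omega) (by omega)
    ·
      rcases Nat.lt_or_ge i 276672 with h49 | h49
      ·
        rcases Nat.lt_or_ge i 256672 with h45 | h45
        ·
          rcases Nat.lt_or_ge i 246672 with h43 | h43
          ·
            exact allB_sound descC_42 i (by omega) (by omega)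
          ·
            rcases Nat.lt_or_ge i 251672 with h44 | h44
            ·
              exact allB_sound descC_43 i (by omega) (by omega)
            ·
              exact allB_sound descC_44 i (by omega) (by omega)
        ·
          rcases Nat.lt_or_ge i 266672 with h47 | h47
          ·
            rcases Nat.lt_or_ge i 261672 with h46 | h46
            ·
              exact allB_sound descC_45 i (by omega) (by omega)
            ·
              exact allB_sound descC_46 i (by omega) (by omega)
          ·
            rcases Nat.lt_or_ge i 271672 with h48 | h48
            ·
              exact allB_sound descC_47 i (by omega) (by omega)
            ·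
              exact allB_sound descC_48 i (by omega) (by omega)
      ·
        rcases Nat.lt_or_ge i 291672 with h52 | h52
        ·
          rcases Nat.lt_or_ge i 281672 with h50 | h50
          ·
            exact allB_sound descC_49 i (by omega) (by omega)
          ·
            rcases Nat.lt_or_ge i 286672 with h51 | h51
            ·
              exact allB_sound descC_50 i (by omega) (by omega)
            ·
              exact allB_sound descC_51 i (by omega) (by omega)
        ·
          rcases Nat.lt_or_ge i 301672 with h54 | h54
          ·
            rcases Nat.lt_or_ge i 296672 with h53 | h53
            ·
              exact allB_sound descC_52 i (by omega) (by omega)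
            ·
              exact allB_sound descC_53 i (by omega) (by omega)
          ·
            rcases Nat.lt_or_ge i 306672 with h55 | h55
            ·
              exact allB_sound descC_54 i (by omega) (by omega)
            ·
              exact allB_sound descC_55 i (by omega) (by omega)

theorem seedB_0 : allB seedB 1000 1 = true := by decide +kernel

theorem seedB_1 : allB seedB 1000 1001 = true := by decide +kernel

theorem seedB_2 : allB seedB 1000 2001 = true := by decide +kernel

theorem seedB_3 : allB seedB 1000 3001 = true := by decide +kernel

theorem seedB_4 : allB seedB 1000 4001 = true := by decide +kernel

theorem seedB_5 : allB seedB 1000 5001 = true := by decide +kernel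

theorem seedB_6 : allB seedB 1000 6001 = true := by decide +kernel

theorem seedB_7 : allB seedB 1000 7001 = true := by decide +kernel

theorem seedB_8 : allB seedB 1000 8001 = true := by decide +kernel

theorem seedB_9 : allB seedB 1000 9001 = true := by decide +kernel

theorem seedB_10 : allB seedB 1000 10001 = true := by decide +kernel

theorem seedB_11 : allB seedB 1000 11001 = true := by decide +kernel

theorem seedB_12 : allB seedB 1000 12001 = true := by decide +kernel

theorem seedB_13 : allB seedB 1000 13001 = true := by decide +kernel

theorem seedB_14 : allB seedB 1000 14001 = true := by decide +kernel

theorem seedB_15 : allB seedB 1000 15001 = true := by decide +kernel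

theorem seedB_16 : allB seedB 1000 16001 = true := by decide +kernel

theorem seedB_17 : allB seedB 1000 17001 = true := by decide +kernel

theorem seedB_18 : allB seedB 1000 18001 = true := by decide +kernel

theorem seedB_19 : allB seedB 1000 19001 = true := by decide +kernel

theorem seedB_20 : allB seedB 1000 20001 = true := by decide +kernel

theorem seedB_21 : allB seedB 1000 21001 = true := by decide +kernel

theorem seedB_22 : allB seedB 1000 22001 = true := by decide +kernel

theorem seedB_23 : allB seedB 1000 23001 = true := by decide +kernel

theorem seedB_24 : allB seedB 1000 24001 = true := by decide +kernel

theorem seedB_25 : allB seedB 1000 25001 = true := by decide +kernel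

theorem seedB_26 : allB seedB 1000 26001 = true := by decide +kernel

theorem seedB_27 : allB seedB 1000 27001 = true := by decide +kernel

theorem seedB_28 : allB seedB 1000 28001 = true := by decide +kernel

theorem seedB_29 : allB seedB 1000 29001 = true := by decide +kernel

theorem seedB_30 : allB seedB 1000 30001 = true := by decide +kernel

theorem seedB_31 : allB seedB 671 31001 = true := by decide +kernel

theorem seedB_ok (i : ℕ) (h1 : 1 ≤ i) (h : i < 31672) : seedB i = true := by
  rcases Nat.lt_or_ge i 16001 with h16 | h16
  ·
    rcases Nat.lt_or_ge i 8001 with h8 | h8
    ·
      rcases Nat.lt_or_ge i 4001 with h4 | h4
      ·
        rcases Nat.lt_or_ge i 2001 with h2 | h2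
        ·
          rcases Nat.lt_or_ge i 1001 with h1 | h1
          ·
            exact allB_sound seedB_0 i (by omega) (by omega)
          ·
            exact allB_sound seedB_1 i (by omega) (by omega)
        ·
          rcases Nat.lt_or_ge i 3001 with h3 | h3
          ·
            exact allB_sound seedB_2 i (by omega) (by omega)
          ·
            exact allB_sound seedB_3 i (by omega) (by omega)
      ·
        rcases Nat.lt_or_ge i 6001 with h6 | h6
        ·
          rcases Nat.lt_or_ge i 5001 with h5 | h5
          ·
            exact allB_sound seedB_4 i (by omega) (by omega)
          ·
            exact allB_sound seedB_5 i (by omega) (by omega)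
        ·
          rcases Nat.lt_or_ge i 7001 with h7 | h7
          ·
            exact allB_sound seedB_6 i (by omega) (by omega)
          ·
            exact allB_sound seedB_7 i (by omega) (by omega)
    ·
      rcases Nat.lt_or_ge i 12001 with h12 | h12
      ·
        rcases Nat.lt_or_ge i 10001 with h10 | h10
        ·
          rcases Nat.lt_or_ge i 9001 with h9 | h9
          ·
            exact allB_sound seedB_8 i (by omega) (by omega)
          ·
            exact allB_sound seedB_9 i (by omega) (by omega)
        ·
          rcases Nat.lt_or_ge i 11001 with h11 | h11
          ·
            exact allB_sound seedB_10 i (by omega) (by omega)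
          ·
            exact allB_sound seedB_11 i (by omega) (by omega)
      ·
        rcases Nat.lt_or_ge i 14001 with h14 | h14
        ·
          rcases Nat.lt_or_ge i 13001 with h13 | h13
          ·
            exact allB_sound seedB_12 i (by omega) (by omega)
          ·
            exact allB_sound seedB_13 i (by omega) (by omega)
        ·
          rcases Nat.lt_or_ge i 15001 with h15 | h15
          ·
            exact allB_sound seedB_14 i (by omega) (by omega)
          ·
            exact allB_sound seedB_15 i (by omega) (by omega)
  ·
    rcases Nat.lt_or_ge i 24001 with h24 | h24
    ·
      rcases Nat.lt_or_ge i 20001 with h20 | h20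
      ·
        rcases Nat.lt_or_ge i 18001 with h18 | h18
        ·
          rcases Nat.lt_or_ge i 17001 with h17 | h17
          ·
            exact allB_sound seedB_16 i (by omega) (by omega)
          ·
            exact allB_sound seedB_17 i (by omega) (by omega)
        ·
          rcases Nat.lt_or_ge i 19001 with h19 | h19
          ·
            exact allB_sound seedB_18 i (by omega) (by omega)
          ·
            exact allB_sound seedB_19 i (by omega) (by omega)
      ·
        rcases Nat.lt_or_ge i 22001 with h22 | h22
        ·
          rcases Nat.lt_or_ge i 21001 with h21 | h21
          ·
            exact allB_sound seedB_20 i (by omega) (by omega)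
          ·
            exact allB_sound seedB_21 i (by omega) (by omega)
        ·
          rcases Nat.lt_or_ge i 23001 with h23 | h23
          ·
            exact allB_sound seedB_22 i (by omega) (by omega)
          ·
            exact allB_sound seedB_23 i (by omega) (by omega)
    ·
      rcases Nat.lt_or_ge i 28001 with h28 | h28
      ·
        rcases Nat.lt_or_ge i 26001 with h26 | h26
        ·
          rcases Nat.lt_or_ge i 25001 with h25 | h25
          ·
            exact allB_sound seedB_24 i (by omega) (by omega)
          ·
            exact allB_sound seedB_25 i (by omega) (by omega)
        ·
          rcases Nat.lt_or_ge i 27001 with h27 | h27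
          ·
            exact allB_sound seedB_26 i (by omega) (by omega)
          ·
            exact allB_sound seedB_27 i (by omega) (by omega)
      ·
        rcases Nat.lt_or_ge i 30001 with h30 | h30
        ·
          rcases Nat.lt_or_ge i 29001 with h29 | h29
          ·
            exact allB_sound seedB_28 i (by omega) (by omega)
          ·
            exact allB_sound seedB_29 i (by omega) (by omega)
        ·
          rcases Nat.lt_or_ge i 31001 with h31 | h31
          ·
            exact allB_sound seedB_30 i (by omega) (by omega)
          ·
            exact allB_sound seedB_31 i (by omega) (by omega)

end Cfsg.Lib.FiFour
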