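import Cfsg.Agent.FiFour.Stabs
import Cfsg.Agent.FiFour.DescC

/-!
The subgroup on eleven letters is the stabiliser of the first point and has index 306936.
-/

set_option autoImplicit false
set_option maxRecDepth 100000

namespace Cfsg.Lib.FiFour

open Cfsg.Lib.CosetCert
open Cfsg.Lib.ONPres (force_eq)

attribute [local irreducible] rowF sevF lonF blkMask ptrTab

theorem k_point : (im 11)⁻¹ • p0 = pA := Fin.ext (by
  rw [special_inv, im_smul_val (by norm_num)]
  show mv 11 0 = 31672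
  decide +kernel)

/-- The subgroup keeps the smaller suborbit. -/
theorem small_iff {g : Cfsg.Spor.Fi24} (hg : g ∈ lgp im lamT) (p : Pts) :
    (1 ≤ (g • p : Pts).val ∧ (g • p : Pts).val ≤ 31671) ↔ (1 ≤ p.val ∧ p.val ≤ 31671) := by
  have key : ∀ {a : Cfsg.Spor.Fi24}, a ∈ lgp im lamT → ∀ p : Pts, 1 ≤ p.val ∧ p.val ≤ 31671 →
      1 ≤ (a • p : Pts).val ∧ (a • p : Pts).val ≤ 31671 := by
    intro a ha p ⟨h1, h2⟩
    have e : p = emb ⟨p.val - 1, by omega⟩ := Fin.ext (show p.val = p.val - 1 + 1 by omega)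
    rw [e, down_agrees ⟨a, ha⟩]
    exact ⟨Nat.le_add_left 1 _, Fin.isLt _⟩
  refine ⟨fun h => ?_, key hg p⟩
  have := key (inv_mem hg) _ h
  rwa [inv_smul_smul] at this

/-- The elements reached by at most two double cosets besides the subgroup. -/
def InU (x : Cfsg.Spor.Fi24) : Prop :=
  x ∈ lgp im lamT ∨ (∃ a ∈ lgp im lamT, ∃ b ∈ lgp im lamT, x = a * im 11 * b) ∨
    ∃ a ∈ lgp im lamT, ∃ b ∈ lgp im lamT, x = a * gE * b

theorem InU.mul_right {x h : Cfsg.Spor.Fi24} (hx : InU x) (hh : h ∈ lgp im lamT) : InU (x * h) := by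
  rcases hx with hx | ⟨a, ha, b, hb, rfl⟩ | ⟨a, ha, b, hb, rfl⟩
  · exact Or.inl (mul_mem hx hh)
  · exact Or.inr (Or.inl ⟨a, ha, b * h, mul_mem hb hh, by simp only [mul_assoc]⟩)
  · exact Or.inr (Or.inr ⟨a, ha, b * h, mul_mem hb hh, by simp only [mul_assoc]⟩)

theorem InU.mul_left {x h : Cfsg.Spor.Fi24} (hx : InU x) (hh : h ∈ lgp im lamT) : InU (h * x) := by
  rcases hx with hx | ⟨a, ha, b, hb, rfl⟩ | ⟨a, ha, b, hb, rfl⟩
  · exact Or.inl (mul_mem hh hx)
  · exact Or.inr (Or.inl ⟨h * a, mul_mem hh ha, b, hb, by simp only [mul_assoc]⟩)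
  · exact Or.inr (Or.inr ⟨h * a, mul_mem hh ha, b, hb, by simp only [mul_assoc]⟩)

theorem InU.kind {x : Cfsg.Spor.Fi24} (hx : InU x) :
    (x ∈ lgp im lamT ∧ (x⁻¹ • p0 : Pts).val = 0) ∨
    (∃ a ∈ lgp im lamT, ∃ b ∈ lgp im lamT, x = a * im 11 * b ∧ 31672 ≤ (x⁻¹ • p0 : Pts).val ∧
      x⁻¹ • p0 = b⁻¹ • pA) ∨
    (∃ a ∈ lgp im lamT, ∃ b ∈ lgp im lamT, x = a * gE * b ∧ 1 ≤ (x⁻¹ • p0 : Pts).val ∧
      (x⁻¹ • p0 : Pts).val ≤ 31671 ∧ x⁻¹ • p0 = b⁻¹ • pQ) := by
  rcases hx with hx | ⟨a, ha, b, hb, rfl⟩ | ⟨a, ha, b, hb, rfl⟩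
  · exact Or.inl ⟨hx, by rw [eleven_fix (inv_mem hx)]; rfl⟩
  · have e : (a * im 11 * b)⁻¹ • p0 = b⁻¹ • pA := by
      rw [mul_inv_rev, mul_inv_rev, mul_smul, mul_smul, eleven_fix (inv_mem ha), k_point]
    refine Or.inr (Or.inl ⟨a, ha, b, hb, rfl, ?_, e⟩)
    rw [e]
    by_contra hc
    by_cases h0 : (b⁻¹ • pA : Pts).val = 0
    · have e0 : b⁻¹ • pA = p0 := Fin.ext h0
      rw [inv_smul_eq_iff, eleven_fix hb] at e0
      exact absurd (congrArg Fin.val e0) (show (31672 : ℕ) ≠ 0 by norm_num)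
    · have := (small_iff (inv_mem hb) pA).1 ⟨by omega, by omega⟩
      exact absurd this.2 (show ¬ (31672 : ℕ) ≤ 31671 by norm_num)
  · have e : (a * gE * b)⁻¹ • p0 = b⁻¹ • pQ := by
      rw [mul_inv_rev, mul_inv_rev, mul_smul, mul_smul, eleven_fix (inv_mem ha), gE_point]
    have := (small_iff (inv_mem hb) pQ).2 ⟨show 1 ≤ 11590 by norm_num, show 11590 ≤ 31671 by norm_num⟩
    exact Or.inr (Or.inr ⟨a, ha, b, hb, rfl, e ▸ this.1, e ▸ this.2, e⟩)

/-- Two of them at the same point differ by the subgroup. -/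
theorem InU.same {x y : Cfsg.Spor.Fi24} (hx : InU x) (hy : InU y) (e : x⁻¹ • p0 = y⁻¹ • p0) :
    x * y⁻¹ ∈ lgp im lamT := by
  have ev := congrArg Fin.val e
  rcases hx.kind with ⟨h1, v1⟩ | ⟨a, ha, b, hb, rfl, v1, e1⟩ | ⟨a, ha, b, hb, rfl, v1, w1, e1⟩ <;>
    rcases hy.kind with ⟨h2, v2⟩ | ⟨c, hc, d, hd, rfl, v2, e2⟩ | ⟨c, hc, d, hd, rfl, v2, w2, e2⟩ <;>
    try (exfalso; omega)
  · exact mul_mem h1 (inv_mem h2)
  · have hfix : (b * d⁻¹) • pA = pA := by rw [mul_smul, ← e2, ← e, e1, smul_inv_smul]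
    have := kept_special (mul_mem hb (inv_mem hd)) hfix
    have e' : a * im 11 * b * (c * im 11 * d)⁻¹ = a * (im 11 * (b * d⁻¹) * im 11) * c⁻¹ := by
      simp only [mul_inv_rev, special_inv, mul_assoc]
    rw [e']
    exact mul_mem (mul_mem ha this) (inv_mem hc)
  · have hfix : (b * d⁻¹) • pQ = pQ := by rw [mul_smul, ← e2, ← e, e1, smul_inv_smul]
    have := kept_small (mul_mem hb (inv_mem hd)) hfix
    have e' : a * gE * b * (c * gE * d)⁻¹ = a * (gE * (b * d⁻¹) * gE⁻¹) * c⁻¹ := by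
      simp only [mul_inv_rev, mul_assoc]
    rw [e']
    exact mul_mem (mul_mem ha this) (inv_mem hc)

/-- The special letter keeps the elements at a point among them. -/
def Kept (p : ℕ) : Prop := ∀ x, InU x → (x⁻¹ • p0 : Pts).val = p → InU (x * im 11)

theorem point_mul {x : Cfsg.Spor.Fi24} {c : ℕ} (hc : c < 12) :
    ((x * im c)⁻¹ • p0 : Pts).val = mv c (x⁻¹ • p0 : Pts).val := by
  rw [mul_inv_rev, mul_smul, inv_eq_of_mul_eq_one_left (im_sq c), im_smul_val hc]

theorem Kept.move {p : ℕ} {c : ℕ} (hc1 : 1 ≤ c) (hc : c ≤ 9) (hp : p < 306936) (h : Kept (mv c p)) : Kept p := by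
  intro x hx e
  have hc12 : c < 12 := by omega
  have h1 : InU (x * im c) := hx.mul_right (lgp_mem im (eleven_val (by omega)))
  have h2 := (h _ h1 (by rw [point_mul hc12, e])).mul_right (lgp_mem im (eleven_val (x := c) (by omega)))
  have hC : im c ∈ lgp im lamC := lgp_mem im ((show ∀ x < 10, 1 ≤ x → x ∈ lamC by decide) c (by omega) hc1)
  rwa [mul_assoc x, SA.special_comm hC, ← mul_assoc x, mul_assoc, im_sq, mul_one] at h2

/-- The words of a seed. -/
noncomputable def seedTest : Bool :=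
  (List.range 7).all fun i =>
    let s := (seedData.getD i ([], [])).1
    let t := (seedData.getD i ([], [])).2
    inLetters lamN s && inLetters lamN t && walkW s 0 (seedPts.getD i 0) &&
      walkW (s ++ 11 :: t.reverse) 0 0 &&
      ((s.take 4 == gWord && inLetters lamT (s.drop 4)) || (s.take 1 == [11] && inLetters lamT (s.drop 1))) &&
      (t == [] || (t.take 4 == gWord && inLetters lamT (t.drop 4)) || (t.take 1 == [11] && inLetters lamT (t.drop 1)))

theorem seedTest_ok : seedTest = true := by decide +kernel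

theorem inU_word {s : List ℕ}
    (h : (s.take 4 = gWord ∧ inLetters lamT (s.drop 4) = true) ∨ (s.take 1 = [11] ∧ inLetters lamT (s.drop 1) = true)) :
    InU (wval im s) := by
  rcases h with ⟨h1, h2⟩ | ⟨h1, h2⟩
  · rw [← List.take_append_drop 4 s, h1, wval_append]
    exact Or.inr (Or.inr ⟨1, one_mem _, _, lgp_wval im h2, by rw [one_mul]; rfl⟩)
  · rw [← List.take_append_drop 1 s, h1, wval_append, wval_single]
    exact Or.inr (Or.inl ⟨1, one_mem _, _, lgp_wval im h2, by rw [one_mul]⟩)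

theorem kept_seed (i : ℕ) (hi : i < 7) : Kept (seedPts.getD i 0) := by
  have h := List.all_eq_true.1 seedTest_ok i (List.mem_range.2 hi)
  simp only [Bool.and_eq_true, Bool.or_eq_true, beq_iff_eq] at h
  set s := (seedData.getD i ([], [])).1
  set t := (seedData.getD i ([], [])).2
  obtain ⟨⟨⟨⟨⟨hs, ht⟩, hp⟩, hfix⟩, hsU⟩, htU⟩ := h
  have ht' : InU (wval im t) := by
    rcases htU with (h | h) | h
    · rw [h]; exact Or.inl (one_mem _)
    · exact inU_word (Or.inl h)
    · exact inU_word (Or.inr h)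
  intro x hx e
  have e1 : x⁻¹ • p0 = (wval im s)⁻¹ • p0 := Fin.ext (by
    rw [e, inv_smul_moves (ten_letters hs)]
    exact (walkW_eq hp).symm)
  have hd := hx.same (inU_word hsU) e1
  have hw : inLetters lamN (s ++ 11 :: t.reverse) = true := by
    simp only [inLetters, List.all_append, List.all_cons, List.all_reverse, Bool.and_eq_true] at hs ht ⊢
    exact ⟨hs, by decide, ht⟩
  have e0 : (wval im (s ++ 11 :: t.reverse))⁻¹ • p0 = p0 := Fin.ext (by
    rw [inv_smul_moves (ten_letters hw)]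
    exact walkW_eq hfix)
  have hm := nine_le_eleven (stab_ten (lgp_wval im hw) (inv_smul_eq_iff.1 e0).symm)
  have key : x * im 11 = x * (wval im s)⁻¹ * wval im (s ++ 11 :: t.reverse) * wval im t := by
    rw [wval_append, wval_cons, wval_reverse im (fun l _ => im_sq l)]
    simp [mul_assoc]
  rw [key]
  exact ht'.mul_left (mul_mem hd hm)

theorem braid_seed : (Nat.beq (mv 11 (mv 0 23116)) 83643 && toSeed (seedPts.take 7) 50 (mv 0 23116) && Nat.ble (mv 0 23116) 31671 &&
    Nat.ble 1 (mv 0 23116) && Nat.ble 31672 (mv 0 83643) && Nat.ble (Nat.succ (mv 0 83643)) 306936) = true := by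
  decide +kernel

theorem kak : im 0 * im 11 * im 0 * im 11 * im 0 = im 11 := by
  have hb := good_im.braid (x := 11) (y := 0) (by norm_num) (by norm_num) (by decide +kernel)
  calc im 0 * im 11 * im 0 * im 11 * im 0 = (im 0 * im 11 * im 0) * im 11 * im 0 := rfl
    _ = im 11 * im 0 * im 11 * im 11 * im 0 := by rw [← hb]
    _ = im 11 := by rw [mul_assoc (im 11 * im 0), im_sq, mul_one, mul_assoc, im_sq, mul_one]

theorem ptr_chain (L : List ℕ) (hs : ∀ s ∈ L, Kept s) : ∀ (f p : ℕ), p < 306936 → toSeed L f p = true → Kept p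
  | 0, _, _, h => Bool.noConfusion h
  | f + 1, p, hp, h => by
    rw [toSeed, Bool.or_eq_true] at h
    rcases h with h | h
    · obtain ⟨s, hsm, hps⟩ := List.any_eq_true.1 h
      rw [Nat.eq_of_beq_eq_true hps]
      exact hs s hsm
    · simp only [force_eq, Bool.and_eq_true, Nat.ble_eq] at h
      obtain ⟨⟨h1, h9⟩, h⟩ := h
      exact (ptr_chain L hs f _ (mv_lt (by omega) hp) h).move h1 h9 hp

theorem kept_seven : ∀ s ∈ seedPts.take 7, Kept s := by
  intro s hs
  obtain ⟨i, hi, rfl⟩ := List.getElem_of_mem hs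
  have h7 : i < 7 := hi
  rw [List.getElem_take, ← List.getD_eq_getElem seedPts 0]
  exact kept_seed i h7

theorem desc_chain : ∀ p, 31672 ≤ p → p < 306936 → Kept p := by
  intro p
  induction p using Nat.strong_induction_on with
  | _ p ih =>
    intro h1 h2
    have h := descC_ok p h1 h2
    rw [descC, force_eq, Bool.or_eq_true] at h
    rcases h with h | h
    · obtain ⟨s, hsm, hps⟩ := List.any_eq_true.1 h
      have hps' := Nat.eq_of_beq_eq_true hps
      rw [hps']
      refine kept_seven s ?_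
      simp only [seedPts, List.mem_cons, List.mem_nil_iff, or_false] at hsm
      simp only [seedPts, List.take_succ_cons, List.take_zero, List.mem_cons, List.mem_nil_iff, or_false]
      omega
    · obtain ⟨c, hc, h⟩ := List.any_eq_true.1 h
      simp only [Bool.and_eq_true, Nat.ble_eq] at h
      obtain ⟨hc1, hc9⟩ := (show ∀ c ∈ [1, 2, 3, 4, 5, 6, 7, 8, 9], 1 ≤ c ∧ c ≤ 9 by decide) c hc
      exact (ih (mv c p) h.2 h.1 (mv_lt (by omega) h2)).move hc1 hc9 h2

/-- The braid at the last seed. -/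
theorem kept_last (hA : ∀ p, 31672 ≤ p → p < 306936 → Kept p)
    (hB : Kept (mv 0 23116)) : Kept 23116 := by
  have h := braid_seed
  simp only [Bool.and_eq_true, Nat.ble_eq] at h
  obtain ⟨⟨⟨⟨⟨h1, -⟩, -⟩, -⟩, h5⟩, h6⟩ := h
  intro x hx e
  have ha : im 0 ∈ lgp im lamT := lgp_mem im (eleven_val (by norm_num))
  have s1 := hx.mul_right ha
  have p1 : ((x * im 0)⁻¹ • p0 : Pts).val = mv 0 23116 := by rw [point_mul (by norm_num), e]
  have s2 := hB _ s1 p1
  have p2 : ((x * im 0 * im 11)⁻¹ • p0 : Pts).val = 83643 := by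
    rw [point_mul (by norm_num), p1]
    exact Nat.eq_of_beq_eq_true h1
  have s3 := s2.mul_right ha
  have p3 : ((x * im 0 * im 11 * im 0)⁻¹ • p0 : Pts).val = mv 0 83643 := by rw [point_mul (by norm_num), p2]
  have s4 := (hA _ h5 h6 _ s3 p3).mul_right ha
  have e' : x * im 0 * im 11 * im 0 * im 11 * im 0 = x * im 11 := by
    calc x * im 0 * im 11 * im 0 * im 11 * im 0 = x * (im 0 * im 11 * im 0 * im 11 * im 0) := by
          simp only [mul_assoc]
      _ = _ := by rw [kak]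
  rwa [e'] at s4

theorem kept_all : ∀ p, 1 ≤ p → p < 306936 → Kept p := by
  have h := braid_seed
  simp only [Bool.and_eq_true, Nat.ble_eq] at h
  obtain ⟨⟨⟨⟨⟨-, hseed⟩, h3⟩, -⟩, -⟩, -⟩ := h
  have h23 := kept_last desc_chain (ptr_chain _ kept_seven 50 _ (by omega) hseed)
  have h8 : ∀ s ∈ seedPts, Kept s := by
    intro s hs
    by_cases e : s = 23116
    · exact e ▸ h23
    · refine kept_seven s ?_
      simp only [seedPts, List.mem_cons, List.mem_nil_iff, or_false] at hs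
      simp only [seedPts, List.take_succ_cons, List.take_zero, List.mem_cons, List.mem_nil_iff, or_false]
      omega
  intro p h1 h2
  rcases Nat.lt_or_ge p 31672 with h | h
  · exact ptr_chain _ h8 50 p h2 (seedB_ok p h1 h)
  · exact desc_chain p h h2

theorem inU_all : ∀ x : Cfsg.Spor.Fi24, InU x := by
  intro x
  have hk : ∀ y, InU y → InU (y * im 11) := by
    intro y hy
    rcases hy.kind with ⟨h, -⟩ | ⟨a, ha, b, hb, e, v, -⟩ | ⟨a, ha, b, hb, e, v, -, -⟩
    · exact Or.inr (Or.inl ⟨y, h, 1, one_mem _, by rw [mul_one]⟩)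
    · exact kept_all _ (by omega) (y⁻¹ • p0 : Pts).isLt y hy rfl
    · exact kept_all _ v (y⁻¹ • p0 : Pts).isLt y hy rfl
  have hstep : ∀ y, InU y → ∀ n < 12, InU (y * im n) := by
    intro y hy n hn
    rcases Nat.lt_or_ge n 11 with h | h
    · exact hy.mul_right (lgp_mem im (eleven_val h))
    · rw [show n = 11 by omega]; exact hk y hy
  have hx : x ∈ Subgroup.closure (im '' Set.Iio 12) := closure_im.symm ▸ Subgroup.mem_top x
  induction hx using Subgroup.closure_induction_right with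
  | one => exact Or.inl (one_mem _)
  | mul_right y z _ hz ih =>
    obtain ⟨n, hn, rfl⟩ := hz
    exact hstep y ih n hn
  | mul_inv_cancel y z _ hz ih =>
    obtain ⟨n, hn, rfl⟩ := hz
    rw [inv_eq_of_mul_eq_one_left (im_sq n)]
    exact hstep y ih n hn

theorem stab_first : MulAction.stabilizer Cfsg.Spor.Fi24 p0 = lgp im lamT := by
  refine le_antisymm (fun x hx => ?_) fun x hx => eleven_fix hx
  have h := InU.same (x := x) (y := 1) (inU_all x) (inU_all 1) (by
    rw [inv_one, one_smul, inv_smul_eq_iff]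
    exact hx.symm)
  rwa [inv_one, mul_one] at h

theorem transitive : MulAction.IsPretransitive Cfsg.Spor.Fi24 Pts := by
  have h : ∀ p : Pts, p ∈ MulAction.orbit Cfsg.Spor.Fi24 p0 := by
    intro p
    rcases Nat.eq_zero_or_pos p.val with h0 | h0
    · rw [show p = p0 from Fin.ext h0]; exact MulAction.mem_orbit_self _
    rcases Nat.lt_or_ge p.val 31672 with h | h
    · haveI := Cfsg.Lib.FiTwenty.transitive
      obtain ⟨f, hf⟩ := MulAction.exists_smul_eq Cfsg.Spor.Fi23 (⟨11589, by norm_num⟩ : Fin 31671) ⟨p.val - 1, by omega⟩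
      obtain ⟨g, hg⟩ := down_surjective f
      refine ⟨g.1 * gE⁻¹, ?_⟩
      show (g.1 * gE⁻¹) • p0 = p
      rw [mul_smul, gE_point, show pQ = emb ⟨11589, by norm_num⟩ from Fin.ext rfl, down_agrees g, hg,
        show Cfsg.Lib.FiTwenty.psi f (⟨11589, by norm_num⟩ : Fin 31671) = ⟨p.val - 1, by omega⟩ from hf]
      exact Fin.ext (show p.val - 1 + 1 = p.val by omega)
    · obtain ⟨g, hg⟩ := large_reach p h
      exact ⟨g.1 * (im 11)⁻¹, by show (g.1 * (im 11)⁻¹) • p0 = p; rw [mul_smul, k_point]; exact hg⟩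
  exact ⟨fun a b => by
    obtain ⟨g, hg⟩ := h a
    obtain ⟨g', hg'⟩ := h b
    exact ⟨g' * g⁻¹, by rw [mul_smul, ← hg, inv_smul_smul]; exact hg'⟩⟩

theorem index_eleven : (lgp im lamT).index = 306936 := by
  haveI := transitive
  rw [← stab_first, MulAction.index_stabilizer, MulAction.orbit_eq_univ, Set.ncard_univ, Nat.card_fin]

end Cfsg.Lib.FiFour
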