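import Cfsg.Agent.CosetCert.Basic

/-!
Generated coset certificate EA. The facts.
-/

set_option autoImplicit false

namespace Cfsg.Lib.FiFour.EA

open Cfsg.Lib.CosetCert

def edgeL0 : ℕ :=
  0x500001a00001a200001a00001a100001a00001a000001a00001a5000019000019300001a00001a400001a00001910000190000190000019000019400001800001820000190000193000019000018000001800001810000180000184000017000017300001700001750000180000182000018000017000001700001740000160000163000016000016100001600001750000170000154000015000015300001500001540000140000143000014000014100001400001400000140000160000015000015200001600001650000160000134000013000013200001500001510000150000132000014000014500001400001240000120000120000012000013500001100001130000130000132000013000011100001200001210000110000115000010000010300001200001220000120000100000010000011500000f00000f4000011000011300001100000f200000f00000f4000010000010500000c00000c400000f00000c300000c00000c200000c00000c500000e00000e500000d00000d100000e000010300001000000d000000e00000e100000f00000f000000f00000d200000e00000e200000d00000d400000e00000e300000e00000a500000b00000b100000a00000d400000d00000b300000b00000b000000a00000a100000c00000c000000c00000b400000a000008200000b00000b100000b0000080000008000008500000a00000a200000a000009100000900000900000090000093000009000009300000800000840000070000095000009000006500000800000820000080000072000006000006100000700000710000060000060000007000007000000600000640000050000053000005000007500000700000430000060000064000006000004100000500000510000040000040000005000005000000400000420000050000055000005000003400000300000320000040000043000004000003000000300000350000020000024000002000002300000200000210000030000032000003000002500000100000140000010000013000001000001200000100000100000020000021000002000001000000100000050000000000004000000000000300000000000020000000000001000000000000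

def edgeN0_0 : BT :=
  .node (.leaf edgeL0) (.leaf 0)

def edgeT : BT :=
  edgeN0_0

end Cfsg.Lib.FiFour.EA
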