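import Cfsg.Agent.CosetCert.TabSplit
import Cfsg.Agent.FiFour.EDData

/-!
The table of the certificate, block 2.
-/

set_option autoImplicit false
set_option Elab.async false

namespace Cfsg.Lib.FiFour.ED

open Cfsg.Lib.CosetCert

theorem tab24_ok : cert.tabPart 181338 9600 400 = true := by decide +kernel

theorem tab25_ok : cert.tabPart 181338 10000 400 = true := by decide +kernel

theorem tab26_ok : cert.tabPart 181338 10400 400 = true := by decide +kernel

theorem tab27_ok : cert.tabPart 181338 10800 400 = true := by decide +kernel

theorem tab28_ok : cert.tabPart 181338 11200 400 = true := by decide +kernel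

theorem tab29_ok : cert.tabPart 181338 11600 400 = true := by decide +kernel

theorem tab30_ok : cert.tabPart 181338 12000 400 = true := by decide +kernel

theorem tab31_ok : cert.tabPart 181338 12400 400 = true := by decide +kernel

theorem tab32_ok : cert.tabPart 181338 12800 400 = true := by decide +kernel

theorem tab33_ok : cert.tabPart 181338 13200 400 = true := by decide +kernel

theorem tab34_ok : cert.tabPart 181338 13600 400 = true := by decide +kernel

theorem tab35_ok : cert.tabPart 181338 14000 400 = true := by decide +kernel

end Cfsg.Lib.FiFour.ED
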