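import Cfsg.Agent.FiFour.Bound
import Cfsg.Agent.FiFour.Orbit
import Cfsg.Agent.FiFour.OrbData

/-!
The nine letters give the point stabiliser inside the subgroup on ten letters.
-/

set_option autoImplicit false
set_option maxRecDepth 100000

namespace Cfsg.Lib.FiFour

open Cfsg.Lib.CosetCert

attribute [local irreducible] rowF sevF lonF

theorem orbTree_len : orbTree.length = 1079 := by decide +kernel

theorem orbTree_ok : scanT lamN orbTree (Nat.shiftLeft 1 p0.val) = true := by decide +kernel

theorem orbit_ten : 1080 ≤ (MulAction.orbit (lgp im lamN) p0).ncard := by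
  have := orbit_ge orbTree_ok
  rwa [orbTree_len] at this

theorem fix_first : ∀ x : Fin 11, mv x.val 0 = 0 := by decide +kernel

theorem nine_le_stab : lgp im lamM ≤ MulAction.stabilizer Cfsg.Spor.Fi24 p0 := by
  refine (Subgroup.closure_le _).2 ?_
  rintro _ ⟨x, hx, rfl⟩
  have h : x < 11 := (show ∀ x ∈ lamM, x < 11 by decide) x hx
  refine Fin.ext ?_
  show (im x • p0 : Pts).val = _
  rw [im_smul_val (by omega)]
  exact fix_first ⟨x, h⟩

theorem nine_le_ten : lgp im lamM ≤ lgp im lamN := lgp_mono im (by decide)

theorem bound_nine : Finite (lgp im lamM) ∧ Nat.card (lgp im lamM) ≤ 9170703360 ∧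
    Nat.card (MulAction.stabilizer (lgp im lamN) p0) ≤ 9170703360 := by
  haveI := bound_ten.1
  have h1 := Subgroup.card_mul_index (MulAction.stabilizer (lgp im lamN) p0)
  rw [MulAction.index_stabilizer] at h1
  have h3 := orbit_ten
  have h4 := bound_ten.2
  have hst : Nat.card (MulAction.stabilizer (lgp im lamN) p0) ≤ 9170703360 := by
    have := Nat.mul_le_mul_left (Nat.card (MulAction.stabilizer (lgp im lamN) p0)) h3
    omega
  have hle : lgp im lamM ≤ lgp im lamN := nine_le_ten
  let f : lgp im lamM → MulAction.stabilizer (lgp im lamN) p0 := fun g =>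
    ⟨⟨g.1, hle g.2⟩, nine_le_stab g.2⟩
  have hf : Function.Injective f := fun a b e => Subtype.ext (congrArg (fun y => y.1.1) e)
  haveI : Finite (lgp im lamM) := Finite.of_injective f hf
  exact ⟨inferInstance, (Nat.card_le_card_of_injective f hf).trans hst, hst⟩

/-- An element of the ten-letter subgroup fixing the first point is in the nine-letter subgroup, given the order. -/
theorem stab_of_card (h9 : Nat.card (lgp im lamM) = 9170703360) {g : Cfsg.Spor.Fi24} (hg : g ∈ lgp im lamN)
    (hfix : g • p0 = p0) : g ∈ lgp im lamM := by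
  haveI := bound_ten.1
  let f : lgp im lamM → MulAction.stabilizer (lgp im lamN) p0 := fun a => ⟨⟨a.1, nine_le_ten a.2⟩, nine_le_stab a.2⟩
  have hf : Function.Injective f := fun a b e => Subtype.ext (congrArg (fun y => y.1.1) e)
  haveI : Finite (lgp im lamM) := bound_nine.1
  have hb : Function.Bijective f := (Nat.bijective_iff_injective_and_card f).2 ⟨hf, by
    have := bound_nine.2.2
    have := Nat.card_le_card_of_injective f hf
    omega⟩
  obtain ⟨a, ha⟩ := hb.2 ⟨⟨g, hg⟩, hfix⟩
  have e : a.1 = g := congrArg (fun y : MulAction.stabilizer (lgp im lamN) p0 => y.1.1) ha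
  exact e ▸ a.2

end Cfsg.Lib.FiFour
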