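import Cfsg.Agent.FiFour.Test

/-!
The points fixed by even elements of a two-point stabiliser.
-/

set_option autoImplicit false
set_option Elab.async false
set_option maxRecDepth 100000

namespace Cfsg.Lib.FiFour

open Cfsg.Lib.ONPres (force)

/-- All letters of a list act alike at a point. -/
noncomputable def alikeF (e m : ℕ) : List ℕ → Bool
  | [] => true
  | x :: w => Nat.beq (fx e x) m && alikeF e m w

/-- The only points fixed by the even words are the known ones. -/
noncomputable def fixedPairOK (p : ℕ) : Bool :=
  force (rowF p) fun e =>
    (!(alikeF e (fx e 0) [1, 2, 3, 4, 5, 6, 7, 8, 10]) || (Nat.beq p 0 || Nat.beq p 1)) &&
    (!(alikeF e (fx e 1) [2, 3, 4, 5, 6, 7, 8, 9]) || (Nat.beq p 0 || (Nat.beq p 31672 || Nat.beq p 60104)))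

theorem fixedPair_0 : allB fixedPairOK 1000 0 = true := by decide +kernel

theorem fixedPair_1 : allB fixedPairOK 1000 1000 = true := by decide +kernel

theorem fixedPair_2 : allB fixedPairOK 1000 2000 = true := by decide +kernel

theorem fixedPair_3 : allB fixedPairOK 1000 3000 = true := by decide +kernel

theorem fixedPair_4 : allB fixedPairOK 1000 4000 = true := by decide +kernel

theorem fixedPair_5 : allB fixedPairOK 1000 5000 = true := by decide +kernel

theorem fixedPair_6 : allB fixedPairOK 1000 6000 = true := by decide +kernel

theorem fixedPair_7 : allB fixedPairOK 1000 7000 = true := by decide +kernel

theorem fixedPair_8 : allB fixedPairOK 1000 8000 = true := by decide +kernel

theorem fixedPair_9 : allB fixedPairOK 1000 9000 = true := by decide +kernel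

theorem fixedPair_10 : allB fixedPairOK 1000 10000 = true := by decide +kernel

theorem fixedPair_11 : allB fixedPairOK 1000 11000 = true := by decide +kernel

theorem fixedPair_12 : allB fixedPairOK 1000 12000 = true := by decide +kernel

theorem fixedPair_13 : allB fixedPairOK 1000 13000 = true := by decide +kernel

theorem fixedPair_14 : allB fixedPairOK 1000 14000 = true := by decide +kernel

theorem fixedPair_15 : allB fixedPairOK 1000 15000 = true := by decide +kernel

theorem fixedPair_16 : allB fixedPairOK 1000 16000 = true := by decide +kernel

theorem fixedPair_17 : allB fixedPairOK 1000 17000 = true := by decide +kernel

theorem fixedPair_18 : allB fixedPairOK 1000 18000 = true := by decide +kernel

theorem fixedPair_19 : allB fixedPairOK 1000 19000 = true := by decide +kernel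

theorem fixedPair_20 : allB fixedPairOK 1000 20000 = true := by decide +kernel

theorem fixedPair_21 : allB fixedPairOK 1000 21000 = true := by decide +kernel

theorem fixedPair_22 : allB fixedPairOK 1000 22000 = true := by decide +kernel

theorem fixedPair_23 : allB fixedPairOK 1000 23000 = true := by decide +kernel

theorem fixedPair_24 : allB fixedPairOK 1000 24000 = true := by decide +kernel

theorem fixedPair_25 : allB fixedPairOK 1000 25000 = true := by decide +kernel

theorem fixedPair_26 : allB fixedPairOK 1000 26000 = true := by decide +kernel

theorem fixedPair_27 : allB fixedPairOK 1000 27000 = true := by decide +kernel

theorem fixedPair_28 : allB fixedPairOK 1000 28000 = true := by decide +kernel

theorem fixedPair_29 : allB fixedPairOK 1000 29000 = true := by decide +kernel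

theorem fixedPair_30 : allB fixedPairOK 1000 30000 = true := by decide +kernel

theorem fixedPair_31 : allB fixedPairOK 1000 31000 = true := by decide +kernel

theorem fixedPair_32 : allB fixedPairOK 1000 32000 = true := by decide +kernel

theorem fixedPair_33 : allB fixedPairOK 1000 33000 = true := by decide +kernel

theorem fixedPair_34 : allB fixedPairOK 1000 34000 = true := by decide +kernel

theorem fixedPair_35 : allB fixedPairOK 1000 35000 = true := by decide +kernel

theorem fixedPair_36 : allB fixedPairOK 1000 36000 = true := by decide +kernel

theorem fixedPair_37 : allB fixedPairOK 1000 37000 = true := by decide +kernel

theorem fixedPair_38 : allB fixedPairOK 1000 38000 = true := by decide +kernel

theorem fixedPair_39 : allB fixedPairOK 1000 39000 = true := by decide +kernel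

theorem fixedPair_40 : allB fixedPairOK 1000 40000 = true := by decide +kernel

theorem fixedPair_41 : allB fixedPairOK 1000 41000 = true := by decide +kernel

theorem fixedPair_42 : allB fixedPairOK 1000 42000 = true := by decide +kernel

theorem fixedPair_43 : allB fixedPairOK 1000 43000 = true := by decide +kernel

theorem fixedPair_44 : allB fixedPairOK 1000 44000 = true := by decide +kernel

theorem fixedPair_45 : allB fixedPairOK 1000 45000 = true := by decide +kernel

theorem fixedPair_46 : allB fixedPairOK 1000 46000 = true := by decide +kernel

theorem fixedPair_47 : allB fixedPairOK 1000 47000 = true := by decide +kernel

theorem fixedPair_48 : allB fixedPairOK 1000 48000 = true := by decide +kernel

theorem fixedPair_49 : allB fixedPairOK 1000 49000 = true := by decide +kernel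

theorem fixedPair_50 : allB fixedPairOK 1000 50000 = true := by decide +kernel

theorem fixedPair_51 : allB fixedPairOK 1000 51000 = true := by decide +kernel

theorem fixedPair_52 : allB fixedPairOK 1000 52000 = true := by decide +kernel

theorem fixedPair_53 : allB fixedPairOK 1000 53000 = true := by decide +kernel

theorem fixedPair_54 : allB fixedPairOK 1000 54000 = true := by decide +kernel

theorem fixedPair_55 : allB fixedPairOK 1000 55000 = true := by decide +kernel

theorem fixedPair_56 : allB fixedPairOK 1000 56000 = true := by decide +kernel

theorem fixedPair_57 : allB fixedPairOK 1000 57000 = true := by decide +kernel

theorem fixedPair_58 : allB fixedPairOK 1000 58000 = true := by decide +kernel

theorem fixedPair_59 : allB fixedPairOK 1000 59000 = true := by decide +kernel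

theorem fixedPair_60 : allB fixedPairOK 1000 60000 = true := by decide +kernel

theorem fixedPair_61 : allB fixedPairOK 1000 61000 = true := by decide +kernel

theorem fixedPair_62 : allB fixedPairOK 1000 62000 = true := by decide +kernel

theorem fixedPair_63 : allB fixedPairOK 1000 63000 = true := by decide +kernel

theorem fixedPair_64 : allB fixedPairOK 1000 64000 = true := by decide +kernel

theorem fixedPair_65 : allB fixedPairOK 1000 65000 = true := by decide +kernel

theorem fixedPair_66 : allB fixedPairOK 1000 66000 = true := by decide +kernel

theorem fixedPair_67 : allB fixedPairOK 1000 67000 = true := by decide +kernel

theorem fixedPair_68 : allB fixedPairOK 1000 68000 = true := by decide +kernel

theorem fixedPair_69 : allB fixedPairOK 1000 69000 = true := by decide +kernel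

theorem fixedPair_70 : allB fixedPairOK 1000 70000 = true := by decide +kernel

theorem fixedPair_71 : allB fixedPairOK 1000 71000 = true := by decide +kernel

theorem fixedPair_72 : allB fixedPairOK 1000 72000 = true := by decide +kernel

theorem fixedPair_73 : allB fixedPairOK 1000 73000 = true := by decide +kernel

theorem fixedPair_74 : allB fixedPairOK 1000 74000 = true := by decide +kernel

theorem fixedPair_75 : allB fixedPairOK 1000 75000 = true := by decide +kernel

theorem fixedPair_76 : allB fixedPairOK 1000 76000 = true := by decide +kernel

theorem fixedPair_77 : allB fixedPairOK 1000 77000 = true := by decide +kernel

theorem fixedPair_78 : allB fixedPairOK 1000 78000 = true := by decide +kernel

theorem fixedPair_79 : allB fixedPairOK 1000 79000 = true := by decide +kernel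

theorem fixedPair_80 : allB fixedPairOK 1000 80000 = true := by decide +kernel

theorem fixedPair_81 : allB fixedPairOK 1000 81000 = true := by decide +kernel

theorem fixedPair_82 : allB fixedPairOK 1000 82000 = true := by decide +kernel

theorem fixedPair_83 : allB fixedPairOK 1000 83000 = true := by decide +kernel

theorem fixedPair_84 : allB fixedPairOK 1000 84000 = true := by decide +kernel

theorem fixedPair_85 : allB fixedPairOK 1000 85000 = true := by decide +kernel

theorem fixedPair_86 : allB fixedPairOK 1000 86000 = true := by decide +kernel

theorem fixedPair_87 : allB fixedPairOK 1000 87000 = true := by decide +kernel

theorem fixedPair_88 : allB fixedPairOK 1000 88000 = true := by decide +kernel

theorem fixedPair_89 : allB fixedPairOK 1000 89000 = true := by decide +kernel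

theorem fixedPair_90 : allB fixedPairOK 1000 90000 = true := by decide +kernel

theorem fixedPair_91 : allB fixedPairOK 1000 91000 = true := by decide +kernel

theorem fixedPair_92 : allB fixedPairOK 1000 92000 = true := by decide +kernel

theorem fixedPair_93 : allB fixedPairOK 1000 93000 = true := by decide +kernel

theorem fixedPair_94 : allB fixedPairOK 1000 94000 = true := by decide +kernel

theorem fixedPair_95 : allB fixedPairOK 1000 95000 = true := by decide +kernel

theorem fixedPair_96 : allB fixedPairOK 1000 96000 = true := by decide +kernel

theorem fixedPair_97 : allB fixedPairOK 1000 97000 = true := by decide +kernel

theorem fixedPair_98 : allB fixedPairOK 1000 98000 = true := by decide +kernel

theorem fixedPair_99 : allB fixedPairOK 1000 99000 = true := by decide +kernel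

theorem fixedPair_100 : allB fixedPairOK 1000 100000 = true := by decide +kernel

theorem fixedPair_101 : allB fixedPairOK 1000 101000 = true := by decide +kernel

theorem fixedPair_102 : allB fixedPairOK 1000 102000 = true := by decide +kernel

theorem fixedPair_103 : allB fixedPairOK 1000 103000 = true := by decide +kernel

theorem fixedPair_104 : allB fixedPairOK 1000 104000 = true := by decide +kernel

theorem fixedPair_105 : allB fixedPairOK 1000 105000 = true := by decide +kernel

theorem fixedPair_106 : allB fixedPairOK 1000 106000 = true := by decide +kernel

theorem fixedPair_107 : allB fixedPairOK 1000 107000 = true := by decide +kernel

theorem fixedPair_108 : allB fixedPairOK 1000 108000 = true := by decide +kernel

theorem fixedPair_109 : allB fixedPairOK 1000 109000 = true := by decide +kernel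

theorem fixedPair_110 : allB fixedPairOK 1000 110000 = true := by decide +kernel

theorem fixedPair_111 : allB fixedPairOK 1000 111000 = true := by decide +kernel

theorem fixedPair_112 : allB fixedPairOK 1000 112000 = true := by decide +kernel

theorem fixedPair_113 : allB fixedPairOK 1000 113000 = true := by decide +kernel

theorem fixedPair_114 : allB fixedPairOK 1000 114000 = true := by decide +kernel

theorem fixedPair_115 : allB fixedPairOK 1000 115000 = true := by decide +kernel

theorem fixedPair_116 : allB fixedPairOK 1000 116000 = true := by decide +kernel

theorem fixedPair_117 : allB fixedPairOK 1000 117000 = true := by decide +kernel

theorem fixedPair_118 : allB fixedPairOK 1000 118000 = true := by decide +kernel

theorem fixedPair_119 : allB fixedPairOK 1000 119000 = true := by decide +kernel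

theorem fixedPair_120 : allB fixedPairOK 1000 120000 = true := by decide +kernel

theorem fixedPair_121 : allB fixedPairOK 1000 121000 = true := by decide +kernel

theorem fixedPair_122 : allB fixedPairOK 1000 122000 = true := by decide +kernel

theorem fixedPair_123 : allB fixedPairOK 1000 123000 = true := by decide +kernel

theorem fixedPair_124 : allB fixedPairOK 1000 124000 = true := by decide +kernel

theorem fixedPair_125 : allB fixedPairOK 1000 125000 = true := by decide +kernel

theorem fixedPair_126 : allB fixedPairOK 1000 126000 = true := by decide +kernel

theorem fixedPair_127 : allB fixedPairOK 1000 127000 = true := by decide +kernel

theorem fixedPair_128 : allB fixedPairOK 1000 128000 = true := by decide +kernel

theorem fixedPair_129 : allB fixedPairOK 1000 129000 = true := by decide +kernel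

theorem fixedPair_130 : allB fixedPairOK 1000 130000 = true := by decide +kernel

theorem fixedPair_131 : allB fixedPairOK 1000 131000 = true := by decide +kernel

theorem fixedPair_132 : allB fixedPairOK 1000 132000 = true := by decide +kernel

theorem fixedPair_133 : allB fixedPairOK 1000 133000 = true := by decide +kernel

theorem fixedPair_134 : allB fixedPairOK 1000 134000 = true := by decide +kernel

theorem fixedPair_135 : allB fixedPairOK 1000 135000 = true := by decide +kernel

theorem fixedPair_136 : allB fixedPairOK 1000 136000 = true := by decide +kernel

theorem fixedPair_137 : allB fixedPairOK 1000 137000 = true := by decide +kernel

theorem fixedPair_138 : allB fixedPairOK 1000 138000 = true := by decide +kernel

theorem fixedPair_139 : allB fixedPairOK 1000 139000 = true := by decide +kernel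

theorem fixedPair_140 : allB fixedPairOK 1000 140000 = true := by decide +kernel

theorem fixedPair_141 : allB fixedPairOK 1000 141000 = true := by decide +kernel

theorem fixedPair_142 : allB fixedPairOK 1000 142000 = true := by decide +kernel

theorem fixedPair_143 : allB fixedPairOK 1000 143000 = true := by decide +kernel

theorem fixedPair_144 : allB fixedPairOK 1000 144000 = true := by decide +kernel

theorem fixedPair_145 : allB fixedPairOK 1000 145000 = true := by decide +kernel

theorem fixedPair_146 : allB fixedPairOK 1000 146000 = true := by decide +kernel

theorem fixedPair_147 : allB fixedPairOK 1000 147000 = true := by decide +kernel

theorem fixedPair_148 : allB fixedPairOK 1000 148000 = true := by decide +kernel

theorem fixedPair_149 : allB fixedPairOK 1000 149000 = true := by decide +kernel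

theorem fixedPair_150 : allB fixedPairOK 1000 150000 = true := by decide +kernel

theorem fixedPair_151 : allB fixedPairOK 1000 151000 = true := by decide +kernel

theorem fixedPair_152 : allB fixedPairOK 1000 152000 = true := by decide +kernel

theorem fixedPair_153 : allB fixedPairOK 1000 153000 = true := by decide +kernel

theorem fixedPair_154 : allB fixedPairOK 1000 154000 = true := by decide +kernel

theorem fixedPair_155 : allB fixedPairOK 1000 155000 = true := by decide +kernel

theorem fixedPair_156 : allB fixedPairOK 1000 156000 = true := by decide +kernel

theorem fixedPair_157 : allB fixedPairOK 1000 157000 = true := by decide +kernel

theorem fixedPair_158 : allB fixedPairOK 1000 158000 = true := by decide +kernel

theorem fixedPair_159 : allB fixedPairOK 1000 159000 = true := by decide +kernel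

theorem fixedPair_160 : allB fixedPairOK 1000 160000 = true := by decide +kernel

theorem fixedPair_161 : allB fixedPairOK 1000 161000 = true := by decide +kernel

theorem fixedPair_162 : allB fixedPairOK 1000 162000 = true := by decide +kernel

theorem fixedPair_163 : allB fixedPairOK 1000 163000 = true := by decide +kernel

theorem fixedPair_164 : allB fixedPairOK 1000 164000 = true := by decide +kernel

theorem fixedPair_165 : allB fixedPairOK 1000 165000 = true := by decide +kernel

theorem fixedPair_166 : allB fixedPairOK 1000 166000 = true := by decide +kernel

theorem fixedPair_167 : allB fixedPairOK 1000 167000 = true := by decide +kernel

theorem fixedPair_168 : allB fixedPairOK 1000 168000 = true := by decide +kernel

theorem fixedPair_169 : allB fixedPairOK 1000 169000 = true := by decide +kernel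

theorem fixedPair_170 : allB fixedPairOK 1000 170000 = true := by decide +kernel

theorem fixedPair_171 : allB fixedPairOK 1000 171000 = true := by decide +kernel

theorem fixedPair_172 : allB fixedPairOK 1000 172000 = true := by decide +kernel

theorem fixedPair_173 : allB fixedPairOK 1000 173000 = true := by decide +kernel

theorem fixedPair_174 : allB fixedPairOK 1000 174000 = true := by decide +kernel

theorem fixedPair_175 : allB fixedPairOK 1000 175000 = true := by decide +kernel

theorem fixedPair_176 : allB fixedPairOK 1000 176000 = true := by decide +kernel

theorem fixedPair_177 : allB fixedPairOK 1000 177000 = true := by decide +kernel

theorem fixedPair_178 : allB fixedPairOK 1000 178000 = true := by decide +kernel

theorem fixedPair_179 : allB fixedPairOK 1000 179000 = true := by decide +kernel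

theorem fixedPair_180 : allB fixedPairOK 1000 180000 = true := by decide +kernel

theorem fixedPair_181 : allB fixedPairOK 1000 181000 = true := by decide +kernel

theorem fixedPair_182 : allB fixedPairOK 1000 182000 = true := by decide +kernel

theorem fixedPair_183 : allB fixedPairOK 1000 183000 = true := by decide +kernel

theorem fixedPair_184 : allB fixedPairOK 1000 184000 = true := by decide +kernel

theorem fixedPair_185 : allB fixedPairOK 1000 185000 = true := by decide +kernel

theorem fixedPair_186 : allB fixedPairOK 1000 186000 = true := by decide +kernel

theorem fixedPair_187 : allB fixedPairOK 1000 187000 = true := by decide +kernel

theorem fixedPair_188 : allB fixedPairOK 1000 188000 = true := by decide +kernel

theorem fixedPair_189 : allB fixedPairOK 1000 189000 = true := by decide +kernel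

theorem fixedPair_190 : allB fixedPairOK 1000 190000 = true := by decide +kernel

theorem fixedPair_191 : allB fixedPairOK 1000 191000 = true := by decide +kernel

theorem fixedPair_192 : allB fixedPairOK 1000 192000 = true := by decide +kernel

theorem fixedPair_193 : allB fixedPairOK 1000 193000 = true := by decide +kernel

theorem fixedPair_194 : allB fixedPairOK 1000 194000 = true := by decide +kernel

theorem fixedPair_195 : allB fixedPairOK 1000 195000 = true := by decide +kernel

theorem fixedPair_196 : allB fixedPairOK 1000 196000 = true := by decide +kernel

theorem fixedPair_197 : allB fixedPairOK 1000 197000 = true := by decide +kernel

theorem fixedPair_198 : allB fixedPairOK 1000 198000 = true := by decide +kernel

theorem fixedPair_199 : allB fixedPairOK 1000 199000 = true := by decide +kernel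

theorem fixedPair_200 : allB fixedPairOK 1000 200000 = true := by decide +kernel

theorem fixedPair_201 : allB fixedPairOK 1000 201000 = true := by decide +kernel

theorem fixedPair_202 : allB fixedPairOK 1000 202000 = true := by decide +kernel

theorem fixedPair_203 : allB fixedPairOK 1000 203000 = true := by decide +kernel

theorem fixedPair_204 : allB fixedPairOK 1000 204000 = true := by decide +kernel

theorem fixedPair_205 : allB fixedPairOK 1000 205000 = true := by decide +kernel

theorem fixedPair_206 : allB fixedPairOK 1000 206000 = true := by decide +kernel

theorem fixedPair_207 : allB fixedPairOK 1000 207000 = true := by decide +kernel

theorem fixedPair_208 : allB fixedPairOK 1000 208000 = true := by decide +kernel

theorem fixedPair_209 : allB fixedPairOK 1000 209000 = true := by decide +kernel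

theorem fixedPair_210 : allB fixedPairOK 1000 210000 = true := by decide +kernel

theorem fixedPair_211 : allB fixedPairOK 1000 211000 = true := by decide +kernel

theorem fixedPair_212 : allB fixedPairOK 1000 212000 = true := by decide +kernel

theorem fixedPair_213 : allB fixedPairOK 1000 213000 = true := by decide +kernel

theorem fixedPair_214 : allB fixedPairOK 1000 214000 = true := by decide +kernel

theorem fixedPair_215 : allB fixedPairOK 1000 215000 = true := by decide +kernel

theorem fixedPair_216 : allB fixedPairOK 1000 216000 = true := by decide +kernel

theorem fixedPair_217 : allB fixedPairOK 1000 217000 = true := by decide +kernel

theorem fixedPair_218 : allB fixedPairOK 1000 218000 = true := by decide +kernel

theorem fixedPair_219 : allB fixedPairOK 1000 219000 = true := by decide +kernel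

theorem fixedPair_220 : allB fixedPairOK 1000 220000 = true := by decide +kernel

theorem fixedPair_221 : allB fixedPairOK 1000 221000 = true := by decide +kernel

theorem fixedPair_222 : allB fixedPairOK 1000 222000 = true := by decide +kernel

theorem fixedPair_223 : allB fixedPairOK 1000 223000 = true := by decide +kernel

theorem fixedPair_224 : allB fixedPairOK 1000 224000 = true := by decide +kernel

theorem fixedPair_225 : allB fixedPairOK 1000 225000 = true := by decide +kernel

theorem fixedPair_226 : allB fixedPairOK 1000 226000 = true := by decide +kernel

theorem fixedPair_227 : allB fixedPairOK 1000 227000 = true := by decide +kernel

theorem fixedPair_228 : allB fixedPairOK 1000 228000 = true := by decide +kernel

theorem fixedPair_229 : allB fixedPairOK 1000 229000 = true := by decide +kernel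

theorem fixedPair_230 : allB fixedPairOK 1000 230000 = true := by decide +kernel

theorem fixedPair_231 : allB fixedPairOK 1000 231000 = true := by decide +kernel

theorem fixedPair_232 : allB fixedPairOK 1000 232000 = true := by decide +kernel

theorem fixedPair_233 : allB fixedPairOK 1000 233000 = true := by decide +kernel

theorem fixedPair_234 : allB fixedPairOK 1000 234000 = true := by decide +kernel

theorem fixedPair_235 : allB fixedPairOK 1000 235000 = true := by decide +kernel

theorem fixedPair_236 : allB fixedPairOK 1000 236000 = true := by decide +kernel

theorem fixedPair_237 : allB fixedPairOK 1000 237000 = true := by decide +kernel

theorem fixedPair_238 : allB fixedPairOK 1000 238000 = true := by decide +kernel

theorem fixedPair_239 : allB fixedPairOK 1000 239000 = true := by decide +kernel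

theorem fixedPair_240 : allB fixedPairOK 1000 240000 = true := by decide +kernel

theorem fixedPair_241 : allB fixedPairOK 1000 241000 = true := by decide +kernel

theorem fixedPair_242 : allB fixedPairOK 1000 242000 = true := by decide +kernel

theorem fixedPair_243 : allB fixedPairOK 1000 243000 = true := by decide +kernel

theorem fixedPair_244 : allB fixedPairOK 1000 244000 = true := by decide +kernel

theorem fixedPair_245 : allB fixedPairOK 1000 245000 = true := by decide +kernel

theorem fixedPair_246 : allB fixedPairOK 1000 246000 = true := by decide +kernel

theorem fixedPair_247 : allB fixedPairOK 1000 247000 = true := by decide +kernel

theorem fixedPair_248 : allB fixedPairOK 1000 248000 = true := by decide +kernel

theorem fixedPair_249 : allB fixedPairOK 1000 249000 = true := by decide +kernel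

theorem fixedPair_250 : allB fixedPairOK 1000 250000 = true := by decide +kernel

theorem fixedPair_251 : allB fixedPairOK 1000 251000 = true := by decide +kernel

theorem fixedPair_252 : allB fixedPairOK 1000 252000 = true := by decide +kernel

theorem fixedPair_253 : allB fixedPairOK 1000 253000 = true := by decide +kernel

theorem fixedPair_254 : allB fixedPairOK 1000 254000 = true := by decide +kernel

theorem fixedPair_255 : allB fixedPairOK 1000 255000 = true := by decide +kernel

theorem fixedPair_256 : allB fixedPairOK 1000 256000 = true := by decide +kernel

theorem fixedPair_257 : allB fixedPairOK 1000 257000 = true := by decide +kernel

theorem fixedPair_258 : allB fixedPairOK 1000 258000 = true := by decide +kernel

theorem fixedPair_259 : allB fixedPairOK 1000 259000 = true := by decide +kernel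

theorem fixedPair_260 : allB fixedPairOK 1000 260000 = true := by decide +kernel

theorem fixedPair_261 : allB fixedPairOK 1000 261000 = true := by decide +kernel

theorem fixedPair_262 : allB fixedPairOK 1000 262000 = true := by decide +kernel

theorem fixedPair_263 : allB fixedPairOK 1000 263000 = true := by decide +kernel

theorem fixedPair_264 : allB fixedPairOK 1000 264000 = true := by decide +kernel

theorem fixedPair_265 : allB fixedPairOK 1000 265000 = true := by decide +kernel

theorem fixedPair_266 : allB fixedPairOK 1000 266000 = true := by decide +kernel

theorem fixedPair_267 : allB fixedPairOK 1000 267000 = true := by decide +kernel

theorem fixedPair_268 : allB fixedPairOK 1000 268000 = true := by decide +kernel

theorem fixedPair_269 : allB fixedPairOK 1000 269000 = true := by decide +kernel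

theorem fixedPair_270 : allB fixedPairOK 1000 270000 = true := by decide +kernel

theorem fixedPair_271 : allB fixedPairOK 1000 271000 = true := by decide +kernel

theorem fixedPair_272 : allB fixedPairOK 1000 272000 = true := by decide +kernel

theorem fixedPair_273 : allB fixedPairOK 1000 273000 = true := by decide +kernel

theorem fixedPair_274 : allB fixedPairOK 1000 274000 = true := by decide +kernel

theorem fixedPair_275 : allB fixedPairOK 1000 275000 = true := by decide +kernel

theorem fixedPair_276 : allB fixedPairOK 1000 276000 = true := by decide +kernel

theorem fixedPair_277 : allB fixedPairOK 1000 277000 = true := by decide +kernel

theorem fixedPair_278 : allB fixedPairOK 1000 278000 = true := by decide +kernel

theorem fixedPair_279 : allB fixedPairOK 1000 279000 = true := by decide +kernel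

theorem fixedPair_280 : allB fixedPairOK 1000 280000 = true := by decide +kernel

theorem fixedPair_281 : allB fixedPairOK 1000 281000 = true := by decide +kernel

theorem fixedPair_282 : allB fixedPairOK 1000 282000 = true := by decide +kernel

theorem fixedPair_283 : allB fixedPairOK 1000 283000 = true := by decide +kernel

theorem fixedPair_284 : allB fixedPairOK 1000 284000 = true := by decide +kernel

theorem fixedPair_285 : allB fixedPairOK 1000 285000 = true := by decide +kernel

theorem fixedPair_286 : allB fixedPairOK 1000 286000 = true := by decide +kernel

theorem fixedPair_287 : allB fixedPairOK 1000 287000 = true := by decide +kernel

theorem fixedPair_288 : allB fixedPairOK 1000 288000 = true := by decide +kernel

theorem fixedPair_289 : allB fixedPairOK 1000 289000 = true := by decide +kernel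

theorem fixedPair_290 : allB fixedPairOK 1000 290000 = true := by decide +kernel

theorem fixedPair_291 : allB fixedPairOK 1000 291000 = true := by decide +kernel

theorem fixedPair_292 : allB fixedPairOK 1000 292000 = true := by decide +kernel

theorem fixedPair_293 : allB fixedPairOK 1000 293000 = true := by decide +kernel

theorem fixedPair_294 : allB fixedPairOK 1000 294000 = true := by decide +kernel

theorem fixedPair_295 : allB fixedPairOK 1000 295000 = true := by decide +kernel

theorem fixedPair_296 : allB fixedPairOK 1000 296000 = true := by decide +kernel

theorem fixedPair_297 : allB fixedPairOK 1000 297000 = true := by decide +kernel

theorem fixedPair_298 : allB fixedPairOK 1000 298000 = true := by decide +kernel

theorem fixedPair_299 : allB fixedPairOK 1000 299000 = true := by decide +kernel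

theorem fixedPair_300 : allB fixedPairOK 1000 300000 = true := by decide +kernel

theorem fixedPair_301 : allB fixedPairOK 1000 301000 = true := by decide +kernel

theorem fixedPair_302 : allB fixedPairOK 1000 302000 = true := by decide +kernel

theorem fixedPair_303 : allB fixedPairOK 1000 303000 = true := by decide +kernel

theorem fixedPair_304 : allB fixedPairOK 1000 304000 = true := by decide +kernel

theorem fixedPair_305 : allB fixedPairOK 1000 305000 = true := by decide +kernel

theorem fixedPair_306 : allB fixedPairOK 936 306000 = true := by decide +kernel

theorem fixedPair_ok (i : ℕ) (h : i < 306936) : fixedPairOK i = true := by
  by_cases h0_307 : i < 153000
  ·
    by_cases h0_153 : i < 76000
    ·
      by_cases h0_76 : i < 38000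
      ·
        by_cases h0_38 : i < 19000
        ·
          by_cases h0_19 : i < 9000
          ·
            by_cases h0_9 : i < 4000
            ·
              by_cases h0_4 : i < 2000
              ·
                by_cases h0_2 : i < 1000
                ·
                  exact allB_sound fixedPair_0 i (by omega) (by omega)
                ·
                  exact allB_sound fixedPair_1 i (by omega) (by omega)
              ·
                by_cases h2_4 : i < 3000
                ·
                  exact allB_sound fixedPair_2 i (by omega) (by omega)
                ·
                  exact allB_sound fixedPair_3 i (by omega) (by omega)
            ·
              by_cases h4_9 : i < 6000
              ·
                by_cases h4_6 : i < 5000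
                ·
                  exact allB_sound fixedPair_4 i (by omega) (by omega)
                ·
                  exact allB_sound fixedPair_5 i (by omega) (by omega)
              ·
                by_cases h6_9 : i < 7000
                ·
                  exact allB_sound fixedPair_6 i (by omega) (by omega)
                ·
                  by_cases h7_9 : i < 8000
                  ·
                    exact allB_sound fixedPair_7 i (by omega) (by omega)
                  ·
                    exact allB_sound fixedPair_8 i (by omega) (by omega)
          ·
            by_cases h9_19 : i < 14000
            ·
              by_cases h9_14 : i < 11000
              ·
                by_cases h9_11 : i < 10000
                ·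
                  exact allB_sound fixedPair_9 i (by omega) (by omega)
                ·
                  exact allB_sound fixedPair_10 i (by omega) (by omega)
              ·
                by_cases h11_14 : i < 12000
                ·
                  exact allB_sound fixedPair_11 i (by omega) (by omega)
                ·
                  by_cases h12_14 : i < 13000
                  ·
                    exact allB_sound fixedPair_12 i (by omega) (by omega)
                  ·
                    exact allB_sound fixedPair_13 i (by omega) (by omega)
            ·
              by_cases h14_19 : i < 16000
              ·
                by_cases h14_16 : i < 15000
                ·
                  exact allB_sound fixedPair_14 i (by omega) (by omega)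
                ·
                  exact allB_sound fixedPair_15 i (by omega) (by omega)
              ·
                by_cases h16_19 : i < 17000
                ·
                  exact allB_sound fixedPair_16 i (by omega) (by omega)
                ·
                  by_cases h17_19 : i < 18000
                  ·
                    exact allB_sound fixedPair_17 i (by omega) (by omega)
                  ·
                    exact allB_sound fixedPair_18 i (by omega) (by omega)
        ·
          by_cases h19_38 : i < 28000
          ·
            by_cases h19_28 : i < 23000
            ·
              by_cases h19_23 : i < 21000
              ·
                by_cases h19_21 : i < 20000
                ·
                  exact allB_sound fixedPair_19 i (by omega) (by omega)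
                ·
                  exact allB_sound fixedPair_20 i (by omega) (by omega)
              ·
                by_cases h21_23 : i < 22000
                ·
                  exact allB_sound fixedPair_21 i (by omega) (by omega)
                ·
                  exact allB_sound fixedPair_22 i (by omega) (by omega)
            ·
              by_cases h23_28 : i < 25000
              ·
                by_cases h23_25 : i < 24000
                ·
                  exact allB_sound fixedPair_23 i (by omega) (by omega)
                ·
                  exact allB_sound fixedPair_24 i (by omega) (by omega)
              ·
                by_cases h25_28 : i < 26000
                ·
                  exact allB_sound fixedPair_25 i (by omega) (by omega)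
                ·
                  by_cases h26_28 : i < 27000
                  ·
                    exact allB_sound fixedPair_26 i (by omega) (by omega)
                  ·
                    exact allB_sound fixedPair_27 i (by omega) (by omega)
          ·
            by_cases h28_38 : i < 33000
            ·
              by_cases h28_33 : i < 30000
              ·
                by_cases h28_30 : i < 29000
                ·
                  exact allB_sound fixedPair_28 i (by omega) (by omega)
                ·
                  exact allB_sound fixedPair_29 i (by omega) (by omega)
              ·
                by_cases h30_33 : i < 31000
                ·
                  exact allB_sound fixedPair_30 i (by omega) (by omega)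
                ·
                  by_cases h31_33 : i < 32000
                  ·
                    exact allB_sound fixedPair_31 i (by omega) (by omega)
                  ·
                    exact allB_sound fixedPair_32 i (by omega) (by omega)
            ·
              by_cases h33_38 : i < 35000
              ·
                by_cases h33_35 : i < 34000
                ·
                  exact allB_sound fixedPair_33 i (by omega) (by omega)
                ·
                  exact allB_sound fixedPair_34 i (by omega) (by omega)
              ·
                by_cases h35_38 : i < 36000
                ·
                  exact allB_sound fixedPair_35 i (by omega) (by omega)
                ·
                  by_cases h36_38 : i < 37000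
                  ·
                    exact allB_sound fixedPair_36 i (by omega) (by omega)
                  ·
                    exact allB_sound fixedPair_37 i (by omega) (by omega)
      ·
        by_cases h38_76 : i < 57000
        ·
          by_cases h38_57 : i < 47000
          ·
            by_cases h38_47 : i < 42000
            ·
              by_cases h38_42 : i < 40000
              ·
                by_cases h38_40 : i < 39000
                ·
                  exact allB_sound fixedPair_38 i (by omega) (by omega)
                ·
                  exact allB_sound fixedPair_39 i (by omega) (by omega)
              ·
                by_cases h40_42 : i < 41000
                ·
                  exact allB_sound fixedPair_40 i (by omega) (by omega)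
                ·
                  exact allB_sound fixedPair_41 i (by omega) (by omega)
            ·
              by_cases h42_47 : i < 44000
              ·
                by_cases h42_44 : i < 43000
                ·
                  exact allB_sound fixedPair_42 i (by omega) (by omega)
                ·
                  exact allB_sound fixedPair_43 i (by omega) (by omega)
              ·
                by_cases h44_47 : i < 45000
                ·
                  exact allB_sound fixedPair_44 i (by omega) (by omega)
                ·
                  by_cases h45_47 : i < 46000
                  ·
                    exact allB_sound fixedPair_45 i (by omega) (by omega)
                  ·
                    exact allB_sound fixedPair_46 i (by omega) (by omega)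
          ·
            by_cases h47_57 : i < 52000
            ·
              by_cases h47_52 : i < 49000
              ·
                by_cases h47_49 : i < 48000
                ·
                  exact allB_sound fixedPair_47 i (by omega) (by omega)
                ·
                  exact allB_sound fixedPair_48 i (by omega) (by omega)
              ·
                by_cases h49_52 : i < 50000
                ·
                  exact allB_sound fixedPair_49 i (by omega) (by omega)
                ·
                  by_cases h50_52 : i < 51000
                  ·
                    exact allB_sound fixedPair_50 i (by omega) (by omega)
                  ·
                    exact allB_sound fixedPair_51 i (by omega) (by omega)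
            ·
              by_cases h52_57 : i < 54000
              ·
                by_cases h52_54 : i < 53000
                ·
                  exact allB_sound fixedPair_52 i (by omega) (by omega)
                ·
                  exact allB_sound fixedPair_53 i (by omega) (by omega)
              ·
                by_cases h54_57 : i < 55000
                ·
                  exact allB_sound fixedPair_54 i (by omega) (by omega)
                ·
                  by_cases h55_57 : i < 56000
                  ·
                    exact allB_sound fixedPair_55 i (by omega) (by omega)
                  ·
                    exact allB_sound fixedPair_56 i (by omega) (by omega)
        ·
          by_cases h57_76 : i < 66000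
          ·
            by_cases h57_66 : i < 61000
            ·
              by_cases h57_61 : i < 59000
              ·
                by_cases h57_59 : i < 58000
                ·
                  exact allB_sound fixedPair_57 i (by omega) (by omega)
                ·
                  exact allB_sound fixedPair_58 i (by omega) (by omega)
              ·
                by_cases h59_61 : i < 60000
                ·
                  exact allB_sound fixedPair_59 i (by omega) (by omega)
                ·
                  exact allB_sound fixedPair_60 i (by omega) (by omega)
            ·
              by_cases h61_66 : i < 63000
              ·
                by_cases h61_63 : i < 62000
                ·
                  exact allB_sound fixedPair_61 i (by omega) (by omega)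
                ·
                  exact allB_sound fixedPair_62 i (by omega) (by omega)
              ·
                by_cases h63_66 : i < 64000
                ·
                  exact allB_sound fixedPair_63 i (by omega) (by omega)
                ·
                  by_cases h64_66 : i < 65000
                  ·
                    exact allB_sound fixedPair_64 i (by omega) (by omega)
                  ·
                    exact allB_sound fixedPair_65 i (by omega) (by omega)
          ·
            by_cases h66_76 : i < 71000
            ·
              by_cases h66_71 : i < 68000
              ·
                by_cases h66_68 : i < 67000
                ·
                  exact allB_sound fixedPair_66 i (by omega) (by omega)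
                ·
                  exact allB_sound fixedPair_67 i (by omega) (by omega)
              ·
                by_cases h68_71 : i < 69000
                ·
                  exact allB_sound fixedPair_68 i (by omega) (by omega)
                ·
                  by_cases h69_71 : i < 70000
                  ·
                    exact allB_sound fixedPair_69 i (by omega) (by omega)
                  ·
                    exact allB_sound fixedPair_70 i (by omega) (by omega)
            ·
              by_cases h71_76 : i < 73000
              ·
                by_cases h71_73 : i < 72000
                ·
                  exact allB_sound fixedPair_71 i (by omega) (by omega)
                ·
                  exact allB_sound fixedPair_72 i (by omega) (by omega)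
              ·
                by_cases h73_76 : i < 74000
                ·
                  exact allB_sound fixedPair_73 i (by omega) (by omega)
                ·
                  by_cases h74_76 : i < 75000
                  ·
                    exact allB_sound fixedPair_74 i (by omega) (by omega)
                  ·
                    exact allB_sound fixedPair_75 i (by omega) (by omega)
    ·
      by_cases h76_153 : i < 114000
      ·
        by_cases h76_114 : i < 95000
        ·
          by_cases h76_95 : i < 85000
          ·
            by_cases h76_85 : i < 80000
            ·
              by_cases h76_80 : i < 78000
              ·
                by_cases h76_78 : i < 77000
                ·
                  exact allB_sound fixedPair_76 i (by omega) (by omega)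
                ·
                  exact allB_sound fixedPair_77 i (by omega) (by omega)
              ·
                by_cases h78_80 : i < 79000
                ·
                  exact allB_sound fixedPair_78 i (by omega) (by omega)
                ·
                  exact allB_sound fixedPair_79 i (by omega) (by omega)
            ·
              by_cases h80_85 : i < 82000
              ·
                by_cases h80_82 : i < 81000
                ·
                  exact allB_sound fixedPair_80 i (by omega) (by omega)
                ·
                  exact allB_sound fixedPair_81 i (by omega) (by omega)
              ·
                by_cases h82_85 : i < 83000
                ·
                  exact allB_sound fixedPair_82 i (by omega) (by omega)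
                ·
                  by_cases h83_85 : i < 84000
                  ·
                    exact allB_sound fixedPair_83 i (by omega) (by omega)
                  ·
                    exact allB_sound fixedPair_84 i (by omega) (by omega)
          ·
            by_cases h85_95 : i < 90000
            ·
              by_cases h85_90 : i < 87000
              ·
                by_cases h85_87 : i < 86000
                ·
                  exact allB_sound fixedPair_85 i (by omega) (by omega)
                ·
                  exact allB_sound fixedPair_86 i (by omega) (by omega)
              ·
                by_cases h87_90 : i < 88000
                ·
                  exact allB_sound fixedPair_87 i (by omega) (by omega)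
                ·
                  by_cases h88_90 : i < 89000
                  ·
                    exact allB_sound fixedPair_88 i (by omega) (by omega)
                  ·
                    exact allB_sound fixedPair_89 i (by omega) (by omega)
            ·
              by_cases h90_95 : i < 92000
              ·
                by_cases h90_92 : i < 91000
                ·
                  exact allB_sound fixedPair_90 i (by omega) (by omega)
                ·
                  exact allB_sound fixedPair_91 i (by omega) (by omega)
              ·
                by_cases h92_95 : i < 93000
                ·
                  exact allB_sound fixedPair_92 i (by omega) (by omega)
                ·
                  by_cases h93_95 : i < 94000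
                  ·
                    exact allB_sound fixedPair_93 i (by omega) (by omega)
                  ·
                    exact allB_sound fixedPair_94 i (by omega) (by omega)
        ·
          by_cases h95_114 : i < 104000
          ·
            by_cases h95_104 : i < 99000
            ·
              by_cases h95_99 : i < 97000
              ·
                by_cases h95_97 : i < 96000
                ·
                  exact allB_sound fixedPair_95 i (by omega) (by omega)
                ·
                  exact allB_sound fixedPair_96 i (by omega) (by omega)
              ·
                by_cases h97_99 : i < 98000
                ·
                  exact allB_sound fixedPair_97 i (by omega) (by omega)
                ·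
                  exact allB_sound fixedPair_98 i (by omega) (by omega)
            ·
              by_cases h99_104 : i < 101000
              ·
                by_cases h99_101 : i < 100000
                ·
                  exact allB_sound fixedPair_99 i (by omega) (by omega)
                ·
                  exact allB_sound fixedPair_100 i (by omega) (by omega)
              ·
                by_cases h101_104 : i < 102000
                ·
                  exact allB_sound fixedPair_101 i (by omega) (by omega)
                ·
                  by_cases h102_104 : i < 103000
                  ·
                    exact allB_sound fixedPair_102 i (by omega) (by omega)
                  ·
                    exact allB_sound fixedPair_103 i (by omega) (by omega)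
          ·
            by_cases h104_114 : i < 109000
            ·
              by_cases h104_109 : i < 106000
              ·
                by_cases h104_106 : i < 105000
                ·
                  exact allB_sound fixedPair_104 i (by omega) (by omega)
                ·
                  exact allB_sound fixedPair_105 i (by omega) (by omega)
              ·
                by_cases h106_109 : i < 107000
                ·
                  exact allB_sound fixedPair_106 i (by omega) (by omega)
                ·
                  by_cases h107_109 : i < 108000
                  ·
                    exact allB_sound fixedPair_107 i (by omega) (by omega)
                  ·
                    exact allB_sound fixedPair_108 i (by omega) (by omega)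
            ·
              by_cases h109_114 : i < 111000
              ·
                by_cases h109_111 : i < 110000
                ·
                  exact allB_sound fixedPair_109 i (by omega) (by omega)
                ·
                  exact allB_sound fixedPair_110 i (by omega) (by omega)
              ·
                by_cases h111_114 : i < 112000
                ·
                  exact allB_sound fixedPair_111 i (by omega) (by omega)
                ·
                  by_cases h112_114 : i < 113000
                  ·
                    exact allB_sound fixedPair_112 i (by omega) (by omega)
                  ·
                    exact allB_sound fixedPair_113 i (by omega) (by omega)
      ·
        by_cases h114_153 : i < 133000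
        ·
          by_cases h114_133 : i < 123000
          ·
            by_cases h114_123 : i < 118000
            ·
              by_cases h114_118 : i < 116000
              ·
                by_cases h114_116 : i < 115000
                ·
                  exact allB_sound fixedPair_114 i (by omega) (by omega)
                ·
                  exact allB_sound fixedPair_115 i (by omega) (by omega)
              ·
                by_cases h116_118 : i < 117000
                ·
                  exact allB_sound fixedPair_116 i (by omega) (by omega)
                ·
                  exact allB_sound fixedPair_117 i (by omega) (by omega)
            ·
              by_cases h118_123 : i < 120000
              ·
                by_cases h118_120 : i < 119000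
                ·
                  exact allB_sound fixedPair_118 i (by omega) (by omega)
                ·
                  exact allB_sound fixedPair_119 i (by omega) (by omega)
              ·
                by_cases h120_123 : i < 121000
                ·
                  exact allB_sound fixedPair_120 i (by omega) (by omega)
                ·
                  by_cases h121_123 : i < 122000
                  ·
                    exact allB_sound fixedPair_121 i (by omega) (by omega)
                  ·
                    exact allB_sound fixedPair_122 i (by omega) (by omega)
          ·
            by_cases h123_133 : i < 128000
            ·
              by_cases h123_128 : i < 125000
              ·
                by_cases h123_125 : i < 124000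
                ·
                  exact allB_sound fixedPair_123 i (by omega) (by omega)
                ·
                  exact allB_sound fixedPair_124 i (by omega) (by omega)
              ·
                by_cases h125_128 : i < 126000
                ·
                  exact allB_sound fixedPair_125 i (by omega) (by omega)
                ·
                  by_cases h126_128 : i < 127000
                  ·
                    exact allB_sound fixedPair_126 i (by omega) (by omega)
                  ·
                    exact allB_sound fixedPair_127 i (by omega) (by omega)
            ·
              by_cases h128_133 : i < 130000
              ·
                by_cases h128_130 : i < 129000
                ·
                  exact allB_sound fixedPair_128 i (by omega) (by omega)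
                ·
                  exact allB_sound fixedPair_129 i (by omega) (by omega)
              ·
                by_cases h130_133 : i < 131000
                ·
                  exact allB_sound fixedPair_130 i (by omega) (by omega)
                ·
                  by_cases h131_133 : i < 132000
                  ·
                    exact allB_sound fixedPair_131 i (by omega) (by omega)
                  ·
                    exact allB_sound fixedPair_132 i (by omega) (by omega)
        ·
          by_cases h133_153 : i < 143000
          ·
            by_cases h133_143 : i < 138000
            ·
              by_cases h133_138 : i < 135000
              ·
                by_cases h133_135 : i < 134000
                ·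
                  exact allB_sound fixedPair_133 i (by omega) (by omega)
                ·
                  exact allB_sound fixedPair_134 i (by omega) (by omega)
              ·
                by_cases h135_138 : i < 136000
                ·
                  exact allB_sound fixedPair_135 i (by omega) (by omega)
                ·
                  by_cases h136_138 : i < 137000
                  ·
                    exact allB_sound fixedPair_136 i (by omega) (by omega)
                  ·
                    exact allB_sound fixedPair_137 i (by omega) (by omega)
            ·
              by_cases h138_143 : i < 140000
              ·
                by_cases h138_140 : i < 139000
                ·
                  exact allB_sound fixedPair_138 i (by omega) (by omega)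
                ·
                  exact allB_sound fixedPair_139 i (by omega) (by omega)
              ·
                by_cases h140_143 : i < 141000
                ·
                  exact allB_sound fixedPair_140 i (by omega) (by omega)
                ·
                  by_cases h141_143 : i < 142000
                  ·
                    exact allB_sound fixedPair_141 i (by omega) (by omega)
                  ·
                    exact allB_sound fixedPair_142 i (by omega) (by omega)
          ·
            by_cases h143_153 : i < 148000
            ·
              by_cases h143_148 : i < 145000
              ·
                by_cases h143_145 : i < 144000
                ·
                  exact allB_sound fixedPair_143 i (by omega) (by omega)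
                ·
                  exact allB_sound fixedPair_144 i (by omega) (by omega)
              ·
                by_cases h145_148 : i < 146000
                ·
                  exact allB_sound fixedPair_145 i (by omega) (by omega)
                ·
                  by_cases h146_148 : i < 147000
                  ·
                    exact allB_sound fixedPair_146 i (by omega) (by omega)
                  ·
                    exact allB_sound fixedPair_147 i (by omega) (by omega)
            ·
              by_cases h148_153 : i < 150000
              ·
                by_cases h148_150 : i < 149000
                ·
                  exact allB_sound fixedPair_148 i (by omega) (by omega)
                ·
                  exact allB_sound fixedPair_149 i (by omega) (by omega)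
              ·
                by_cases h150_153 : i < 151000
                ·
                  exact allB_sound fixedPair_150 i (by omega) (by omega)
                ·
                  by_cases h151_153 : i < 152000
                  ·
                    exact allB_sound fixedPair_151 i (by omega) (by omega)
                  ·
                    exact allB_sound fixedPair_152 i (by omega) (by omega)
  ·
    by_cases h153_307 : i < 230000
    ·
      by_cases h153_230 : i < 191000
      ·
        by_cases h153_191 : i < 172000
        ·
          by_cases h153_172 : i < 162000
          ·
            by_cases h153_162 : i < 157000
            ·
              by_cases h153_157 : i < 155000
              ·
                by_cases h153_155 : i < 154000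
                ·
                  exact allB_sound fixedPair_153 i (by omega) (by omega)
                ·
                  exact allB_sound fixedPair_154 i (by omega) (by omega)
              ·
                by_cases h155_157 : i < 156000
                ·
                  exact allB_sound fixedPair_155 i (by omega) (by omega)
                ·
                  exact allB_sound fixedPair_156 i (by omega) (by omega)
            ·
              by_cases h157_162 : i < 159000
              ·
                by_cases h157_159 : i < 158000
                ·
                  exact allB_sound fixedPair_157 i (by omega) (by omega)
                ·
                  exact allB_sound fixedPair_158 i (by omega) (by omega)
              ·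
                by_cases h159_162 : i < 160000
                ·
                  exact allB_sound fixedPair_159 i (by omega) (by omega)
                ·
                  by_cases h160_162 : i < 161000
                  ·
                    exact allB_sound fixedPair_160 i (by omega) (by omega)
                  ·
                    exact allB_sound fixedPair_161 i (by omega) (by omega)
          ·
            by_cases h162_172 : i < 167000
            ·
              by_cases h162_167 : i < 164000
              ·
                by_cases h162_164 : i < 163000
                ·
                  exact allB_sound fixedPair_162 i (by omega) (by omega)
                ·
                  exact allB_sound fixedPair_163 i (by omega) (by omega)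
              ·
                by_cases h164_167 : i < 165000
                ·
                  exact allB_sound fixedPair_164 i (by omega) (by omega)
                ·
                  by_cases h165_167 : i < 166000
                  ·
                    exact allB_sound fixedPair_165 i (by omega) (by omega)
                  ·
                    exact allB_sound fixedPair_166 i (by omega) (by omega)
            ·
              by_cases h167_172 : i < 169000
              ·
                by_cases h167_169 : i < 168000
                ·
                  exact allB_sound fixedPair_167 i (by omega) (by omega)
                ·
                  exact allB_sound fixedPair_168 i (by omega) (by omega)
              ·
                by_cases h169_172 : i < 170000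
                ·
                  exact allB_sound fixedPair_169 i (by omega) (by omega)
                ·
                  by_cases h170_172 : i < 171000
                  ·
                    exact allB_sound fixedPair_170 i (by omega) (by omega)
                  ·
                    exact allB_sound fixedPair_171 i (by omega) (by omega)
        ·
          by_cases h172_191 : i < 181000
          ·
            by_cases h172_181 : i < 176000
            ·
              by_cases h172_176 : i < 174000
              ·
                by_cases h172_174 : i < 173000
                ·
                  exact allB_sound fixedPair_172 i (by omega) (by omega)
                ·
                  exact allB_sound fixedPair_173 i (by omega) (by omega)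
              ·
                by_cases h174_176 : i < 175000
                ·
                  exact allB_sound fixedPair_174 i (by omega) (by omega)
                ·
                  exact allB_sound fixedPair_175 i (by omega) (by omega)
            ·
              by_cases h176_181 : i < 178000
              ·
                by_cases h176_178 : i < 177000
                ·
                  exact allB_sound fixedPair_176 i (by omega) (by omega)
                ·
                  exact allB_sound fixedPair_177 i (by omega) (by omega)
              ·
                by_cases h178_181 : i < 179000
                ·
                  exact allB_sound fixedPair_178 i (by omega) (by omega)
                ·
                  by_cases h179_181 : i < 180000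
                  ·
                    exact allB_sound fixedPair_179 i (by omega) (by omega)
                  ·
                    exact allB_sound fixedPair_180 i (by omega) (by omega)
          ·
            by_cases h181_191 : i < 186000
            ·
              by_cases h181_186 : i < 183000
              ·
                by_cases h181_183 : i < 182000
                ·
                  exact allB_sound fixedPair_181 i (by omega) (by omega)
                ·
                  exact allB_sound fixedPair_182 i (by omega) (by omega)
              ·
                by_cases h183_186 : i < 184000
                ·
                  exact allB_sound fixedPair_183 i (by omega) (by omega)
                ·
                  by_cases h184_186 : i < 185000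
                  ·
                    exact allB_sound fixedPair_184 i (by omega) (by omega)
                  ·
                    exact allB_sound fixedPair_185 i (by omega) (by omega)
            ·
              by_cases h186_191 : i < 188000
              ·
                by_cases h186_188 : i < 187000
                ·
                  exact allB_sound fixedPair_186 i (by omega) (by omega)
                ·
                  exact allB_sound fixedPair_187 i (by omega) (by omega)
              ·
                by_cases h188_191 : i < 189000
                ·
                  exact allB_sound fixedPair_188 i (by omega) (by omega)
                ·
                  by_cases h189_191 : i < 190000
                  ·
                    exact allB_sound fixedPair_189 i (by omega) (by omega)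
                  ·
                    exact allB_sound fixedPair_190 i (by omega) (by omega)
      ·
        by_cases h191_230 : i < 210000
        ·
          by_cases h191_210 : i < 200000
          ·
            by_cases h191_200 : i < 195000
            ·
              by_cases h191_195 : i < 193000
              ·
                by_cases h191_193 : i < 192000
                ·
                  exact allB_sound fixedPair_191 i (by omega) (by omega)
                ·
                  exact allB_sound fixedPair_192 i (by omega) (by omega)
              ·
                by_cases h193_195 : i < 194000
                ·
                  exact allB_sound fixedPair_193 i (by omega) (by omega)
                ·
                  exact allB_sound fixedPair_194 i (by omega) (by omega)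
            ·
              by_cases h195_200 : i < 197000
              ·
                by_cases h195_197 : i < 196000
                ·
                  exact allB_sound fixedPair_195 i (by omega) (by omega)
                ·
                  exact allB_sound fixedPair_196 i (by omega) (by omega)
              ·
                by_cases h197_200 : i < 198000
                ·
                  exact allB_sound fixedPair_197 i (by omega) (by omega)
                ·
                  by_cases h198_200 : i < 199000
                  ·
                    exact allB_sound fixedPair_198 i (by omega) (by omega)
                  ·
                    exact allB_sound fixedPair_199 i (by omega) (by omega)
          ·
            by_cases h200_210 : i < 205000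
            ·
              by_cases h200_205 : i < 202000
              ·
                by_cases h200_202 : i < 201000
                ·
                  exact allB_sound fixedPair_200 i (by omega) (by omega)
                ·
                  exact allB_sound fixedPair_201 i (by omega) (by omega)
              ·
                by_cases h202_205 : i < 203000
                ·
                  exact allB_sound fixedPair_202 i (by omega) (by omega)
                ·
                  by_cases h203_205 : i < 204000
                  ·
                    exact allB_sound fixedPair_203 i (by omega) (by omega)
                  ·
                    exact allB_sound fixedPair_204 i (by omega) (by omega)
            ·
              by_cases h205_210 : i < 207000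
              ·
                by_cases h205_207 : i < 206000
                ·
                  exact allB_sound fixedPair_205 i (by omega) (by omega)
                ·
                  exact allB_sound fixedPair_206 i (by omega) (by omega)
              ·
                by_cases h207_210 : i < 208000
                ·
                  exact allB_sound fixedPair_207 i (by omega) (by omega)
                ·
                  by_cases h208_210 : i < 209000
                  ·
                    exact allB_sound fixedPair_208 i (by omega) (by omega)
                  ·
                    exact allB_sound fixedPair_209 i (by omega) (by omega)
        ·
          by_cases h210_230 : i < 220000
          ·
            by_cases h210_220 : i < 215000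
            ·
              by_cases h210_215 : i < 212000
              ·
                by_cases h210_212 : i < 211000
                ·
                  exact allB_sound fixedPair_210 i (by omega) (by omega)
                ·
                  exact allB_sound fixedPair_211 i (by omega) (by omega)
              ·
                by_cases h212_215 : i < 213000
                ·
                  exact allB_sound fixedPair_212 i (by omega) (by omega)
                ·
                  by_cases h213_215 : i < 214000
                  ·
                    exact allB_sound fixedPair_213 i (by omega) (by omega)
                  ·
                    exact allB_sound fixedPair_214 i (by omega) (by omega)
            ·
              by_cases h215_220 : i < 217000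
              ·
                by_cases h215_217 : i < 216000
                ·
                  exact allB_sound fixedPair_215 i (by omega) (by omega)
                ·
                  exact allB_sound fixedPair_216 i (by omega) (by omega)
              ·
                by_cases h217_220 : i < 218000
                ·
                  exact allB_sound fixedPair_217 i (by omega) (by omega)
                ·
                  by_cases h218_220 : i < 219000
                  ·
                    exact allB_sound fixedPair_218 i (by omega) (by omega)
                  ·
                    exact allB_sound fixedPair_219 i (by omega) (by omega)
          ·
            by_cases h220_230 : i < 225000
            ·
              by_cases h220_225 : i < 222000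
              ·
                by_cases h220_222 : i < 221000
                ·
                  exact allB_sound fixedPair_220 i (by omega) (by omega)
                ·
                  exact allB_sound fixedPair_221 i (by omega) (by omega)
              ·
                by_cases h222_225 : i < 223000
                ·
                  exact allB_sound fixedPair_222 i (by omega) (by omega)
                ·
                  by_cases h223_225 : i < 224000
                  ·
                    exact allB_sound fixedPair_223 i (by omega) (by omega)
                  ·
                    exact allB_sound fixedPair_224 i (by omega) (by omega)
            ·
              by_cases h225_230 : i < 227000
              ·
                by_cases h225_227 : i < 226000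
                ·
                  exact allB_sound fixedPair_225 i (by omega) (by omega)
                ·
                  exact allB_sound fixedPair_226 i (by omega) (by omega)
              ·
                by_cases h227_230 : i < 228000
                ·
                  exact allB_sound fixedPair_227 i (by omega) (by omega)
                ·
                  by_cases h228_230 : i < 229000
                  ·
                    exact allB_sound fixedPair_228 i (by omega) (by omega)
                  ·
                    exact allB_sound fixedPair_229 i (by omega) (by omega)
    ·
      by_cases h230_307 : i < 268000
      ·
        by_cases h230_268 : i < 249000
        ·
          by_cases h230_249 : i < 239000
          ·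
            by_cases h230_239 : i < 234000
            ·
              by_cases h230_234 : i < 232000
              ·
                by_cases h230_232 : i < 231000
                ·
                  exact allB_sound fixedPair_230 i (by omega) (by omega)
                ·
                  exact allB_sound fixedPair_231 i (by omega) (by omega)
              ·
                by_cases h232_234 : i < 233000
                ·
                  exact allB_sound fixedPair_232 i (by omega) (by omega)
                ·
                  exact allB_sound fixedPair_233 i (by omega) (by omega)
            ·
              by_cases h234_239 : i < 236000
              ·
                by_cases h234_236 : i < 235000
                ·
                  exact allB_sound fixedPair_234 i (by omega) (by omega)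
                ·
                  exact allB_sound fixedPair_235 i (by omega) (by omega)
              ·
                by_cases h236_239 : i < 237000
                ·
                  exact allB_sound fixedPair_236 i (by omega) (by omega)
                ·
                  by_cases h237_239 : i < 238000
                  ·
                    exact allB_sound fixedPair_237 i (by omega) (by omega)
                  ·
                    exact allB_sound fixedPair_238 i (by omega) (by omega)
          ·
            by_cases h239_249 : i < 244000
            ·
              by_cases h239_244 : i < 241000
              ·
                by_cases h239_241 : i < 240000
                ·
                  exact allB_sound fixedPair_239 i (by omega) (by omega)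
                ·
                  exact allB_sound fixedPair_240 i (by omega) (by omega)
              ·
                by_cases h241_244 : i < 242000
                ·
                  exact allB_sound fixedPair_241 i (by omega) (by omega)
                ·
                  by_cases h242_244 : i < 243000
                  ·
                    exact allB_sound fixedPair_242 i (by omega) (by omega)
                  ·
                    exact allB_sound fixedPair_243 i (by omega) (by omega)
            ·
              by_cases h244_249 : i < 246000
              ·
                by_cases h244_246 : i < 245000
                ·
                  exact allB_sound fixedPair_244 i (by omega) (by omega)
                ·
                  exact allB_sound fixedPair_245 i (by omega) (by omega)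
              ·
                by_cases h246_249 : i < 247000
                ·
                  exact allB_sound fixedPair_246 i (by omega) (by omega)
                ·
                  by_cases h247_249 : i < 248000
                  ·
                    exact allB_sound fixedPair_247 i (by omega) (by omega)
                  ·
                    exact allB_sound fixedPair_248 i (by omega) (by omega)
        ·
          by_cases h249_268 : i < 258000
          ·
            by_cases h249_258 : i < 253000
            ·
              by_cases h249_253 : i < 251000
              ·
                by_cases h249_251 : i < 250000
                ·
                  exact allB_sound fixedPair_249 i (by omega) (by omega)
                ·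
                  exact allB_sound fixedPair_250 i (by omega) (by omega)
              ·
                by_cases h251_253 : i < 252000
                ·
                  exact allB_sound fixedPair_251 i (by omega) (by omega)
                ·
                  exact allB_sound fixedPair_252 i (by omega) (by omega)
            ·
              by_cases h253_258 : i < 255000
              ·
                by_cases h253_255 : i < 254000
                ·
                  exact allB_sound fixedPair_253 i (by omega) (by omega)
                ·
                  exact allB_sound fixedPair_254 i (by omega) (by omega)
              ·
                by_cases h255_258 : i < 256000
                ·
                  exact allB_sound fixedPair_255 i (by omega) (by omega)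
                ·
                  by_cases h256_258 : i < 257000
                  ·
                    exact allB_sound fixedPair_256 i (by omega) (by omega)
                  ·
                    exact allB_sound fixedPair_257 i (by omega) (by omega)
          ·
            by_cases h258_268 : i < 263000
            ·
              by_cases h258_263 : i < 260000
              ·
                by_cases h258_260 : i < 259000
                ·
                  exact allB_sound fixedPair_258 i (by omega) (by omega)
                ·
                  exact allB_sound fixedPair_259 i (by omega) (by omega)
              ·
                by_cases h260_263 : i < 261000
                ·
                  exact allB_sound fixedPair_260 i (by omega) (by omega)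
                ·
                  by_cases h261_263 : i < 262000
                  ·
                    exact allB_sound fixedPair_261 i (by omega) (by omega)
                  ·
                    exact allB_sound fixedPair_262 i (by omega) (by omega)
            ·
              by_cases h263_268 : i < 265000
              ·
                by_cases h263_265 : i < 264000
                ·
                  exact allB_sound fixedPair_263 i (by omega) (by omega)
                ·
                  exact allB_sound fixedPair_264 i (by omega) (by omega)
              ·
                by_cases h265_268 : i < 266000
                ·
                  exact allB_sound fixedPair_265 i (by omega) (by omega)
                ·
                  by_cases h266_268 : i < 267000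
                  ·
                    exact allB_sound fixedPair_266 i (by omega) (by omega)
                  ·
                    exact allB_sound fixedPair_267 i (by omega) (by omega)
      ·
        by_cases h268_307 : i < 287000
        ·
          by_cases h268_287 : i < 277000
          ·
            by_cases h268_277 : i < 272000
            ·
              by_cases h268_272 : i < 270000
              ·
                by_cases h268_270 : i < 269000
                ·
                  exact allB_sound fixedPair_268 i (by omega) (by omega)
                ·
                  exact allB_sound fixedPair_269 i (by omega) (by omega)
              ·
                by_cases h270_272 : i < 271000
                ·
                  exact allB_sound fixedPair_270 i (by omega) (by omega)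
                ·
                  exact allB_sound fixedPair_271 i (by omega) (by omega)
            ·
              by_cases h272_277 : i < 274000
              ·
                by_cases h272_274 : i < 273000
                ·
                  exact allB_sound fixedPair_272 i (by omega) (by omega)
                ·
                  exact allB_sound fixedPair_273 i (by omega) (by omega)
              ·
                by_cases h274_277 : i < 275000
                ·
                  exact allB_sound fixedPair_274 i (by omega) (by omega)
                ·
                  by_cases h275_277 : i < 276000
                  ·
                    exact allB_sound fixedPair_275 i (by omega) (by omega)
                  ·
                    exact allB_sound fixedPair_276 i (by omega) (by omega)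
          ·
            by_cases h277_287 : i < 282000
            ·
              by_cases h277_282 : i < 279000
              ·
                by_cases h277_279 : i < 278000
                ·
                  exact allB_sound fixedPair_277 i (by omega) (by omega)
                ·
                  exact allB_sound fixedPair_278 i (by omega) (by omega)
              ·
                by_cases h279_282 : i < 280000
                ·
                  exact allB_sound fixedPair_279 i (by omega) (by omega)
                ·
                  by_cases h280_282 : i < 281000
                  ·
                    exact allB_sound fixedPair_280 i (by omega) (by omega)
                  ·
                    exact allB_sound fixedPair_281 i (by omega) (by omega)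
            ·
              by_cases h282_287 : i < 284000
              ·
                by_cases h282_284 : i < 283000
                ·
                  exact allB_sound fixedPair_282 i (by omega) (by omega)
                ·
                  exact allB_sound fixedPair_283 i (by omega) (by omega)
              ·
                by_cases h284_287 : i < 285000
                ·
                  exact allB_sound fixedPair_284 i (by omega) (by omega)
                ·
                  by_cases h285_287 : i < 286000
                  ·
                    exact allB_sound fixedPair_285 i (by omega) (by omega)
                  ·
                    exact allB_sound fixedPair_286 i (by omega) (by omega)
        ·
          by_cases h287_307 : i < 297000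
          ·
            by_cases h287_297 : i < 292000
            ·
              by_cases h287_292 : i < 289000
              ·
                by_cases h287_289 : i < 288000
                ·
                  exact allB_sound fixedPair_287 i (by omega) (by omega)
                ·
                  exact allB_sound fixedPair_288 i (by omega) (by omega)
              ·
                by_cases h289_292 : i < 290000
                ·
                  exact allB_sound fixedPair_289 i (by omega) (by omega)
                ·
                  by_cases h290_292 : i < 291000
                  ·
                    exact allB_sound fixedPair_290 i (by omega) (by omega)
                  ·
                    exact allB_sound fixedPair_291 i (by omega) (by omega)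
            ·
              by_cases h292_297 : i < 294000
              ·
                by_cases h292_294 : i < 293000
                ·
                  exact allB_sound fixedPair_292 i (by omega) (by omega)
                ·
                  exact allB_sound fixedPair_293 i (by omega) (by omega)
              ·
                by_cases h294_297 : i < 295000
                ·
                  exact allB_sound fixedPair_294 i (by omega) (by omega)
                ·
                  by_cases h295_297 : i < 296000
                  ·
                    exact allB_sound fixedPair_295 i (by omega) (by omega)
                  ·
                    exact allB_sound fixedPair_296 i (by omega) (by omega)
          ·
            by_cases h297_307 : i < 302000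
            ·
              by_cases h297_302 : i < 299000
              ·
                by_cases h297_299 : i < 298000
                ·
                  exact allB_sound fixedPair_297 i (by omega) (by omega)
                ·
                  exact allB_sound fixedPair_298 i (by omega) (by omega)
              ·
                by_cases h299_302 : i < 300000
                ·
                  exact allB_sound fixedPair_299 i (by omega) (by omega)
                ·
                  by_cases h300_302 : i < 301000
                  ·
                    exact allB_sound fixedPair_300 i (by omega) (by omega)
                  ·
                    exact allB_sound fixedPair_301 i (by omega) (by omega)
            ·
              by_cases h302_307 : i < 304000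
              ·
                by_cases h302_304 : i < 303000
                ·
                  exact allB_sound fixedPair_302 i (by omega) (by omega)
                ·
                  exact allB_sound fixedPair_303 i (by omega) (by omega)
              ·
                by_cases h304_307 : i < 305000
                ·
                  exact allB_sound fixedPair_304 i (by omega) (by omega)
                ·
                  by_cases h305_307 : i < 306000
                  ·
                    exact allB_sound fixedPair_305 i (by omega) (by omega)
                  ·
                    exact allB_sound fixedPair_306 i (by omega) (by omega)

end Cfsg.Lib.FiFour
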