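import Cfsg.Agent.FiFour.Transp
import Cfsg.Agent.FiFour.PairFix
import Cfsg.Agent.FiTwenty.Outer
import Cfsg.Agent.ThreeTransposition.M24Aut.MemberMap
import Cfsg.Prelude.Def_KGroupFacts

/-!
The automorphisms of the subgroup of index two are the conjugations by the whole group.
-/

set_option autoImplicit false
set_option maxRecDepth 100000

namespace Cfsg.Lib.FiFour

open Cfsg.Lib.CosetCert
open Cfsg.Lib.ONPres (force_eq)

attribute [local irreducible] rowF sevF lonF blkMask

theorem chi_transp {d : Cfsg.Spor.Fi24} (hd : d ∈ transp) : chi d = -1 := by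
  obtain ⟨g, rfl⟩ := mem_transp.1 hd
  rw [map_mul, map_mul, map_inv, mul_inv_cancel_comm, chi_im (by norm_num)]

theorem point_of_conj {g k : Cfsg.Spor.Fi24} (h : g * im 10 * g⁻¹ = k * im 10 * k⁻¹) : g • p0 = k • p0 := by
  have : k⁻¹ * g ∈ lgp im lamT := by
    rw [← centralizer_z, Subgroup.mem_centralizer_singleton_iff]
    calc k⁻¹ * g * im 10 = k⁻¹ * (g * im 10 * g⁻¹) * g := by group
      _ = k⁻¹ * (k * im 10 * k⁻¹) * g := by rw [h]
      _ = im 10 * (k⁻¹ * g) := by group
  rw [← inv_smul_eq_iff, ← mul_smul, eleven_fix this]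

/-- An automorphism of the even part moves the points in a way that respects the action. -/
theorem exists_point_map (hm : Cfsg.Lib.ThreeTr.M24 transp) (φ : evenPart ≃* evenPart) :
    ∃ f : Pts → Pts, ∀ (g : evenPart) (p : Pts), f (g.1 • p) = (φ g).1 • f p := by
  obtain ⟨ψ, hψ, heq⟩ := Cfsg.Lib.ThreeTr.M24Aut.exists_member_map hm chi (fun a ha => chi_transp ha) φ
  haveI := transitive
  choose k hk using fun p : Pts => MulAction.exists_smul_eq Cfsg.Spor.Fi24 p0 p
  choose w hw using fun p : Pts => mem_transp.1 (hψ _ (mem_transp.2 ⟨k p, rfl⟩))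
  refine ⟨fun p => w p • p0, fun g p => ?_⟩
  show w (g.1 • p) • p0 = (φ g).1 • w p • p0
  rw [← mul_smul]
  refine point_of_conj ?_
  have e1 : k (g.1 • p) * im 10 * (k (g.1 • p))⁻¹ = g.1 * (k p * im 10 * (k p)⁻¹) * g.1⁻¹ := by
    rw [conj_same (k := g.1 * k p) (by rw [mul_smul, hk, hk])]
    group
  have e2 := heq _ (mem_transp.2 ⟨k p, rfl⟩) g
  rw [← e1, ← hw, ← hw] at e2
  rw [e2]
  simp only [mul_inv_rev, mul_assoc]
  rfl

theorem pair_unmoved {m : ℕ} (hm : m < 11) {L : List ℕ} (hL : ∀ x ∈ L, x < 11) {q : Pts}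
    (hfix : ∀ x, (x = m ∨ x ∈ L) → mv x q.val = q.val) {r : Pts}
    (hr : ∀ k : evenPart, k.1 • p0 = p0 → k.1 • q = q → k.1 • r = r) :
    ∀ x ∈ L, mv x r.val = mv m r.val := by
  intro x hx
  have hev : im m * im x ∈ evenPart := by
    rw [evenPart, MonoidHom.mem_ker, map_mul, chi_im (by omega), chi_im (by have := hL x hx; omega)]
    rfl
  have := congrArg Fin.val (hr ⟨_, hev⟩ (eleven_fix (mul_mem (lgp_mem im (eleven_val hm))
    (lgp_mem im (eleven_val (hL x hx))))) (Fin.ext (by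
      rw [mul_smul, im_smul_val (by omega), im_smul_val (by have := hL x hx; omega), hfix x (Or.inr hx),
        hfix m (Or.inl rfl)])))
  rw [mul_smul, im_smul_val (by omega), im_smul_val (by have := hL x hx; omega)] at this
  have e := congrArg (mv m) this
  rwa [mv_mv (by omega) (mv_lt (by have := hL x hx; omega) r.isLt)] at e

theorem alikeF_of {e m : ℕ} : ∀ {w : List ℕ}, (∀ x ∈ w, fx e x = m) → alikeF e m w = true
  | [], _ => rfl
  | x :: w, h => by
    rw [alikeF, h x List.mem_cons_self, alikeF_of fun y hy => h y (List.mem_cons_of_mem x hy)]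
    simp

theorem fix_small : ∀ x ∈ ([0, 1, 2, 3, 4, 5, 6, 7, 8, 10] : List ℕ), mv x 1 = 1 := by decide +kernel

theorem fix_large : ∀ x ∈ ([1, 2, 3, 4, 5, 6, 7, 8, 9] : List ℕ), mv x 31672 = 31672 := by decide +kernel

theorem moved_large : mv 10 31672 = 60104 := by decide +kernel

/-- The points fixed with the first and one of the smaller suborbit. -/
theorem fixed_small {r : Pts} (hr : ∀ k : evenPart, k.1 • p0 = p0 → k.1 • pB = pB → k.1 • r = r) :
    r = p0 ∨ r = pB := by
  have h := pair_unmoved (m := 0) (by norm_num) (L := [1, 2, 3, 4, 5, 6, 7, 8, 10]) (by decide) (q := pB)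
    (fun x hx => fix_small x (by rcases hx with rfl | hx <;> simp at * <;> tauto)) hr
  have ok := fixedPair_ok r.val r.isLt
  rw [fixedPairOK, force_eq, Bool.and_eq_true] at ok
  have ha : alikeF (rowF r.val) (fx (rowF r.val) 0) [1, 2, 3, 4, 5, 6, 7, 8, 10] = true :=
    alikeF_of fun x hx => h x hx
  rw [ha] at ok
  simp only [Bool.not_true, Bool.false_or, Bool.or_eq_true] at ok
  rcases ok.1 with e | e
  · exact Or.inl (Fin.ext (Nat.eq_of_beq_eq_true e))
  · exact Or.inr (Fin.ext (Nat.eq_of_beq_eq_true e))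

/-- The points fixed with the first and one of the larger suborbit. -/
theorem fixed_large {r : Pts} (hr : ∀ k : evenPart, k.1 • p0 = p0 → k.1 • pA = pA → k.1 • r = r) :
    r = p0 ∨ r = pA ∨ r = im 10 • pA := by
  have h := pair_unmoved (m := 1) (by norm_num) (L := [2, 3, 4, 5, 6, 7, 8, 9]) (by decide) (q := pA)
    (fun x hx => fix_large x (by rcases hx with rfl | hx <;> simp at * <;> tauto)) hr
  have ok := fixedPair_ok r.val r.isLt
  rw [fixedPairOK, force_eq, Bool.and_eq_true] at ok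
  have ha : alikeF (rowF r.val) (fx (rowF r.val) 1) [2, 3, 4, 5, 6, 7, 8, 9] = true := alikeF_of fun x hx => h x hx
  rw [ha] at ok
  simp only [Bool.not_true, Bool.false_or, Bool.or_eq_true] at ok
  rcases ok.2 with e | e | e
  · exact Or.inl (Fin.ext (Nat.eq_of_beq_eq_true e))
  · exact Or.inr (Or.inl (Fin.ext (Nat.eq_of_beq_eq_true e)))
  · refine Or.inr (Or.inr (Fin.ext ?_))
    rw [im_smul_val (by norm_num)]
    exact (Nat.eq_of_beq_eq_true e).trans moved_large.symm

theorem ten_commutes {g : Cfsg.Spor.Fi24} (h : g • p0 = p0) : im 10 * g = g * im 10 :=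
  z_comm (by rw [← stab_first]; exact h)

theorem ten_small {p : Pts} (h : p.val ≤ 31671) : im 10 • p = p := by
  by_cases h0 : p.val = 0
  · rw [show p = p0 from Fin.ext h0]; exact eleven_fix (lgp_mem im (by decide))
  · rw [show p = emb ⟨p.val - 1, by omega⟩ from Fin.ext (show p.val = p.val - 1 + 1 by omega), agrees_ten, map_one]
    rfl

/-- A map of the points commuting with the even stabiliser. -/
theorem point_map_known {f : Pts → Pts} (h0 : f p0 = p0) (hinj : Function.Injective f)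
    (hf : ∀ (k : evenPart) (p : Pts), k.1 • p0 = p0 → f (k.1 • p) = k.1 • f p) :
    (∀ p, f p = p) ∨ ∀ p, f p = im 10 • p := by
  have hne : ∀ {p : Pts}, p ≠ p0 → f p ≠ p0 := fun hp e => hp (hinj (e.trans h0.symm))
  have hB : f pB = pB := (fixed_small fun k k0 kq => by rw [← hf k pB k0, kq]).resolve_left
    (hne fun e => absurd (congrArg Fin.val e) (by decide))
  have small : ∀ p : Pts, p.val ≤ 31671 → f p = p := by
    intro p hp
    by_cases hp0 : p.val = 0
    · rw [show p = p0 from Fin.ext hp0, h0]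
    obtain ⟨k, hk, k0, kp⟩ := even_suborbit (p := pB) (q := p)
      (Or.inr ⟨le_refl 1, show 1 ≤ 31671 by norm_num, Nat.pos_of_ne_zero hp0, hp⟩)
    rw [← kp, hf ⟨k, hk⟩ pB k0, hB]
  have large : ∀ {r : Pts}, f pA = r → ∀ p : Pts, 31672 ≤ p.val → ∃ k : evenPart, k.1 • p0 = p0 ∧
      p = k.1 • pA ∧ f p = k.1 • r := by
    intro r hr p hp
    obtain ⟨k, hk, k0, kp⟩ := even_suborbit (p := pA) (q := p) (Or.inl ⟨le_refl 31672, hp⟩)
    exact ⟨⟨k, hk⟩, k0, kp.symm, by rw [← kp, hf ⟨k, hk⟩ pA k0, hr]⟩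
  rcases (fixed_large fun k k0 kq => by rw [← hf k pA k0, kq]).resolve_left
      (hne fun e => absurd (congrArg Fin.val e) (by decide)) with hA | hA
  · refine Or.inl fun p => ?_
    rcases Nat.lt_or_ge p.val 31672 with h | h
    · exact small p (Nat.le_of_lt_succ h)
    · obtain ⟨k, -, e, e'⟩ := large hA p h
      rw [e', ← e]
  · refine Or.inr fun p => ?_
    rcases Nat.lt_or_ge p.val 31672 with h | h
    · rw [small p (Nat.le_of_lt_succ h), ten_small (Nat.le_of_lt_succ h)]
    · obtain ⟨k, k0, e, e'⟩ := large hA p h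
      rw [e', e, ← mul_smul, ← mul_smul, ten_commutes k0]

/-- The even stabiliser is the Fischer group of degree 23. -/
theorem evenStab_equiv : Nonempty (evenStab ≃* Cfsg.Spor.Fi23) := by
  have hmem : ∀ g : evenStab, g.1.1 ∈ lgp im lamT := fun g => by
    rw [← stab_first]
    exact MulAction.mem_stabilizer_iff.2 (mem_evenStab.1 g.2)
  let f : evenStab →* Cfsg.Spor.Fi23 :=
    { toFun := fun g => down ⟨g.1.1, hmem g⟩
      map_one' := map_one down
      map_mul' := fun a b => map_mul down ⟨a.1.1, hmem a⟩ ⟨b.1.1, hmem b⟩ }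
  have hinj : Function.Injective f := (injective_iff_map_eq_one f).2 fun g hg => by
    rcases eleven_facts.2.2 ⟨g.1.1, hmem g⟩ hg with e | e
    · exact Subtype.ext (Subtype.ext (congrArg (fun y : lgp im lamT => y.1) e))
    · exact absurd g.1.2 (by rw [show g.1.1 = im 10 from congrArg Subtype.val e]; exact even_fix_letter (by norm_num))
  have hsurj : Function.Surjective f := fun y => by
    obtain ⟨⟨g, hg⟩, rfl⟩ := down_surjective y
    rcases even_fix (x := 10) (by norm_num) hg with h | h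
    · exact ⟨⟨⟨g, h⟩, eleven_fix hg⟩, rfl⟩
    · refine ⟨⟨⟨g * im 10, h⟩, eleven_fix (mul_mem hg (lgp_mem im (by decide)))⟩, ?_⟩
      show down (⟨g, hg⟩ * zT) = _
      rw [map_mul, show down zT = 1 from down_eq agrees_ten, mul_one]
  exact ⟨MulEquiv.ofBijective f ⟨hinj, hsurj⟩⟩

/-- Every automorphism of the even part is a conjugation in the whole group. -/
theorem aut_is_conj (hm : Cfsg.Lib.ThreeTr.M24 transp) (φ : evenPart ≃* evenPart) :
    ∃ c : Cfsg.Spor.Fi24, ∀ g : evenPart, (φ g).1 = c * g.1 * c⁻¹ := by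
  obtain ⟨f, hf⟩ := exists_point_map hm φ
  have hsurj : Function.Surjective f := fun q => by
    obtain ⟨a, ha, h1⟩ := even_transitive (f p0)
    obtain ⟨b, hb, h2⟩ := even_transitive q
    refine ⟨(φ.symm (⟨b, hb⟩ * ⟨a, ha⟩⁻¹)).1 • p0, ?_⟩
    rw [hf, φ.apply_symm_apply]
    show (b * a⁻¹) • f p0 = q
    rw [mul_smul, ← h1, inv_smul_smul, h2]
  have hinj : Function.Injective f := Finite.injective_iff_surjective.2 hsurj
  obtain ⟨e, he, hep⟩ := even_transitive (f p0)
  -- afterwards the first point stays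
  have hstay : ∀ k : evenStab, MulAut.conj (⟨e, he⟩ : evenPart)⁻¹ (φ k.1) ∈ evenStab := fun k => by
    rw [mem_evenStab]
    show (e⁻¹ * (φ k.1).1 * e⁻¹⁻¹) • p0 = p0
    rw [inv_inv, mul_smul, mul_smul, hep, ← hf, mem_evenStab.1 k.2, ← hep, inv_smul_smul]
  let α : evenStab →* evenStab :=
    { toFun := fun k => ⟨_, hstay k⟩
      map_one' := Subtype.ext (by simp)
      map_mul' := fun a b => Subtype.ext (by simp [mul_assoc]) }
  have hα : Function.Bijective α := Finite.injective_iff_bijective.1 fun a b h => Subtype.ext (φ.injective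
    ((MulAut.conj (⟨e, he⟩ : evenPart)⁻¹).injective (congrArg Subtype.val h)))
  obtain ⟨ι⟩ := evenStab_equiv
  obtain ⟨y, hy⟩ : (ι.symm.trans ((MulEquiv.ofBijective α hα).trans ι) : MulAut Cfsg.Spor.Fi23) ∈
      Cfsg.Inn Cfsg.Spor.Fi23 := by
    rw [Subgroup.index_eq_one.1 ((Subgroup.index_eq_card _).trans Cfsg.Lib.FiTwenty.card_out)]
    exact Subgroup.mem_top _
  set j : evenStab := ι.symm y with hj
  have hαj : ∀ k : evenStab, α k = j * k * j⁻¹ := fun k => by
    have := DFunLike.congr_fun hy (ι k)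
    refine ι.injective ?_
    rw [map_mul, map_mul, map_inv, hj, ι.apply_symm_apply]
    simpa [MulAut.conj_apply] using this.symm
  set c₀ : Cfsg.Spor.Fi24 := e * j.1.1 with hc₀
  let f' : Pts → Pts := fun p => c₀⁻¹ • f p
  have hk : ∀ k : evenPart, k.1 • p0 = p0 → c₀⁻¹ * (φ k).1 * c₀ = k.1 := fun k k0 => by
    have h1 : e⁻¹ * (φ k).1 * e⁻¹⁻¹ = j.1.1 * k.1 * j.1.1⁻¹ :=
      congrArg (fun u : evenStab => u.1.1) (hαj ⟨k, k0⟩)
    calc c₀⁻¹ * (φ k).1 * c₀ = j.1.1⁻¹ * (e⁻¹ * (φ k).1 * e⁻¹⁻¹) * j.1.1 := by rw [hc₀]; group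
      _ = k.1 := by rw [h1]; group
  have key := point_map_known (f := f') (by
      show c₀⁻¹ • f p0 = p0
      rw [hc₀, mul_inv_rev, mul_smul, ← hep, inv_smul_smul, inv_smul_eq_iff]
      exact (mem_evenStab.1 j.2).symm)
    (fun a b h => hinj ((MulAction.injective c₀⁻¹) h))
    (fun k p k0 => by
      show c₀⁻¹ • f (k.1 • p) = k.1 • c₀⁻¹ • f p
      rw [hf, ← mul_smul, ← mul_smul, ← hk k k0, mul_inv_cancel_right])
  obtain ⟨t, ht⟩ : ∃ t : Cfsg.Spor.Fi24, ∀ p, f' p = t • p := by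
    rcases key with h | h
    · exact ⟨1, fun p => by rw [h, one_smul]⟩
    · exact ⟨im 10, h⟩
  refine ⟨c₀ * t, fun g => ?_⟩
  have hall : ∀ p : Pts, ((c₀ * t)⁻¹ * (φ g).1 * (c₀ * t) * g.1⁻¹) • p = p := fun p => by
    have h1 : ∀ q, f q = (c₀ * t) • q := fun q => by rw [mul_smul, ← ht]; exact (smul_inv_smul c₀ (f q)).symm
    rw [mul_smul, mul_smul, mul_smul, ← h1, ← hf, smul_inv_smul, h1, inv_smul_smul]
  have := eq_one_of_fix hall
  rw [mul_inv_eq_one] at this
  rw [← this]
  group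

instance evenPart_normal : evenPart.Normal := MonoidHom.normal_ker chi

/-- The eleventh letter acting on the even part. -/
noncomputable def tenConj : MulAut evenPart := MulAut.conjNormal (H := evenPart) (im 10)

theorem centralizes_even {c : Cfsg.Spor.Fi24} (h : ∀ g : evenPart, c * g.1 = g.1 * c) : c = 1 := by
  have h0 : c • p0 = p0 := by
    by_contra hne
    have hpos : 1 ≤ (c • p0 : Pts).val := Nat.pos_of_ne_zero fun e => hne (Fin.ext e)
    have key : ∀ k ∈ evenPart, k • p0 = p0 → k • (c • p0) = c • p0 := fun k hk k0 => by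
      rw [← mul_smul, ← h ⟨k, hk⟩, mul_smul, k0]
    rcases Nat.lt_or_ge (c • p0 : Pts).val 31672 with hv | hv
    · obtain ⟨q, hq, hq'⟩ : ∃ q : Pts, (1 ≤ q.val ∧ q.val ≤ 31671) ∧ q ≠ c • p0 := by
        by_cases e : (c • p0 : Pts).val = 1
        · exact ⟨⟨2, by norm_num⟩, ⟨show 1 ≤ 2 by norm_num, show 2 ≤ 31671 by norm_num⟩,
            fun e' => absurd ((congrArg Fin.val e').trans e) (by decide)⟩
        · exact ⟨pB, ⟨le_refl 1, show 1 ≤ 31671 by norm_num⟩, fun e' => e (congrArg Fin.val e').symm⟩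
      obtain ⟨k, hk, k0, kp⟩ := even_suborbit (p := c • p0) (q := q) (Or.inr ⟨hpos, by omega, hq.1, hq.2⟩)
      exact hq' (kp.symm.trans (key k hk k0))
    · obtain ⟨q, hq, hq'⟩ : ∃ q : Pts, 31672 ≤ q.val ∧ q ≠ c • p0 := by
        by_cases e : (c • p0 : Pts).val = 31672
        · exact ⟨⟨31673, by norm_num⟩, show 31672 ≤ 31673 by norm_num,
            fun e' => absurd ((congrArg Fin.val e').trans e) (show (31673 : ℕ) ≠ 31672 by norm_num)⟩
        · exact ⟨pA, le_refl 31672, fun e' => e (congrArg Fin.val e').symm⟩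
      obtain ⟨k, hk, k0, kp⟩ := even_suborbit (p := c • p0) (q := q) (Or.inl ⟨hv, hq⟩)
      exact hq' (kp.symm.trans (key k hk k0))
  refine eq_one_of_fix fun p => ?_
  obtain ⟨g, hg, rfl⟩ := even_transitive p
  rw [← mul_smul, h ⟨g, hg⟩, mul_smul, h0]

theorem card_out_even (hm : Cfsg.Lib.ThreeTr.M24 transp) : Nat.card (Cfsg.Out evenPart) = 2 := by
  rw [← Subgroup.index_eq_card, Subgroup.index_eq_two_iff]
  have hval : ∀ (x : Cfsg.Spor.Fi24) (g : evenPart), (MulAut.conjNormal (H := evenPart) x g).1 = x * g.1 * x⁻¹ :=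
    fun x g => MulAut.conjNormal_apply x g
  have hout : tenConj ∉ Cfsg.Inn evenPart := by
    rintro ⟨e, he⟩
    have hc : e.1⁻¹ * im 10 = 1 := centralizes_even fun g => by
      have := congrArg Subtype.val (DFunLike.congr_fun he g)
      rw [tenConj, hval] at this
      have h1 : e.1 * g.1 * e.1⁻¹ = im 10 * g.1 * (im 10)⁻¹ := this
      calc e.1⁻¹ * im 10 * g.1 = e.1⁻¹ * (im 10 * g.1 * (im 10)⁻¹) * im 10 := by group
        _ = e.1⁻¹ * (e.1 * g.1 * e.1⁻¹) * im 10 := by rw [h1]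
        _ = g.1 * (e.1⁻¹ * im 10) := by group
    rw [inv_mul_eq_one] at hc
    exact even_fix_letter (by norm_num) (hc ▸ e.2)
  refine ⟨tenConj, fun φ => ?_⟩
  obtain ⟨c, hc⟩ := aut_is_conj hm φ
  have hφ : φ = MulAut.conjNormal (H := evenPart) c := MulEquiv.ext fun g => Subtype.ext (by rw [hval]; exact hc g)
  rcases Int.units_eq_one_or (chi c) with h | h
  · have hin : φ ∈ Cfsg.Inn evenPart := ⟨⟨c, h⟩, MulEquiv.ext fun g => Subtype.ext (hc g).symm⟩
    exact Or.inr ⟨hin, fun hh => hout ((Subgroup.mul_mem_cancel_left _ hin).1 hh)⟩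
  · have hin : φ * tenConj ∈ Cfsg.Inn evenPart := by
      refine ⟨⟨c * im 10, ?_⟩, MulEquiv.ext fun g => Subtype.ext ?_⟩
      · rw [evenPart, MonoidHom.mem_ker, map_mul, h, chi_im (by norm_num)]
        rfl
      · rw [hφ, tenConj, MulAut.mul_apply, hval, hval]
        show c * im 10 * g.1 * (c * im 10)⁻¹ = _
        group
    exact Or.inl ⟨hin, fun hh => hout ((Subgroup.mul_mem_cancel_left _ hh).1 hin)⟩

end Cfsg.Lib.FiFour
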