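import Cfsg.Agent.FiFour.Unique
import Cfsg.Agent.FiTypes.Three

/-!
The conjugates of the eleventh letter of the presented group on 306936 points are of type M(24).
-/

set_option autoImplicit false
set_option maxRecDepth 100000

namespace Cfsg.Lib.FiFour

open Cfsg Cfsg.Lib.CosetCert Cfsg.Lib.ThreeTr

attribute [local irreducible] rowF sevF lonF blkMask

theorem desc_image_three : descIso '' descSet transp (im 10) = Cfsg.Lib.FiTwenty.transp := by
  rw [descIso_image]
  exact (IsConj.conjugatesOf_eq Cfsg.Lib.FiTypes.zero_perp.1).symm

theorem desc_m23 : M23 (descSet transp (im 10)) := by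
  have h : descIso.symm '' Cfsg.Lib.FiTwenty.transp = descSet transp (im 10) := by
    rw [← desc_image_three, Set.image_image]
    simp
  exact h ▸ M23.mk' (group_image descIso.symm Cfsg.Lib.FiTypes.three_group)
    (prim_image descIso.symm Cfsg.Lib.FiTypes.three_primitive)
    (Cfsg.Lib.FiTypes.type23_congr descIso.symm Cfsg.Lib.FiTypes.three_type)

/-- The class is of type M(24). -/
theorem transp_type : Cfsg.Lib.ThreeTr.M24 transp := transp_m24 desc_m23

end Cfsg.Lib.FiFour
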