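import Cfsg.Agent.FiFour.Transp
import Cfsg.Agent.FiTypes.Basics
import Cfsg.Agent.FiTen.Main
import Cfsg.Agent.FiTwenty.Transp
import Cfsg.Agent.ThreeTransposition.M24Unique.Main

/-!
A group of type M(24) is the presented group with the conjugates of its eleventh letter.
-/

set_option autoImplicit false
set_option maxRecDepth 100000

namespace Cfsg.Lib.FiFour

open Cfsg Cfsg.Lib.CosetCert Cfsg.Lib.ThreeTr

attribute [local irreducible] rowF sevF lonF blkMask

universe u v

/-- A class along an isomorphism. -/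
theorem group_image {G : Type u} [Group G] {H : Type v} [Group H] (e : G ≃* H) {D : Set G}
    (h : IsThreeTranspositionGroup D) : IsThreeTranspositionGroup (e '' D) := by
  obtain ⟨⟨h1, h2⟩, hconj, hgen⟩ := h
  refine ⟨⟨?_, ?_⟩, ?_, ?_⟩
  · rintro _ ⟨x, hx, rfl⟩
    rw [e.orderOf_eq]
    exact h1 x hx
  · rintro _ ⟨x, hx, rfl⟩ _ ⟨y, hy, rfl⟩
    rcases h2 x hx y hy with k | k
    · exact Or.inl (by rw [← map_mul, ← map_pow, k, map_one])
    · exact Or.inr (by rw [← map_mul, ← map_pow, k, map_one])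
  · rintro g _ ⟨x, hx, rfl⟩
    obtain ⟨k, rfl⟩ := e.surjective g
    exact ⟨k * x * k⁻¹, hconj k x hx, by rw [map_mul, map_mul, map_inv]⟩
  · rw [show (e '' D) = e.toMonoidHom '' D from rfl, ← MonoidHom.map_closure, hgen,
      Subgroup.map_top_of_surjective _ e.surjective]

theorem prim_image {G : Type u} [Group G] {H : Type v} [Group H] (e : G ≃* H) {D : Set G}
    (h : IsPrimitiveUnderConj D) : IsPrimitiveUnderConj (e '' D) := by
  obtain ⟨h1, ⟨a, ha, b, hb, hab⟩, h3⟩ := h
  refine ⟨?_, ⟨e a, ⟨a, ha, rfl⟩, e b, ⟨b, hb, rfl⟩, fun k => hab (e.injective k)⟩, fun B hB hblk => ?_⟩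
  · rintro _ ⟨x, hx, rfl⟩ _ ⟨y, hy, rfl⟩
    obtain ⟨g, rfl⟩ := h1 x hx y hy
    exact ⟨e g, by rw [map_mul, map_mul, map_inv]⟩
  · have hBe : e '' (e ⁻¹' B) = B := Set.image_preimage_eq B e.surjective
    rcases h3 (e ⁻¹' B) (fun x hx => by
      obtain ⟨y, hy, hye⟩ := hB hx
      exact e.injective hye ▸ hy) (fun g => by
        have key : e '' ((fun x => g * x * g⁻¹) '' (e ⁻¹' B)) = (fun x => e g * x * (e g)⁻¹) '' B := by
          conv_rhs => rw [← hBe, Set.image_image]
          rw [Set.image_image]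
          exact Set.image_congr fun x _ => by rw [map_mul, map_mul, map_inv]
        rcases hblk (e g) with k | k
        · left
          exact e.injective.image_injective (key.trans (k.trans hBe.symm))
        · right
          rw [← key] at k
          exact (Set.disjoint_image_iff e.injective).1 (k.mono_right hBe.le)) with k | k
    · exact Or.inl (hBe ▸ k.image e)
    · exact Or.inr (by rw [← k, hBe])

/-- An element is the conjugate of the eleventh letter attached to a point. -/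
def Tied (t : Cfsg.Spor.Fi24) (p : Pts) : Prop := ∃ u : Cfsg.Spor.Fi24, u • p0 = p ∧ t = u * im 10 * u⁻¹

theorem tied_base : Tied (im 10) p0 := ⟨1, one_smul _ _, by group⟩

theorem Tied.commute {t : Cfsg.Spor.Fi24} {p : Pts} (h : Tied t p) {g : Cfsg.Spor.Fi24} (hg : g • p = p) :
    Commute g t := by
  obtain ⟨u, rfl, rfl⟩ := h
  have hk : u⁻¹ * g * u ∈ lgp im lamT := by
    rw [← stab_first, MulAction.mem_stabilizer_iff, mul_smul, mul_smul, hg, inv_smul_smul]
  have hc : u⁻¹ * g * u * im 10 = im 10 * (u⁻¹ * g * u) :=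
    congrArg Subtype.val (Subgroup.mem_center_iff.1 zT_center ⟨_, hk⟩)
  show g * (u * im 10 * u⁻¹) = u * im 10 * u⁻¹ * g
  calc g * (u * im 10 * u⁻¹) = u * (u⁻¹ * g * u * im 10) * u⁻¹ := by group
    _ = u * im 10 * u⁻¹ * g := by rw [hc]; group

/-- The point of a letter, as a point. -/
noncomputable def pt (x : ℕ) : Pts := wval im (carry x) • p0

theorem pt_val {x : ℕ} (hx : x < 12) : (pt x : Pts).val = letterPoint x :=
  smul_moves (carry_letters ⟨x, hx⟩) p0

theorem tied_all (x : ℕ) (hx : x < 12) : Tied (im x) (pt x) := ⟨_, rfl, (carry_conj x hx).symm⟩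

theorem Tied.mem {t : Cfsg.Spor.Fi24} {p : Pts} (h : Tied t p) : t ∈ transp :=
  mem_transp.2 (h.elim fun u hu => ⟨u, hu.2.symm⟩)

theorem exists_tied {t : Cfsg.Spor.Fi24} (h : t ∈ transp) : ∃ p, Tied t p := by
  obtain ⟨g, rfl⟩ := mem_transp.1 h
  exact ⟨g • p0, g, rfl, rfl⟩

theorem tied_point (p : Pts) : ∃ t, Tied t p := by
  haveI := transitive
  obtain ⟨g, hg⟩ := MulAction.exists_smul_eq Cfsg.Spor.Fi24 p0 p
  exact ⟨_, g, hg, rfl⟩

theorem Tied.conj {t : Cfsg.Spor.Fi24} {p : Pts} (h : Tied t p) (g : Cfsg.Spor.Fi24) : Tied (g * t * g⁻¹) (g • p) := by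
  obtain ⟨u, rfl, rfl⟩ := h
  exact ⟨g * u, mul_smul g u p0, by group⟩

theorem Tied.eq {t t' : Cfsg.Spor.Fi24} {p : Pts} (h : Tied t p) (h' : Tied t' p) : t = t' := by
  obtain ⟨u, hu, rfl⟩ := h
  have hfix : (u⁻¹ : Cfsg.Spor.Fi24) • p = p0 := by rw [← hu, inv_smul_smul]
  have h'' := h'.conj u⁻¹
  rw [hfix] at h''
  obtain ⟨k, hk, e⟩ := h''
  have := (tied_base.commute hk).eq
  rw [this, mul_inv_cancel_right] at e
  rw [← e]
  group

theorem small_smul {p q : Pts} (hp : 1 ≤ p.val ∧ p.val ≤ 31671) (hq : 1 ≤ q.val ∧ q.val ≤ 31671) :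
    ∃ h : lgp im lamT, h.1 • p = q := by
  haveI := Cfsg.Lib.FiTwenty.transitive
  obtain ⟨f, hf⟩ := MulAction.exists_smul_eq Cfsg.Spor.Fi23 (⟨p.val - 1, by omega⟩ : Fin 31671) ⟨q.val - 1, by omega⟩
  obtain ⟨g, hg⟩ := down_surjective f
  refine ⟨g, ?_⟩
  have e : ∀ {r : Pts} (h : 1 ≤ r.val ∧ r.val ≤ 31671), r = emb ⟨r.val - 1, by omega⟩ := fun h =>
    Fin.ext (show _ = _ - 1 + 1 by omega)
  refine ((congrArg (g.1 • ·) (e hp)).trans ((down_agrees g _).trans ?_)).trans (e hq).symm
  rw [hg]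
  exact congrArg emb hf

theorem ten_fix {p : Pts} (hp : 1 ≤ p.val ∧ p.val ≤ 31671) : im 10 • p = p := by
  have e : p = emb ⟨p.val - 1, by omega⟩ := Fin.ext (show p.val = p.val - 1 + 1 by omega)
  rw [e, agrees_ten, map_one]
  rfl

theorem ten_move {p : Pts} (hp : 31672 ≤ p.val) : im 10 • p ≠ p := by
  intro e
  obtain ⟨g, rfl⟩ := large_reach p hp
  change im 10 • (g.1 • pA) = g.1 • pA at e
  have hc : g.1 * im 10 = im 10 * g.1 := congrArg Subtype.val (Subgroup.mem_center_iff.1 zT_center g)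
  rw [← mul_smul, ← hc, mul_smul, smul_left_cancel_iff] at e
  have := congrArg Fin.val e
  rw [im_smul_val (by norm_num)] at this
  have h2 := ten_moves
  rw [show mv 10 31672 = 31672 from this] at h2
  exact absurd h2 (by simp)

theorem special_point : im 11 • p0 = pA := by rw [← special_inv, k_point]

theorem eleven_at : (pt 0).val = 11590 ∧ (pt 1).val = 8007 := by
  rw [pt_val (by norm_num), pt_val (by norm_num)]
  decide +kernel

theorem zero_ne_ten : im 0 ≠ im 10 := fun e => by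
  have h := congrArg (fun g : Cfsg.Spor.Fi24 => (g • pt 1).val) e
  simp only [im_smul_val (show 0 < 12 by norm_num), im_smul_val (show 10 < 12 by norm_num), eleven_at.2] at h
  exact absurd h (show mv 0 8007 ≠ mv 10 8007 by decide +kernel)

theorem fix_of_commute {g : Cfsg.Spor.Fi24} (hg : Commute g (im 10)) : g • p0 = p0 := by
  have h : g ∈ lgp im lamT := by
    rw [← centralizer_z]
    exact Subgroup.mem_centralizer_singleton_iff.2 hg.eq
  exact eleven_fix h

theorem Tied.point {t : Cfsg.Spor.Fi24} {p q : Pts} (h : Tied t p) (h' : Tied t q) : p = q := by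
  obtain ⟨u, rfl, rfl⟩ := h
  obtain ⟨v, rfl, e⟩ := h'
  have : (v⁻¹ * u) • p0 = p0 := fix_of_commute (by
    show v⁻¹ * u * im 10 = im 10 * (v⁻¹ * u)
    calc v⁻¹ * u * im 10 = v⁻¹ * (u * im 10 * u⁻¹) * u := by group
      _ = im 10 * (v⁻¹ * u) := by rw [e]; group)
  rwa [mul_smul, inv_smul_eq_iff] at this

theorem Tied.commute_iff {t : Cfsg.Spor.Fi24} {p : Pts} (h : Tied t p) {g : Cfsg.Spor.Fi24} :
    Commute g t ↔ g • p = p :=
  ⟨fun hc => ((h.conj g).point (p := g • p) (q := p) (by rw [hc.eq, mul_inv_cancel_right]; exact h)), h.commute⟩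

theorem center_eq : Subgroup.center Cfsg.Spor.Fi24 = ⊥ := by
  refine (Subgroup.eq_bot_iff_forall _).2 fun z hz => eq_one_of_fix fun p => ?_
  obtain ⟨t, ht⟩ := tied_point p
  exact ht.commute_iff.1 (Subgroup.mem_center_iff.1 hz t).symm

theorem block_words : moves gWord 9 ≥ 31672 ∧ 1 ≤ mv 11 60105 ∧ mv 11 60105 ≤ 31671 ∧ moves gWord 0 = 11590 := by
  decide +kernel

theorem transp_prim : IsPrimitiveUnderConj transp := by
  refine ⟨fun a ha b hb => ?_, ⟨im 10, IsConj.refl _, im 0, (tied_all 0 (by norm_num)).mem, zero_ne_ten.symm⟩,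
    fun B hB hblk => ?_⟩
  · obtain ⟨g, rfl⟩ := mem_transp.1 ha
    obtain ⟨k, rfl⟩ := mem_transp.1 hb
    exact ⟨k * g⁻¹, by group⟩
  by_cases hsub : B.Subsingleton
  · exact Or.inl hsub
  right
  -- move one member onto the eleventh letter
  obtain ⟨a, ha, b, hb, hab⟩ : ∃ a ∈ B, ∃ b ∈ B, a ≠ b := by
    rw [Set.not_subsingleton_iff] at hsub
    obtain ⟨a, ha, b, hb, hne⟩ := hsub
    exact ⟨a, ha, b, hb, hne⟩
  have key : ∀ C : Set Cfsg.Spor.Fi24, C ⊆ transp →
      (∀ g, (fun x => g * x * g⁻¹) '' C = C ∨ Disjoint ((fun x => g * x * g⁻¹) '' C) C) →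
      im 10 ∈ C → (∃ b ∈ C, b ≠ im 10) → transp ⊆ C := by
    intro C hC hblk hz hother
    have hinv : ∀ g x, x ∈ C → g * x * g⁻¹ ∈ C → ∀ y ∈ C, g * y * g⁻¹ ∈ C := fun g x hx hgx y hy => by
      rcases hblk g with e | e
      · exact e ▸ ⟨y, hy, rfl⟩
      · exact absurd hgx (Set.disjoint_left.1 e ⟨x, hx, rfl⟩)
    let P : Set Pts := {p | ∃ t ∈ C, Tied t p}
    have hstab : ∀ g : lgp im lamT, ∀ p ∈ P, g.1 • p ∈ P := by
      rintro g p ⟨t, ht, htp⟩
      refine ⟨_, hinv g.1 _ hz ?_ t ht, htp.conj g.1⟩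
      rwa [(tied_base.commute (eleven_fix g.2)).eq, mul_inv_cancel_right]
    have hmove : ∀ u : Cfsg.Spor.Fi24, u • p0 ∈ P → ∀ p ∈ P, u • p ∈ P := by
      rintro u ⟨t, ht, htu⟩ p ⟨s, hs, hsp⟩
      refine ⟨_, hinv u _ hz ?_ s hs, hsp.conj u⟩
      rwa [(tied_base.conj u).eq htu]
    have hsmall : ∀ p ∈ P, 1 ≤ p.val ∧ p.val ≤ 31671 → ∀ q : Pts, 1 ≤ q.val ∧ q.val ≤ 31671 → q ∈ P :=
      fun p hp h q hq => by
        obtain ⟨g, rfl⟩ := small_smul h hq
        exact hstab g p hp
    have hlarge : ∀ p ∈ P, 31672 ≤ p.val → ∀ q : Pts, 31672 ≤ q.val → q ∈ P := fun p hp h q hq => by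
      obtain ⟨g, hg⟩ := large_reach p h
      obtain ⟨g', hg'⟩ := large_reach q hq
      have := hstab (g' * g⁻¹) p hp
      have e : (g' * g⁻¹).1 • p = q := by
        show (g'.1 * g.1⁻¹) • p = q
        change g.1 • pA = p at hg
        rw [mul_smul, ← hg, inv_smul_smul]
        exact hg'
      rwa [e] at this
    have hgw : ∀ l ∈ gWord, l < 12 := by decide
    have hsl : (∀ q : Pts, 1 ≤ q.val ∧ q.val ≤ 31671 → q ∈ P) → ∀ q : Pts, 31672 ≤ q.val → q ∈ P := fun hs => by
      have h0 : (wval im gWord)⁻¹ • p0 ∈ P := hs _ (by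
        rw [inv_smul_moves hgw, show (p0 : Pts).val = 0 from rfl, block_words.2.2.2]
        norm_num)
      have h9 := hmove _ h0 ⟨9, by norm_num⟩ (hs _ ⟨by norm_num, by norm_num⟩)
      refine hlarge _ h9 ?_
      rw [inv_smul_moves hgw]
      exact block_words.1
    have hls : (∀ q : Pts, 31672 ≤ q.val → q ∈ P) → ∀ q : Pts, 1 ≤ q.val ∧ q.val ≤ 31671 → q ∈ P := fun hl => by
      have h0 : im 11 • p0 ∈ P := special_point ▸ hl pA le_rfl
      have h := hmove _ h0 ⟨60105, by norm_num⟩ (hl _ (show (31672 : ℕ) ≤ 60105 by norm_num))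
      refine hsmall _ h ?_
      rw [im_smul_val (by norm_num)]
      exact ⟨block_words.2.1, block_words.2.2.1⟩
    obtain ⟨b, hb, hbne⟩ := hother
    obtain ⟨p, hp⟩ := exists_tied (hC hb)
    have hp0 : p ≠ p0 := fun e => hbne ((e ▸ hp).eq tied_base)
    have hpos : 1 ≤ p.val := Nat.pos_of_ne_zero fun e => hp0 (Fin.ext e)
    have hboth : (∀ q : Pts, 1 ≤ q.val ∧ q.val ≤ 31671 → q ∈ P) ∧ ∀ q : Pts, 31672 ≤ q.val → q ∈ P := by
      rcases Nat.lt_or_ge p.val 31672 with h | h
      · have := hsmall p ⟨b, hb, hp⟩ ⟨hpos, by omega⟩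
        exact ⟨this, hsl this⟩
      · have := hlarge p ⟨b, hb, hp⟩ h
        exact ⟨hls this, this⟩
    intro t ht
    obtain ⟨q, hq⟩ := exists_tied ht
    have hqP : q ∈ P := by
      rcases Nat.eq_zero_or_pos q.val with h | h
      · exact ⟨im 10, hz, (show q = p0 from Fin.ext h) ▸ tied_base⟩
      rcases Nat.lt_or_ge q.val 31672 with h' | h'
      · exact hboth.1 q ⟨h, by omega⟩
      · exact hboth.2 q h'
    obtain ⟨s, hs, hsq⟩ := hqP
    rwa [hq.eq hsq]
  obtain ⟨u, hu⟩ := mem_transp.1 (hB ha)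
  set f := fun x : Cfsg.Spor.Fi24 => u⁻¹ * x * u with hf
  have hcls := transp_class
  have hC := key (f '' B) (by
      rintro _ ⟨x, hx, rfl⟩
      simpa [hf] using conj_mem hcls u⁻¹ (hB hx)) (fun g => by
      have e : (fun x => g * x * g⁻¹) '' (f '' B) = f '' ((fun x => (u * g * u⁻¹) * x * (u * g * u⁻¹)⁻¹) '' B) := by
        rw [Set.image_image, Set.image_image]
        exact Set.image_congr fun x _ => by simp only [hf]; group
      rw [e]
      have hfi : Function.Injective f := fun x y h => mul_left_cancel (mul_right_cancel h)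
      rcases hblk (u * g * u⁻¹) with k | k
      · exact Or.inl (by rw [k])
      · exact Or.inr ((Set.disjoint_image_iff hfi).2 k))
    ⟨a, ha, by simp only [hf]; rw [← hu]; group⟩
    ⟨f b, ⟨b, hb, rfl⟩, fun e => hab (by
      have : u⁻¹ * b * u = im 10 := e
      rw [← hu, ← this]; group)⟩
  refine Set.Subset.antisymm hB fun t ht => ?_
  obtain ⟨x, hx, e⟩ := hC (show u⁻¹ * t * u ∈ transp by simpa using conj_mem hcls u⁻¹ ht)
  have : x = t := mul_left_cancel (mul_right_cancel e)
  exact this ▸ hx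

theorem transp_twin : TwinFree transp := fun _ ha _ hb h =>
  eq_of_vRel_of_primitive transp_prim transp_class ha hb h

theorem transp_group : IsThreeTranspositionGroup transp :=
  ⟨transp_class.1, fun _ _ hd => conj_mem transp_class _ hd, transp_class.2.2⟩

theorem perp_iff {t : Cfsg.Spor.Fi24} : t ∈ perp transp (im 10) ↔ ∃ p : Pts, (1 ≤ p.val ∧ p.val ≤ 31671) ∧ Tied t p := by
  constructor
  · rintro ⟨ht, hne, hc⟩
    obtain ⟨p, hp⟩ := exists_tied ht
    refine ⟨p, ⟨Nat.pos_of_ne_zero fun e => hne ((show p = p0 from Fin.ext e) ▸ hp |>.eq tied_base), ?_⟩, hp⟩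
    by_contra h
    exact ten_move (by omega) (hp.commute_iff.1 hc)
  · rintro ⟨p, h, hp⟩
    refine ⟨hp.mem, fun e => ?_, hp.commute (ten_fix h)⟩
    have := congrArg Fin.val ((e ▸ hp).point tied_base)
    change p.val = 0 at this
    omega

theorem letter_perp {x : ℕ} (hx : x < 10) : im x ∈ perp transp (im 10) := by
  refine perp_iff.2 ⟨pt x, ?_, tied_all x (by omega)⟩
  rw [pt_val (show x < 12 by omega)]
  exact (show ∀ x : Fin 10, 1 ≤ letterPoint x.val ∧ letterPoint x.val ≤ 31671 by decide +kernel) ⟨x, hx⟩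

theorem closure_perp_le : Subgroup.closure (perp transp (im 10)) ≤ lgp im lamT := by
  rw [Subgroup.closure_le]
  intro t ht
  rw [← stab_first]
  obtain ⟨-, -, hc⟩ := ht
  exact MulAction.mem_stabilizer_iff.2 (fix_of_commute hc.symm)

/-- The group on the neighbours, restricted to the smaller suborbit. -/
noncomputable def descMap : ↥(Subgroup.closure (perp transp (im 10))) →* Cfsg.Spor.Fi23 :=
  down.comp (Subgroup.inclusion closure_perp_le)

theorem descMap_surjective : Function.Surjective descMap := by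
  rw [← MonoidHom.range_eq_top]
  refine top_le_iff.1 (Cfsg.Lib.FiTwenty.lgp_top ▸ (Subgroup.closure_le _).2 ?_)
  rintro _ ⟨x, hx, rfl⟩
  rw [List.mem_range] at hx
  exact ⟨⟨im x, Subgroup.subset_closure (letter_perp hx)⟩, down_eq (g := ⟨im x, closure_perp_le (Subgroup.subset_closure (letter_perp hx))⟩) (agrees_low hx)⟩

theorem center_small : Subgroup.center Cfsg.Spor.Fi23 = ⊥ := by
  haveI := Cfsg.Lib.FiTwenty.simple_fi
  refine ((inferInstance : (Subgroup.center Cfsg.Spor.Fi23).Normal).eq_bot_or_eq_top).resolve_right fun c => ?_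
  have h := Cfsg.Lib.FiTwenty.centralizer_z
  have e : Subgroup.centralizer {Cfsg.Lib.FiTwenty.imZ 10} = ⊤ := top_le_iff.1 fun g _ =>
    Subgroup.mem_centralizer_singleton_iff.2
      (Subgroup.mem_center_iff.1 (c ▸ Subgroup.mem_top g : g ∈ Subgroup.center _) (Cfsg.Lib.FiTwenty.imZ 10)).symm
  have hi := Cfsg.Lib.FiTwenty.index_h
  rw [← h, e, Subgroup.index_top] at hi
  norm_num at hi

theorem descMap_ker : descMap.ker = Subgroup.center ↥(Subgroup.closure (perp transp (im 10))) := by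
  refine le_antisymm (fun k hk => ?_) fun k hk => ?_
  · rcases eleven_facts.2.2 (Subgroup.inclusion closure_perp_le k) (MonoidHom.mem_ker.1 hk) with e | e
    · rw [show k = 1 from Subtype.ext (congrArg (fun y : lgp im lamT => y.1) e)]
      exact one_mem _
    · refine Subgroup.mem_center_iff.2 fun h => Subtype.ext ?_
      have e' : k.1 = im 10 := congrArg (fun y : lgp im lamT => y.1) e
      show h.1 * k.1 = k.1 * h.1
      rw [e']
      exact congrArg Subtype.val (Subgroup.mem_center_iff.1 zT_center ⟨h.1, closure_perp_le h.2⟩)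
  · rw [MonoidHom.mem_ker, ← Subgroup.mem_bot, ← center_small, Subgroup.mem_center_iff]
    intro f
    obtain ⟨h, rfl⟩ := descMap_surjective f
    rw [← map_mul, ← map_mul, Subgroup.mem_center_iff.1 hk h]

/-- The descended group. -/
noncomputable def descIso :
    (↥(Subgroup.closure (perp transp (im 10))) ⧸ Subgroup.center ↥(Subgroup.closure (perp transp (im 10)))) ≃*
      Cfsg.Spor.Fi23 :=
  (QuotientGroup.quotientMulEquivOfEq descMap_ker.symm).trans
    (QuotientGroup.quotientKerEquivOfSurjective descMap descMap_surjective)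

theorem descIso_mk (k : ↥(Subgroup.closure (perp transp (im 10)))) : descIso (QuotientGroup.mk k) = descMap k := rfl

theorem descIso_image : descIso '' descSet transp (im 10) = conjugatesOf (Cfsg.Lib.FiTwenty.imZ 0) := by
  have h0 : descMap ⟨im 0, Subgroup.subset_closure (letter_perp (by norm_num))⟩ = Cfsg.Lib.FiTwenty.imZ 0 :=
    down_eq (g := ⟨im 0, closure_perp_le (Subgroup.subset_closure (letter_perp (by norm_num)))⟩)
      (agrees_low (by norm_num))
  ext f
  constructor
  · rintro ⟨_, ⟨k, hk, rfl⟩, rfl⟩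
    rw [descIso_mk]
    obtain ⟨p, hp, hkp⟩ := perp_iff.1 hk
    obtain ⟨g, hg⟩ := small_smul (p := pt 0) (by rw [eleven_at.1]; norm_num) hp
    have e := hkp.eq (hg ▸ (tied_all 0 (by norm_num)).conj g.1)
    refine isConj_iff.2 ⟨down g, ?_⟩
    rw [← h0]
    show down g * down (Subgroup.inclusion closure_perp_le
      ⟨im 0, Subgroup.subset_closure (letter_perp (by norm_num))⟩) * (down g)⁻¹ =
        down (Subgroup.inclusion closure_perp_le k)
    rw [← map_inv, ← map_mul, ← map_mul]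
    exact congrArg down (Subtype.ext e.symm)
  · intro hf
    obtain ⟨c, rfl⟩ := isConj_iff.1 hf
    obtain ⟨k, rfl⟩ := descMap_surjective c
    refine ⟨QuotientGroup.mk (k * ⟨im 0, Subgroup.subset_closure (letter_perp (by norm_num))⟩ * k⁻¹),
      ⟨_, ?_, rfl⟩, ?_⟩
    · show k.1 * im 0 * k.1⁻¹ ∈ perp transp (im 10)
      exact conj_mem_perp (fun g _ he => conj_mem transp_class g he) k.2 (letter_perp (by norm_num))
    · rw [descIso_mk, map_mul, map_mul, map_inv, h0]

theorem transp_rich : Rich transp :=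
  ⟨transp_class, transp_prim, im 10, IsConj.refl _, im 0, (tied_all 0 (by norm_num)).mem, zero_ne_ten.symm,
    (letter_perp (show 0 < 10 by norm_num)).2.2⟩

/-- The class is of type M(24), given the class below. -/
theorem transp_m24 (hQ : M23 (descSet transp (im 10))) : Cfsg.Lib.ThreeTr.M24 transp := by
  have hd : im 10 ∈ transp := IsConj.refl _
  have hcls := transp_class
  have hF := m24_full hd hcls transp_twin transp_rich center_eq hQ
  obtain ⟨bs, hbn, hlen, hbs, hbc, hprod⟩ := m24_seven hd hcls transp_twin hQ hF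
  have hdK : bs.prod ∈ Subgroup.closure (perp transp (im 10)) :=
    list_prod_mem fun x hx => Subgroup.subset_closure (hbs x hx)
  rw [hprod] at hdK
  exact ⟨⟨hF, self_mem_all hcls hd hdK, stab_of_desc hcls transp_twin hd fun q hq => hQ.solid.centralizer_eq hq⟩,
    im 10, hd, hQ, bs, hbn, hlen, hbs, hbc, hprod⟩


/-- A group of type M(24) is the presented group. -/
theorem exists_iso {G : Type u} [Group G] [Finite G] {D : Set G} (hD : IsThreeTranspositionGroup D)
    (hprim : IsPrimitiveUnderConj D) (h24 : IsOfTypeM24 G D) :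
    ∃ e : Cfsg.Spor.Fi24 ≃* G, e '' transp = D := by
  obtain ⟨d, hd, -, -, -, -, hQg, hQp, h23⟩ := m24_desc hD hprim h24
  have hQ := M23.mk' hQg hQp h23
  obtain ⟨e₁, h₁⟩ := Cfsg.Lib.FiTen.exists_iso hQ h23
  let f := e₁.symm.trans descIso.symm
  have hf : f '' descSet D d = descSet transp (im 10) := by
    rw [← h₁, Set.image_image]
    have e : ∀ x, f (e₁ x) = descIso.symm x := fun x => by simp [f]
    simp only [e]
    rw [← Cfsg.Lib.FiTwenty.imZ_low (show 0 < 10 by norm_num), ← descIso_image, Set.image_image]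
    simp
  have hQ' : M23 (descSet transp (im 10)) :=
    hf ▸ M23.mk' (group_image f hQg) (prim_image f hQp) (Cfsg.Lib.FiTypes.type23_congr f h23)
  obtain ⟨ψ, hψ⟩ := M24U.exists_iso (Cfsg.Lib.ThreeTr.M24.mk' hD hprim h24)
    (transp_m24 hQ') hd (IsConj.refl (im 10)) hQ hQ' f hf
  exact ⟨ψ.symm, by rw [← hψ, Set.image_image]; simp⟩

end Cfsg.Lib.FiFour
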