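import Cfsg.Agent.FiFour.SAEdges
import Cfsg.Agent.FiFour.SATable

/-!
Generated certificate SA: a further element of a stabiliser.
-/

set_option autoImplicit false

namespace Cfsg.Lib.FiFour.SA

open Cfsg.Lib.CosetCert

def cert : Cert where
  ng := 12
  depth := 9
  edges := edgeT
  pars := parT
  subs := [0,1,2,3,4,5,6,7,8,9,10]
  rots := rotT
  m := 0
  finT := .leaf 0
  tab := .leaf 0

def rels : List (List ℕ) :=
  [[],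
   [0,0],
   [1,1],
   [2,2],
   [3,3],
   [4,4],
   [5,5],
   [6,6],
   [7,7],
   [8,8],
   [9,9],
   [10,10],
   [11,11],
   [0,1,0,1,0,1],
   [0,2,0,2],
   [0,3,0,3],
   [0,4,0,4],
   [0,5,0,5],
   [0,6,0,6],
   [0,7,0,7],
   [0,8,0,8],
   [0,9,0,9],
   [0,10,0,10],
   [0,11,0,11,0,11],
   [1,2,1,2,1,2],
   [1,3,1,3],
   [1,4,1,4],
   [1,5,1,5],
   [1,6,1,6],
   [1,7,1,7],
   [1,8,1,8],
   [1,9,1,9],
   [1,10,1,10],
   [1,11,1,11],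
   [2,3,2,3,2,3],
   [2,4,2,4],
   [2,5,2,5],
   [2,6,2,6],
   [2,7,2,7],
   [2,8,2,8],
   [2,9,2,9],
   [2,10,2,10],
   [2,11,2,11],
   [3,4,3,4,3,4],
   [3,5,3,5],
   [3,6,3,6],
   [3,7,3,7,3,7],
   [3,8,3,8],
   [3,9,3,9],
   [3,10,3,10],
   [3,11,3,11],
   [4,5,4,5,4,5],
   [4,6,4,6],
   [4,7,4,7],
   [4,8,4,8],
   [4,9,4,9],
   [4,10,4,10],
   [4,11,4,11],
   [5,6,5,6,5,6],
   [5,7,5,7],
   [5,8,5,8],
   [5,9,5,9],
   [5,10,5,10],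
   [5,11,5,11],
   [6,7,6,7],
   [6,8,6,8],
   [6,9,6,9,6,9],
   [6,10,6,10],
   [6,11,6,11],
   [7,8,7,8,7,8],
   [7,9,7,9],
   [7,10,7,10],
   [7,11,7,11],
   [8,9,8,9],
   [8,10,8,10],
   [8,11,8,11],
   [9,10,9,10],
   [9,11,9,11],
   [10,11,10,11,10,11]]

def spec : List (ℕ × ℕ × Bool) :=
  [(78,1,false),
   (50,1,false),
   (57,1,false),
   (63,1,false),
   (68,1,false),
   (77,1,false),
   (72,1,false),
   (75,1,false),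
   (42,1,false),
   (33,1,false),
   (23,0,false),
   (32,0,false),
   (22,0,false),
   (25,0,false),
   (15,0,false),
   (26,0,false),
   (16,0,false),
   (27,0,false),
   (17,0,false),
   (28,0,false),
   (18,0,false),
   (31,0,false),
   (21,0,false),
   (29,0,false),
   (19,0,false),
   (30,0,false),
   (20,0,false),
   (14,0,false),
   (24,1,false),
   (13,1,false),
   (42,0,false),
   (33,0,false),
   (41,0,false),
   (35,0,false),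
   (43,1,false),
   (44,1,false),
   (45,1,false),
   (48,1,false),
   (70,1,false),
   (73,1,false),
   (47,1,false),
   (64,1,false),
   (45,0,false),
   (59,1,false),
   (44,0,false),
   (23,1,false),
   (13,0,false),
   (24,0,false),
   (36,1,false),
   (37,1,false),
   (39,1,false),
   (40,1,false),
   (35,1,false),
   (30,1,false),
   (29,1,false),
   (25,1,false),
   (26,1,false),
   (27,1,false),
   (28,1,false),
   (38,1,false),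
   (53,1,false),
   (54,1,false),
   (49,0,false),
   (71,0,false),
   (74,0,false),
   (56,0,false),
   (62,0,false),
   (67,0,false),
   (60,1,false),
   (36,0,false),
   (51,1,false),
   (52,1,false),
   (65,1,false),
   (37,0,false),
   (52,0,false),
   (58,1,false),
   (61,1,false),
   (43,0,false),
   (46,0,false),
   (53,0,false),
   (69,0,false),
   (47,0,false),
   (54,0,false),
   (64,0,false),
   (59,0,false),
   (60,0,false),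
   (65,0,false),
   (55,1,false),
   (31,1,false),
   (34,1,false),
   (34,0,false),
   (38,0,false),
   (46,1,false),
   (16,1,false),
   (17,1,false),
   (18,1,false),
   (21,1,false),
   (50,0,false),
   (63,0,false),
   (72,0,false),
   (75,0,false),
   (74,1,false),
   (41,1,false),
   (71,1,false),
   (49,1,false),
   (32,1,false),
   (57,0,false),
   (56,1,false),
   (62,1,false),
   (68,0,false),
   (67,1,false),
   (73,0,false),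
   (48,0,false),
   (70,0,false),
   (40,0,false),
   (55,0,false),
   (61,0,false),
   (77,0,false),
   (19,1,false),
   (76,1,false),
   (39,0,false),
   (69,1,false),
   (51,0,false),
   (58,0,false),
   (20,1,false),
   (15,1,false),
   (14,1,false),
   (66,0,false),
   (22,1,false),
   (66,1,false),
   (76,0,false)]

/-- For each edge of the special letter: two words and a translation. -/
def kData : List (List ℕ × List ℕ × List ℕ) :=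
  [([0], [0], []),
   ([0], [0], [1,2,3,4,5,7,3,2,1,4,3,2,7,3,4,5]),
   ([0,1,2,3,4,5,7,3,4,8,7,3,2,1,0,10], [0,1,2,3,4,5,7,3,2,4,3,7,8,7,3,2,1,0,4,3,5,4,7,3,10], [3,2,6,7,3]),
   ([0,1,2,3,4,5,7,3,4,8,7,3,2,1,0,10], [0,1,2,3,4,5,7,3,2,4,3,7,8,7,3,2,1,0,4,3,5,4,7,3,10], [3,2,1,6,5,4,3,7,3,2,4,3,5,4,8,7,9,6]),
   ([0,1,2,3,4,5,7,3,4,8,7,3,2,1,0,10], [0,1,2,3,4,5,7,3,2,4,3,7,8,7,3,2,1,0,4,3,5,4,7,3,10], [3,2,1,4,3,5,6,5,4,3,7,3,2,4,3,8,7,9,6,5,4,3,2,1]),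
   ([0,1,2,3,4,5,7,3,4,8,7,3,2,1,0,10], [0,1,2,3,4,5,7,3,2,4,3,7,8,7,3,2,1,0,4,3,5,4,7,3,10], [3,2,4,3,6,5,4,7,3,2,1,8,7,3,2,4,3,5,6,9,6,5]),
   ([0,1,2,3,4,5,7,3,4,8,7,3,2,1,0,10], [0,1,2,3,4,5,7,3,2,4,3,7,8,7,3,2,1,0,4,3,5,4,7,3,10], [3,2,4,6,5,4,3,7,3,2,4,3,5,8,7,9,6,5,4,3,2,1,7]),
   ([0,1,2,3,4,5,7,3,4,8,7,3,2,1,0,10], [0,1,2,3,4,5,7,3,2,4,3,7,8,7,3,2,1,0,4,3,5,4,7,3,10], [3,2,1,6,5,4,3,2,7,3,2,1,4,3,2,5,4,8,9,6,5,4,3,2,1]),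
   ([0,1,2,3,4,5,7,3,4,8,7,3,2,1,0,10], [0,1,2,3,4,5,7,3,2,4,3,7,8,7,3,2,1,0,4,3,5,4,7,3,10], [3,2,4,6,5,4,3,7,3,2,1,4,3,8,7,9,6,5,4,3,2,1,7,8]),
   ([0,1,2,3,4,5,7,3,4,8,7,3,2,1,0,10], [0,1,2,3,4,5,7,3,2,4,3,7,8,7,3,2,1,0,4,3,5,4,7,3,10], [3,2,4,6,5,4,3,2,1,7,3,2,4,3,5,8,7,9,6,5,4,3,2,1]),
   ([0,1,2,3,4,5,7,3,4,8,7,3,2,1,0,10], [0,1,2,3,4,5,7,3,2,4,3,7,8,7,3,2,1,0,4,3,5,4,7,3,10], [3,2,4,6,5,4,3,2,7,3,2,4,3,8,7,3,9,6,5,4,3,2,1,7,8]),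
   ([0,1,2,3,4,5,7,3,4,8,7,3,2,1,0,10], [0,1,2,3,4,5,7,3,2,4,3,7,8,7,3,2,1,0,4,3,5,4,7,3,10], [3,2,4,6,5,4,3,7,3,2,1,4,3,5,8,7,9,6,5,4,3,2,1,7,3]),
   ([0,1,2,3,4,5,7,3,4,8,7,3,2,1,0,10], [0,1,2,3,4,5,7,3,2,4,3,7,8,7,3,2,1,0,4,3,5,4,7,3,10], [3,2,1,4,6,5,4,3,2,1,7,3,2,1,4,3,7,8,7,3,2,9,6,5,4,3,2,1,7,3,2,4,5,6,8]),
   ([0,1,2,3,4,5,7,3,4,8,7,3,2,1,0,10], [0,1,2,3,4,5,7,3,2,4,3,7,8,7,3,2,1,0,4,3,5,4,7,3,10], [3,2,4,5,6,5,4,3,2,7,3,2,4,3,7,8,7,9,6,5,4,3,2,1,7,8]),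
   ([0,1,2,3,4,5,7,3,4,8,7,3,2,1,0,10], [0,1,2,3,4,5,7,3,2,4,3,7,8,7,3,2,1,0,4,3,5,4,7,3,10], [3,2,1,4,5,6,5,4,7,3,2,1,4,3,2,7,3,4,8,7,3,2,9,6,5,4,3,2,1,7,3,2,4,5,6,8]),
   ([0,1,2,3,4,5,7,3,4,8,7,3,2,1,0,10], [0,1,2,3,4,5,7,3,2,4,3,7,8,7,3,2,1,0,4,3,5,4,7,3,10], [3,2,4,5,6,5,4,3,2,7,3,2,4,3,5,4,7,8,7,9,6,5,4,3,2,1,7,3]),
   ([0,1,2,3,4,5,7,3,4,8,7,3,2,1,0,10], [0,1,2,3,4,5,7,3,2,4,3,7,8,7,3,2,1,0,4,3,5,4,7,3,10], [3,2,4,5,6,5,4,3,2,7,3,2,4,3,5,4,6,7,8,7,9,6,5,4,3,2,1,7]),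
   ([0,1,2,3,4,5,7,3,4,8,7,3,2,1,0,10], [0,1,2,3,4,5,7,3,2,4,3,7,8,7,3,2,1,0,4,3,5,4,7,3,10], [3,2,4,3,5,6,5,4,3,2,7,3,2,4,3,5,8,7,9,6,5,4,3,2,1,7,3,2]),
   ([0,1,2,3,4,5,7,3,4,8,7,3,2,1,0,10], [0,1,2,3,4,5,7,3,2,4,3,7,8,7,3,2,1,0,4,3,5,4,7,3,10], [3,2,4,5,6,5,4,3,2,7,3,2,1,4,3,7,8,7,9,6,5,4,3,2,1,7,8]),
   ([0,1,2,3,4,5,7,3,4,8,7,3,2,1,0,10], [0,1,2,3,4,5,7,3,2,4,3,7,8,7,3,2,1,0,4,3,5,4,7,3,10], [3,2,4,6,5,4,3,7,3,2,1,4,3,8,7,3,4,5,9,6,5,4,3,2,1,7,3]),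
   ([0,1,2,3,4,5,7,3,4,8,7,3,2,1,0,10], [0,1,2,3,4,5,7,3,2,4,3,7,8,7,3,2,1,0,4,3,5,4,7,3,10], [3,2,4,5,6,5,4,3,2,7,3,2,1,4,3,5,7,8,7,9,6,5,4,3,2,1,7,3,2]),
   ([0,1,2,3,4,5,7,3,4,8,7,3,2,1,0,10], [0,1,2,3,4,5,7,3,2,4,3,7,8,7,3,2,1,0,4,3,5,4,7,3,10], [3,2,4,5,6,5,4,3,2,7,3,2,1,4,3,5,4,7,8,7,9,6,5,4,3,2,1,7,3,2])]

/-- The references along the long word. -/
def finalRefs : List ℕ :=
  [124782,124780,124778,124776,0,4,91854,91856,91858,91860,91866,91854,91862,91864,91854,91852,91850,91848,124784,124786,124788,124790,124792,124794,124796,124788,124798,124800,124788,124802,124806,124808,124810,124814,124818,124822,124826,124830,124834,124818,124838,124842,124818,124850,124852,124856,124860,124864,124876,124888,124900,124912,124924,124936,124954,124972,125002,125084,124979,124977,124975,263,91961,91962,91964,91966,137,91959,186,91996,91994,91992,920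26,92058,125086,125242,125111,125369,125487,125469,125490,125518,125528,125862,125996,126024,126052,126080,126055,92181,92171,92172,92175,1392,92182,92186,92188,92190,92194,92192,92196,92198,124738,7210,92209,92210,92204,92218,92217,92214,92213,92203,92200,92206,92220,92234,124742,92225,92222,10756,92226,92228,92233,92230,92256,92300,92458,92741,92738,93214,124747,92468,92435,92436,92381,92382,92320,92488,25566,28380,94068,94922,97105,97102,126082,126104,126434,126519,126551,126583,128692,128696,128717,129331,129433,129448,129464,129492,129467,86298,122154,122854,123418,123423,123424,123421,122917,122918,122951,122948,123474,124031,129494,129535,133403,133471,133645,152501,152539,152589,152607,152625,152673,159564,159870,159872,177382,177407,177411,177507,177556,177564,191704,195576,195707,195723,195742,195762,195764,212782,215377,215406,225994,226018,226030,229784,229959,229988,232028,232066,232107,232298,232111,232109,232073,91819,124714,124721,124725,124726,124729,124722,91834,124731,91840,91842,91844,91846]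

/-- The long word, up to its last special letter. -/
def wPre : List ℕ :=
  [3,2,1,0,11,10,3,4,5,6,9,3,7,8,3,2,1,0,11,10,3,4,5,6,9,3,7,8,3,2,1,0,11,10,3,4,5,6,9,3,7,8,3,2,1,0,11,10,3,4,5,6,9,3,7,8,3,2,1,0,11,10,3,4,5,6,9,3,7,8,3,2,1,0,11,10,3,4,5,6,9,3,7,8,3,2,1,0,11,10,3,4,5,6,9,3,7,8,3,2,1,0,11,10,3,4,5,6,9,3,7,8,3,2,1,0,11,10,3,4,5,6,9,3,7,8,3,2,1,0,11,10,3,4,5,6,9,3,7,8,3,2,1,0,11,10,3,4,5,6,9,3,7,8,3,2,1,0,11,10,3,4,5,6,9,3,7,8,3,2,1,0,11,10,3,4,5,6,9,3,7,8,3,2,1,0,11,10,3,4,5,6,9,3,7,8,3,2,1,0,11,10,3,4,5,6,9,3,7,8,3,2,1,0,11,10,3,4,5,6,9,3,7,8,3,2,1,0]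

end Cfsg.Lib.FiFour.SA
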