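import Mathlib
import Cfsg.Agent.FiFour.RowData0
import Cfsg.Agent.FiFour.RowData1
import Cfsg.Agent.FiFour.RowData2
import Cfsg.Agent.FiFour.RowData3
import Cfsg.Agent.FiFour.RowData4
import Cfsg.Agent.FiFour.RowData5
import Cfsg.Agent.FiFour.RowData6
import Cfsg.Agent.FiFour.RowData7
import Cfsg.Agent.FiFour.RowData8
import Cfsg.Agent.FiFour.RowData9
import Cfsg.Agent.FiFour.RowData10
import Cfsg.Agent.FiFour.RowData11
import Cfsg.Agent.FiFour.RowData12
import Cfsg.Agent.FiFour.RowData13
import Cfsg.Agent.FiFour.RowData14
import Cfsg.Agent.FiFour.RowData15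
import Cfsg.Agent.FiFour.RowData16
import Cfsg.Agent.FiFour.RowData17
import Cfsg.Agent.FiFour.RowData18
import Cfsg.Agent.FiFour.SevData0
import Cfsg.Agent.FiFour.SevData1
import Cfsg.Agent.FiFour.LonData0
import Cfsg.Agent.FiFour.LonData1

/-!
The action on 306936 points as packed tables.
-/

set_option autoImplicit false

namespace Cfsg.Lib.FiFour

/-- A selector of the rows on the transpositions. -/
noncomputable def rowLSel0 (i : ℕ) : ℕ := Bool.rec rowL0 rowL1 (Nat.ble 1 i)

/-- A selector of the rows on the transpositions. -/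
noncomputable def rowLSel1 (i : ℕ) : ℕ := Bool.rec rowL2 rowL3 (Nat.ble 3 i)

/-- A selector of the rows on the transpositions. -/
noncomputable def rowLSel2 (i : ℕ) : ℕ := Bool.rec (rowLSel0 i) (rowLSel1 i) (Nat.ble 2 i)

/-- A selector of the rows on the transpositions. -/
noncomputable def rowLSel3 (i : ℕ) : ℕ := Bool.rec rowL4 rowL5 (Nat.ble 5 i)

/-- A selector of the rows on the transpositions. -/
noncomputable def rowLSel4 (i : ℕ) : ℕ := Bool.rec rowL7 rowL8 (Nat.ble 8 i)

/-- A selector of the rows on the transpositions. -/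
noncomputable def rowLSel5 (i : ℕ) : ℕ := Bool.rec rowL6 (rowLSel4 i) (Nat.ble 7 i)

/-- A selector of the rows on the transpositions. -/
noncomputable def rowLSel6 (i : ℕ) : ℕ := Bool.rec (rowLSel3 i) (rowLSel5 i) (Nat.ble 6 i)

/-- A selector of the rows on the transpositions. -/
noncomputable def rowLSel7 (i : ℕ) : ℕ := Bool.rec (rowLSel2 i) (rowLSel6 i) (Nat.ble 4 i)

/-- A selector of the rows on the transpositions. -/
noncomputable def rowLSel8 (i : ℕ) : ℕ := Bool.rec rowL9 rowL10 (Nat.ble 10 i)

/-- A selector of the rows on the transpositions. -/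
noncomputable def rowLSel9 (i : ℕ) : ℕ := Bool.rec rowL11 rowL12 (Nat.ble 12 i)

/-- A selector of the rows on the transpositions. -/
noncomputable def rowLSel10 (i : ℕ) : ℕ := Bool.rec (rowLSel8 i) (rowLSel9 i) (Nat.ble 11 i)

/-- A selector of the rows on the transpositions. -/
noncomputable def rowLSel11 (i : ℕ) : ℕ := Bool.rec rowL13 rowL14 (Nat.ble 14 i)

/-- A selector of the rows on the transpositions. -/
noncomputable def rowLSel12 (i : ℕ) : ℕ := Bool.rec rowL16 rowL17 (Nat.ble 17 i)

/-- A selector of the rows on the transpositions. -/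
noncomputable def rowLSel13 (i : ℕ) : ℕ := Bool.rec rowL15 (rowLSel12 i) (Nat.ble 16 i)

/-- A selector of the rows on the transpositions. -/
noncomputable def rowLSel14 (i : ℕ) : ℕ := Bool.rec (rowLSel11 i) (rowLSel13 i) (Nat.ble 15 i)

/-- A selector of the rows on the transpositions. -/
noncomputable def rowLSel15 (i : ℕ) : ℕ := Bool.rec (rowLSel10 i) (rowLSel14 i) (Nat.ble 13 i)

/-- A selector of the rows on the transpositions. -/
noncomputable def rowLSel16 (i : ℕ) : ℕ := Bool.rec (rowLSel7 i) (rowLSel15 i) (Nat.ble 9 i)

/-- A selector of the rows on the transpositions. -/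
noncomputable def rowLSel17 (i : ℕ) : ℕ := Bool.rec rowL18 rowL19 (Nat.ble 19 i)

/-- A selector of the rows on the transpositions. -/
noncomputable def rowLSel18 (i : ℕ) : ℕ := Bool.rec rowL20 rowL21 (Nat.ble 21 i)

/-- A selector of the rows on the transpositions. -/
noncomputable def rowLSel19 (i : ℕ) : ℕ := Bool.rec (rowLSel17 i) (rowLSel18 i) (Nat.ble 20 i)

/-- A selector of the rows on the transpositions. -/
noncomputable def rowLSel20 (i : ℕ) : ℕ := Bool.rec rowL22 rowL23 (Nat.ble 23 i)

/-- A selector of the rows on the transpositions. -/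
noncomputable def rowLSel21 (i : ℕ) : ℕ := Bool.rec rowL25 rowL26 (Nat.ble 26 i)

/-- A selector of the rows on the transpositions. -/
noncomputable def rowLSel22 (i : ℕ) : ℕ := Bool.rec rowL24 (rowLSel21 i) (Nat.ble 25 i)

/-- A selector of the rows on the transpositions. -/
noncomputable def rowLSel23 (i : ℕ) : ℕ := Bool.rec (rowLSel20 i) (rowLSel22 i) (Nat.ble 24 i)

/-- A selector of the rows on the transpositions. -/
noncomputable def rowLSel24 (i : ℕ) : ℕ := Bool.rec (rowLSel19 i) (rowLSel23 i) (Nat.ble 22 i)

/-- A selector of the rows on the transpositions. -/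
noncomputable def rowLSel25 (i : ℕ) : ℕ := Bool.rec rowL27 rowL28 (Nat.ble 28 i)

/-- A selector of the rows on the transpositions. -/
noncomputable def rowLSel26 (i : ℕ) : ℕ := Bool.rec rowL30 rowL31 (Nat.ble 31 i)

/-- A selector of the rows on the transpositions. -/
noncomputable def rowLSel27 (i : ℕ) : ℕ := Bool.rec rowL29 (rowLSel26 i) (Nat.ble 30 i)

/-- A selector of the rows on the transpositions. -/
noncomputable def rowLSel28 (i : ℕ) : ℕ := Bool.rec (rowLSel25 i) (rowLSel27 i) (Nat.ble 29 i)

/-- A selector of the rows on the transpositions. -/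
noncomputable def rowLSel29 (i : ℕ) : ℕ := Bool.rec rowL32 rowL33 (Nat.ble 33 i)

/-- A selector of the rows on the transpositions. -/
noncomputable def rowLSel30 (i : ℕ) : ℕ := Bool.rec rowL35 rowL36 (Nat.ble 36 i)

/-- A selector of the rows on the transpositions. -/
noncomputable def rowLSel31 (i : ℕ) : ℕ := Bool.rec rowL34 (rowLSel30 i) (Nat.ble 35 i)

/-- A selector of the rows on the transpositions. -/
noncomputable def rowLSel32 (i : ℕ) : ℕ := Bool.rec (rowLSel29 i) (rowLSel31 i) (Nat.ble 34 i)

/-- A selector of the rows on the transpositions. -/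
noncomputable def rowLSel33 (i : ℕ) : ℕ := Bool.rec (rowLSel28 i) (rowLSel32 i) (Nat.ble 32 i)

/-- A selector of the rows on the transpositions. -/
noncomputable def rowLSel34 (i : ℕ) : ℕ := Bool.rec (rowLSel24 i) (rowLSel33 i) (Nat.ble 27 i)

/-- A selector of the rows on the transpositions. -/
noncomputable def rowLSel35 (i : ℕ) : ℕ := Bool.rec (rowLSel16 i) (rowLSel34 i) (Nat.ble 18 i)

/-- A selector of the rows on the transpositions. -/
noncomputable def rowLSel36 (i : ℕ) : ℕ := Bool.rec rowL37 rowL38 (Nat.ble 38 i)

/-- A selector of the rows on the transpositions. -/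
noncomputable def rowLSel37 (i : ℕ) : ℕ := Bool.rec rowL39 rowL40 (Nat.ble 40 i)

/-- A selector of the rows on the transpositions. -/
noncomputable def rowLSel38 (i : ℕ) : ℕ := Bool.rec (rowLSel36 i) (rowLSel37 i) (Nat.ble 39 i)

/-- A selector of the rows on the transpositions. -/
noncomputable def rowLSel39 (i : ℕ) : ℕ := Bool.rec rowL41 rowL42 (Nat.ble 42 i)

/-- A selector of the rows on the transpositions. -/
noncomputable def rowLSel40 (i : ℕ) : ℕ := Bool.rec rowL44 rowL45 (Nat.ble 45 i)

/-- A selector of the rows on the transpositions. -/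
noncomputable def rowLSel41 (i : ℕ) : ℕ := Bool.rec rowL43 (rowLSel40 i) (Nat.ble 44 i)

/-- A selector of the rows on the transpositions. -/
noncomputable def rowLSel42 (i : ℕ) : ℕ := Bool.rec (rowLSel39 i) (rowLSel41 i) (Nat.ble 43 i)

/-- A selector of the rows on the transpositions. -/
noncomputable def rowLSel43 (i : ℕ) : ℕ := Bool.rec (rowLSel38 i) (rowLSel42 i) (Nat.ble 41 i)

/-- A selector of the rows on the transpositions. -/
noncomputable def rowLSel44 (i : ℕ) : ℕ := Bool.rec rowL46 rowL47 (Nat.ble 47 i)

/-- A selector of the rows on the transpositions. -/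
noncomputable def rowLSel45 (i : ℕ) : ℕ := Bool.rec rowL49 rowL50 (Nat.ble 50 i)

/-- A selector of the rows on the transpositions. -/
noncomputable def rowLSel46 (i : ℕ) : ℕ := Bool.rec rowL48 (rowLSel45 i) (Nat.ble 49 i)

/-- A selector of the rows on the transpositions. -/
noncomputable def rowLSel47 (i : ℕ) : ℕ := Bool.rec (rowLSel44 i) (rowLSel46 i) (Nat.ble 48 i)

/-- A selector of the rows on the transpositions. -/
noncomputable def rowLSel48 (i : ℕ) : ℕ := Bool.rec rowL51 rowL52 (Nat.ble 52 i)

/-- A selector of the rows on the transpositions. -/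
noncomputable def rowLSel49 (i : ℕ) : ℕ := Bool.rec rowL54 rowL55 (Nat.ble 55 i)

/-- A selector of the rows on the transpositions. -/
noncomputable def rowLSel50 (i : ℕ) : ℕ := Bool.rec rowL53 (rowLSel49 i) (Nat.ble 54 i)

/-- A selector of the rows on the transpositions. -/
noncomputable def rowLSel51 (i : ℕ) : ℕ := Bool.rec (rowLSel48 i) (rowLSel50 i) (Nat.ble 53 i)

/-- A selector of the rows on the transpositions. -/
noncomputable def rowLSel52 (i : ℕ) : ℕ := Bool.rec (rowLSel47 i) (rowLSel51 i) (Nat.ble 51 i)

/-- A selector of the rows on the transpositions. -/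
noncomputable def rowLSel53 (i : ℕ) : ℕ := Bool.rec (rowLSel43 i) (rowLSel52 i) (Nat.ble 46 i)

/-- A selector of the rows on the transpositions. -/
noncomputable def rowLSel54 (i : ℕ) : ℕ := Bool.rec rowL56 rowL57 (Nat.ble 57 i)

/-- A selector of the rows on the transpositions. -/
noncomputable def rowLSel55 (i : ℕ) : ℕ := Bool.rec rowL58 rowL59 (Nat.ble 59 i)

/-- A selector of the rows on the transpositions. -/
noncomputable def rowLSel56 (i : ℕ) : ℕ := Bool.rec (rowLSel54 i) (rowLSel55 i) (Nat.ble 58 i)

/-- A selector of the rows on the transpositions. -/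
noncomputable def rowLSel57 (i : ℕ) : ℕ := Bool.rec rowL60 rowL61 (Nat.ble 61 i)

/-- A selector of the rows on the transpositions. -/
noncomputable def rowLSel58 (i : ℕ) : ℕ := Bool.rec rowL63 rowL64 (Nat.ble 64 i)

/-- A selector of the rows on the transpositions. -/
noncomputable def rowLSel59 (i : ℕ) : ℕ := Bool.rec rowL62 (rowLSel58 i) (Nat.ble 63 i)

/-- A selector of the rows on the transpositions. -/
noncomputable def rowLSel60 (i : ℕ) : ℕ := Bool.rec (rowLSel57 i) (rowLSel59 i) (Nat.ble 62 i)

/-- A selector of the rows on the transpositions. -/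
noncomputable def rowLSel61 (i : ℕ) : ℕ := Bool.rec (rowLSel56 i) (rowLSel60 i) (Nat.ble 60 i)

/-- A selector of the rows on the transpositions. -/
noncomputable def rowLSel62 (i : ℕ) : ℕ := Bool.rec rowL65 rowL66 (Nat.ble 66 i)

/-- A selector of the rows on the transpositions. -/
noncomputable def rowLSel63 (i : ℕ) : ℕ := Bool.rec rowL68 rowL69 (Nat.ble 69 i)

/-- A selector of the rows on the transpositions. -/
noncomputable def rowLSel64 (i : ℕ) : ℕ := Bool.rec rowL67 (rowLSel63 i) (Nat.ble 68 i)

/-- A selector of the rows on the transpositions. -/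
noncomputable def rowLSel65 (i : ℕ) : ℕ := Bool.rec (rowLSel62 i) (rowLSel64 i) (Nat.ble 67 i)

/-- A selector of the rows on the transpositions. -/
noncomputable def rowLSel66 (i : ℕ) : ℕ := Bool.rec rowL70 rowL71 (Nat.ble 71 i)

/-- A selector of the rows on the transpositions. -/
noncomputable def rowLSel67 (i : ℕ) : ℕ := Bool.rec rowL73 rowL74 (Nat.ble 74 i)

/-- A selector of the rows on the transpositions. -/
noncomputable def rowLSel68 (i : ℕ) : ℕ := Bool.rec rowL72 (rowLSel67 i) (Nat.ble 73 i)

/-- A selector of the rows on the transpositions. -/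
noncomputable def rowLSel69 (i : ℕ) : ℕ := Bool.rec (rowLSel66 i) (rowLSel68 i) (Nat.ble 72 i)

/-- A selector of the rows on the transpositions. -/
noncomputable def rowLSel70 (i : ℕ) : ℕ := Bool.rec (rowLSel65 i) (rowLSel69 i) (Nat.ble 70 i)

/-- A selector of the rows on the transpositions. -/
noncomputable def rowLSel71 (i : ℕ) : ℕ := Bool.rec (rowLSel61 i) (rowLSel70 i) (Nat.ble 65 i)

/-- A selector of the rows on the transpositions. -/
noncomputable def rowLSel72 (i : ℕ) : ℕ := Bool.rec (rowLSel53 i) (rowLSel71 i) (Nat.ble 56 i)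

/-- A selector of the rows on the transpositions. -/
noncomputable def rowLSel73 (i : ℕ) : ℕ := Bool.rec (rowLSel35 i) (rowLSel72 i) (Nat.ble 37 i)

/-- A selector of the rows on the transpositions. -/
noncomputable def rowLSel74 (i : ℕ) : ℕ := Bool.rec rowL75 rowL76 (Nat.ble 76 i)

/-- A selector of the rows on the transpositions. -/
noncomputable def rowLSel75 (i : ℕ) : ℕ := Bool.rec rowL77 rowL78 (Nat.ble 78 i)

/-- A selector of the rows on the transpositions. -/
noncomputable def rowLSel76 (i : ℕ) : ℕ := Bool.rec (rowLSel74 i) (rowLSel75 i) (Nat.ble 77 i)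

/-- A selector of the rows on the transpositions. -/
noncomputable def rowLSel77 (i : ℕ) : ℕ := Bool.rec rowL79 rowL80 (Nat.ble 80 i)

/-- A selector of the rows on the transpositions. -/
noncomputable def rowLSel78 (i : ℕ) : ℕ := Bool.rec rowL82 rowL83 (Nat.ble 83 i)

/-- A selector of the rows on the transpositions. -/
noncomputable def rowLSel79 (i : ℕ) : ℕ := Bool.rec rowL81 (rowLSel78 i) (Nat.ble 82 i)

/-- A selector of the rows on the transpositions. -/
noncomputable def rowLSel80 (i : ℕ) : ℕ := Bool.rec (rowLSel77 i) (rowLSel79 i) (Nat.ble 81 i)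

/-- A selector of the rows on the transpositions. -/
noncomputable def rowLSel81 (i : ℕ) : ℕ := Bool.rec (rowLSel76 i) (rowLSel80 i) (Nat.ble 79 i)

/-- A selector of the rows on the transpositions. -/
noncomputable def rowLSel82 (i : ℕ) : ℕ := Bool.rec rowL84 rowL85 (Nat.ble 85 i)

/-- A selector of the rows on the transpositions. -/
noncomputable def rowLSel83 (i : ℕ) : ℕ := Bool.rec rowL86 rowL87 (Nat.ble 87 i)

/-- A selector of the rows on the transpositions. -/
noncomputable def rowLSel84 (i : ℕ) : ℕ := Bool.rec (rowLSel82 i) (rowLSel83 i) (Nat.ble 86 i)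

/-- A selector of the rows on the transpositions. -/
noncomputable def rowLSel85 (i : ℕ) : ℕ := Bool.rec rowL88 rowL89 (Nat.ble 89 i)

/-- A selector of the rows on the transpositions. -/
noncomputable def rowLSel86 (i : ℕ) : ℕ := Bool.rec rowL91 rowL92 (Nat.ble 92 i)

/-- A selector of the rows on the transpositions. -/
noncomputable def rowLSel87 (i : ℕ) : ℕ := Bool.rec rowL90 (rowLSel86 i) (Nat.ble 91 i)

/-- A selector of the rows on the transpositions. -/
noncomputable def rowLSel88 (i : ℕ) : ℕ := Bool.rec (rowLSel85 i) (rowLSel87 i) (Nat.ble 90 i)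

/-- A selector of the rows on the transpositions. -/
noncomputable def rowLSel89 (i : ℕ) : ℕ := Bool.rec (rowLSel84 i) (rowLSel88 i) (Nat.ble 88 i)

/-- A selector of the rows on the transpositions. -/
noncomputable def rowLSel90 (i : ℕ) : ℕ := Bool.rec (rowLSel81 i) (rowLSel89 i) (Nat.ble 84 i)

/-- A selector of the rows on the transpositions. -/
noncomputable def rowLSel91 (i : ℕ) : ℕ := Bool.rec rowL93 rowL94 (Nat.ble 94 i)

/-- A selector of the rows on the transpositions. -/
noncomputable def rowLSel92 (i : ℕ) : ℕ := Bool.rec rowL95 rowL96 (Nat.ble 96 i)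

/-- A selector of the rows on the transpositions. -/
noncomputable def rowLSel93 (i : ℕ) : ℕ := Bool.rec (rowLSel91 i) (rowLSel92 i) (Nat.ble 95 i)

/-- A selector of the rows on the transpositions. -/
noncomputable def rowLSel94 (i : ℕ) : ℕ := Bool.rec rowL97 rowL98 (Nat.ble 98 i)

/-- A selector of the rows on the transpositions. -/
noncomputable def rowLSel95 (i : ℕ) : ℕ := Bool.rec rowL100 rowL101 (Nat.ble 101 i)

/-- A selector of the rows on the transpositions. -/
noncomputable def rowLSel96 (i : ℕ) : ℕ := Bool.rec rowL99 (rowLSel95 i) (Nat.ble 100 i)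

/-- A selector of the rows on the transpositions. -/
noncomputable def rowLSel97 (i : ℕ) : ℕ := Bool.rec (rowLSel94 i) (rowLSel96 i) (Nat.ble 99 i)

/-- A selector of the rows on the transpositions. -/
noncomputable def rowLSel98 (i : ℕ) : ℕ := Bool.rec (rowLSel93 i) (rowLSel97 i) (Nat.ble 97 i)

/-- A selector of the rows on the transpositions. -/
noncomputable def rowLSel99 (i : ℕ) : ℕ := Bool.rec rowL102 rowL103 (Nat.ble 103 i)

/-- A selector of the rows on the transpositions. -/
noncomputable def rowLSel100 (i : ℕ) : ℕ := Bool.rec rowL105 rowL106 (Nat.ble 106 i)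

/-- A selector of the rows on the transpositions. -/
noncomputable def rowLSel101 (i : ℕ) : ℕ := Bool.rec rowL104 (rowLSel100 i) (Nat.ble 105 i)

/-- A selector of the rows on the transpositions. -/
noncomputable def rowLSel102 (i : ℕ) : ℕ := Bool.rec (rowLSel99 i) (rowLSel101 i) (Nat.ble 104 i)

/-- A selector of the rows on the transpositions. -/
noncomputable def rowLSel103 (i : ℕ) : ℕ := Bool.rec rowL107 rowL108 (Nat.ble 108 i)

/-- A selector of the rows on the transpositions. -/
noncomputable def rowLSel104 (i : ℕ) : ℕ := Bool.rec rowL110 rowL111 (Nat.ble 111 i)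

/-- A selector of the rows on the transpositions. -/
noncomputable def rowLSel105 (i : ℕ) : ℕ := Bool.rec rowL109 (rowLSel104 i) (Nat.ble 110 i)

/-- A selector of the rows on the transpositions. -/
noncomputable def rowLSel106 (i : ℕ) : ℕ := Bool.rec (rowLSel103 i) (rowLSel105 i) (Nat.ble 109 i)

/-- A selector of the rows on the transpositions. -/
noncomputable def rowLSel107 (i : ℕ) : ℕ := Bool.rec (rowLSel102 i) (rowLSel106 i) (Nat.ble 107 i)

/-- A selector of the rows on the transpositions. -/
noncomputable def rowLSel108 (i : ℕ) : ℕ := Bool.rec (rowLSel98 i) (rowLSel107 i) (Nat.ble 102 i)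

/-- A selector of the rows on the transpositions. -/
noncomputable def rowLSel109 (i : ℕ) : ℕ := Bool.rec (rowLSel90 i) (rowLSel108 i) (Nat.ble 93 i)

/-- A selector of the rows on the transpositions. -/
noncomputable def rowLSel110 (i : ℕ) : ℕ := Bool.rec rowL112 rowL113 (Nat.ble 113 i)

/-- A selector of the rows on the transpositions. -/
noncomputable def rowLSel111 (i : ℕ) : ℕ := Bool.rec rowL114 rowL115 (Nat.ble 115 i)

/-- A selector of the rows on the transpositions. -/
noncomputable def rowLSel112 (i : ℕ) : ℕ := Bool.rec (rowLSel110 i) (rowLSel111 i) (Nat.ble 114 i)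

/-- A selector of the rows on the transpositions. -/
noncomputable def rowLSel113 (i : ℕ) : ℕ := Bool.rec rowL116 rowL117 (Nat.ble 117 i)

/-- A selector of the rows on the transpositions. -/
noncomputable def rowLSel114 (i : ℕ) : ℕ := Bool.rec rowL119 rowL120 (Nat.ble 120 i)

/-- A selector of the rows on the transpositions. -/
noncomputable def rowLSel115 (i : ℕ) : ℕ := Bool.rec rowL118 (rowLSel114 i) (Nat.ble 119 i)

/-- A selector of the rows on the transpositions. -/
noncomputable def rowLSel116 (i : ℕ) : ℕ := Bool.rec (rowLSel113 i) (rowLSel115 i) (Nat.ble 118 i)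

/-- A selector of the rows on the transpositions. -/
noncomputable def rowLSel117 (i : ℕ) : ℕ := Bool.rec (rowLSel112 i) (rowLSel116 i) (Nat.ble 116 i)

/-- A selector of the rows on the transpositions. -/
noncomputable def rowLSel118 (i : ℕ) : ℕ := Bool.rec rowL121 rowL122 (Nat.ble 122 i)

/-- A selector of the rows on the transpositions. -/
noncomputable def rowLSel119 (i : ℕ) : ℕ := Bool.rec rowL124 rowL125 (Nat.ble 125 i)

/-- A selector of the rows on the transpositions. -/
noncomputable def rowLSel120 (i : ℕ) : ℕ := Bool.rec rowL123 (rowLSel119 i) (Nat.ble 124 i)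

/-- A selector of the rows on the transpositions. -/
noncomputable def rowLSel121 (i : ℕ) : ℕ := Bool.rec (rowLSel118 i) (rowLSel120 i) (Nat.ble 123 i)

/-- A selector of the rows on the transpositions. -/
noncomputable def rowLSel122 (i : ℕ) : ℕ := Bool.rec rowL126 rowL127 (Nat.ble 127 i)

/-- A selector of the rows on the transpositions. -/
noncomputable def rowLSel123 (i : ℕ) : ℕ := Bool.rec rowL129 rowL130 (Nat.ble 130 i)

/-- A selector of the rows on the transpositions. -/
noncomputable def rowLSel124 (i : ℕ) : ℕ := Bool.rec rowL128 (rowLSel123 i) (Nat.ble 129 i)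

/-- A selector of the rows on the transpositions. -/
noncomputable def rowLSel125 (i : ℕ) : ℕ := Bool.rec (rowLSel122 i) (rowLSel124 i) (Nat.ble 128 i)

/-- A selector of the rows on the transpositions. -/
noncomputable def rowLSel126 (i : ℕ) : ℕ := Bool.rec (rowLSel121 i) (rowLSel125 i) (Nat.ble 126 i)

/-- A selector of the rows on the transpositions. -/
noncomputable def rowLSel127 (i : ℕ) : ℕ := Bool.rec (rowLSel117 i) (rowLSel126 i) (Nat.ble 121 i)

/-- A selector of the rows on the transpositions. -/
noncomputable def rowLSel128 (i : ℕ) : ℕ := Bool.rec rowL131 rowL132 (Nat.ble 132 i)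

/-- A selector of the rows on the transpositions. -/
noncomputable def rowLSel129 (i : ℕ) : ℕ := Bool.rec rowL133 rowL134 (Nat.ble 134 i)

/-- A selector of the rows on the transpositions. -/
noncomputable def rowLSel130 (i : ℕ) : ℕ := Bool.rec (rowLSel128 i) (rowLSel129 i) (Nat.ble 133 i)

/-- A selector of the rows on the transpositions. -/
noncomputable def rowLSel131 (i : ℕ) : ℕ := Bool.rec rowL135 rowL136 (Nat.ble 136 i)

/-- A selector of the rows on the transpositions. -/
noncomputable def rowLSel132 (i : ℕ) : ℕ := Bool.rec rowL138 rowL139 (Nat.ble 139 i)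

/-- A selector of the rows on the transpositions. -/
noncomputable def rowLSel133 (i : ℕ) : ℕ := Bool.rec rowL137 (rowLSel132 i) (Nat.ble 138 i)

/-- A selector of the rows on the transpositions. -/
noncomputable def rowLSel134 (i : ℕ) : ℕ := Bool.rec (rowLSel131 i) (rowLSel133 i) (Nat.ble 137 i)

/-- A selector of the rows on the transpositions. -/
noncomputable def rowLSel135 (i : ℕ) : ℕ := Bool.rec (rowLSel130 i) (rowLSel134 i) (Nat.ble 135 i)

/-- A selector of the rows on the transpositions. -/
noncomputable def rowLSel136 (i : ℕ) : ℕ := Bool.rec rowL140 rowL141 (Nat.ble 141 i)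

/-- A selector of the rows on the transpositions. -/
noncomputable def rowLSel137 (i : ℕ) : ℕ := Bool.rec rowL143 rowL144 (Nat.ble 144 i)

/-- A selector of the rows on the transpositions. -/
noncomputable def rowLSel138 (i : ℕ) : ℕ := Bool.rec rowL142 (rowLSel137 i) (Nat.ble 143 i)

/-- A selector of the rows on the transpositions. -/
noncomputable def rowLSel139 (i : ℕ) : ℕ := Bool.rec (rowLSel136 i) (rowLSel138 i) (Nat.ble 142 i)

/-- A selector of the rows on the transpositions. -/
noncomputable def rowLSel140 (i : ℕ) : ℕ := Bool.rec rowL145 rowL146 (Nat.ble 146 i)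

/-- A selector of the rows on the transpositions. -/
noncomputable def rowLSel141 (i : ℕ) : ℕ := Bool.rec rowL148 rowL149 (Nat.ble 149 i)

/-- A selector of the rows on the transpositions. -/
noncomputable def rowLSel142 (i : ℕ) : ℕ := Bool.rec rowL147 (rowLSel141 i) (Nat.ble 148 i)

/-- A selector of the rows on the transpositions. -/
noncomputable def rowLSel143 (i : ℕ) : ℕ := Bool.rec (rowLSel140 i) (rowLSel142 i) (Nat.ble 147 i)

/-- A selector of the rows on the transpositions. -/
noncomputable def rowLSel144 (i : ℕ) : ℕ := Bool.rec (rowLSel139 i) (rowLSel143 i) (Nat.ble 145 i)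

/-- A selector of the rows on the transpositions. -/
noncomputable def rowLSel145 (i : ℕ) : ℕ := Bool.rec (rowLSel135 i) (rowLSel144 i) (Nat.ble 140 i)

/-- A selector of the rows on the transpositions. -/
noncomputable def rowLSel146 (i : ℕ) : ℕ := Bool.rec (rowLSel127 i) (rowLSel145 i) (Nat.ble 131 i)

/-- A selector of the rows on the transpositions. -/
noncomputable def rowLSel147 (i : ℕ) : ℕ := Bool.rec (rowLSel109 i) (rowLSel146 i) (Nat.ble 112 i)

/-- A selector of the rows on the transpositions. -/
noncomputable def rowLSel148 (i : ℕ) : ℕ := Bool.rec (rowLSel73 i) (rowLSel147 i) (Nat.ble 75 i)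

/-- A selector of the rows on the transpositions. -/
noncomputable def rowLSel149 (i : ℕ) : ℕ := Bool.rec rowL150 rowL151 (Nat.ble 151 i)

/-- A selector of the rows on the transpositions. -/
noncomputable def rowLSel150 (i : ℕ) : ℕ := Bool.rec rowL152 rowL153 (Nat.ble 153 i)

/-- A selector of the rows on the transpositions. -/
noncomputable def rowLSel151 (i : ℕ) : ℕ := Bool.rec (rowLSel149 i) (rowLSel150 i) (Nat.ble 152 i)

/-- A selector of the rows on the transpositions. -/
noncomputable def rowLSel152 (i : ℕ) : ℕ := Bool.rec rowL154 rowL155 (Nat.ble 155 i)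

/-- A selector of the rows on the transpositions. -/
noncomputable def rowLSel153 (i : ℕ) : ℕ := Bool.rec rowL157 rowL158 (Nat.ble 158 i)

/-- A selector of the rows on the transpositions. -/
noncomputable def rowLSel154 (i : ℕ) : ℕ := Bool.rec rowL156 (rowLSel153 i) (Nat.ble 157 i)

/-- A selector of the rows on the transpositions. -/
noncomputable def rowLSel155 (i : ℕ) : ℕ := Bool.rec (rowLSel152 i) (rowLSel154 i) (Nat.ble 156 i)

/-- A selector of the rows on the transpositions. -/
noncomputable def rowLSel156 (i : ℕ) : ℕ := Bool.rec (rowLSel151 i) (rowLSel155 i) (Nat.ble 154 i)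

/-- A selector of the rows on the transpositions. -/
noncomputable def rowLSel157 (i : ℕ) : ℕ := Bool.rec rowL159 rowL160 (Nat.ble 160 i)

/-- A selector of the rows on the transpositions. -/
noncomputable def rowLSel158 (i : ℕ) : ℕ := Bool.rec rowL161 rowL162 (Nat.ble 162 i)

/-- A selector of the rows on the transpositions. -/
noncomputable def rowLSel159 (i : ℕ) : ℕ := Bool.rec (rowLSel157 i) (rowLSel158 i) (Nat.ble 161 i)

/-- A selector of the rows on the transpositions. -/
noncomputable def rowLSel160 (i : ℕ) : ℕ := Bool.rec rowL163 rowL164 (Nat.ble 164 i)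

/-- A selector of the rows on the transpositions. -/
noncomputable def rowLSel161 (i : ℕ) : ℕ := Bool.rec rowL166 rowL167 (Nat.ble 167 i)

/-- A selector of the rows on the transpositions. -/
noncomputable def rowLSel162 (i : ℕ) : ℕ := Bool.rec rowL165 (rowLSel161 i) (Nat.ble 166 i)

/-- A selector of the rows on the transpositions. -/
noncomputable def rowLSel163 (i : ℕ) : ℕ := Bool.rec (rowLSel160 i) (rowLSel162 i) (Nat.ble 165 i)

/-- A selector of the rows on the transpositions. -/
noncomputable def rowLSel164 (i : ℕ) : ℕ := Bool.rec (rowLSel159 i) (rowLSel163 i) (Nat.ble 163 i)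

/-- A selector of the rows on the transpositions. -/
noncomputable def rowLSel165 (i : ℕ) : ℕ := Bool.rec (rowLSel156 i) (rowLSel164 i) (Nat.ble 159 i)

/-- A selector of the rows on the transpositions. -/
noncomputable def rowLSel166 (i : ℕ) : ℕ := Bool.rec rowL168 rowL169 (Nat.ble 169 i)

/-- A selector of the rows on the transpositions. -/
noncomputable def rowLSel167 (i : ℕ) : ℕ := Bool.rec rowL170 rowL171 (Nat.ble 171 i)

/-- A selector of the rows on the transpositions. -/
noncomputable def rowLSel168 (i : ℕ) : ℕ := Bool.rec (rowLSel166 i) (rowLSel167 i) (Nat.ble 170 i)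

/-- A selector of the rows on the transpositions. -/
noncomputable def rowLSel169 (i : ℕ) : ℕ := Bool.rec rowL172 rowL173 (Nat.ble 173 i)

/-- A selector of the rows on the transpositions. -/
noncomputable def rowLSel170 (i : ℕ) : ℕ := Bool.rec rowL175 rowL176 (Nat.ble 176 i)

/-- A selector of the rows on the transpositions. -/
noncomputable def rowLSel171 (i : ℕ) : ℕ := Bool.rec rowL174 (rowLSel170 i) (Nat.ble 175 i)

/-- A selector of the rows on the transpositions. -/
noncomputable def rowLSel172 (i : ℕ) : ℕ := Bool.rec (rowLSel169 i) (rowLSel171 i) (Nat.ble 174 i)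

/-- A selector of the rows on the transpositions. -/
noncomputable def rowLSel173 (i : ℕ) : ℕ := Bool.rec (rowLSel168 i) (rowLSel172 i) (Nat.ble 172 i)

/-- A selector of the rows on the transpositions. -/
noncomputable def rowLSel174 (i : ℕ) : ℕ := Bool.rec rowL177 rowL178 (Nat.ble 178 i)

/-- A selector of the rows on the transpositions. -/
noncomputable def rowLSel175 (i : ℕ) : ℕ := Bool.rec rowL180 rowL181 (Nat.ble 181 i)

/-- A selector of the rows on the transpositions. -/
noncomputable def rowLSel176 (i : ℕ) : ℕ := Bool.rec rowL179 (rowLSel175 i) (Nat.ble 180 i)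

/-- A selector of the rows on the transpositions. -/
noncomputable def rowLSel177 (i : ℕ) : ℕ := Bool.rec (rowLSel174 i) (rowLSel176 i) (Nat.ble 179 i)

/-- A selector of the rows on the transpositions. -/
noncomputable def rowLSel178 (i : ℕ) : ℕ := Bool.rec rowL182 rowL183 (Nat.ble 183 i)

/-- A selector of the rows on the transpositions. -/
noncomputable def rowLSel179 (i : ℕ) : ℕ := Bool.rec rowL185 rowL186 (Nat.ble 186 i)

/-- A selector of the rows on the transpositions. -/
noncomputable def rowLSel180 (i : ℕ) : ℕ := Bool.rec rowL184 (rowLSel179 i) (Nat.ble 185 i)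

/-- A selector of the rows on the transpositions. -/
noncomputable def rowLSel181 (i : ℕ) : ℕ := Bool.rec (rowLSel178 i) (rowLSel180 i) (Nat.ble 184 i)

/-- A selector of the rows on the transpositions. -/
noncomputable def rowLSel182 (i : ℕ) : ℕ := Bool.rec (rowLSel177 i) (rowLSel181 i) (Nat.ble 182 i)

/-- A selector of the rows on the transpositions. -/
noncomputable def rowLSel183 (i : ℕ) : ℕ := Bool.rec (rowLSel173 i) (rowLSel182 i) (Nat.ble 177 i)

/-- A selector of the rows on the transpositions. -/
noncomputable def rowLSel184 (i : ℕ) : ℕ := Bool.rec (rowLSel165 i) (rowLSel183 i) (Nat.ble 168 i)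

/-- A selector of the rows on the transpositions. -/
noncomputable def rowLSel185 (i : ℕ) : ℕ := Bool.rec rowL187 rowL188 (Nat.ble 188 i)

/-- A selector of the rows on the transpositions. -/
noncomputable def rowLSel186 (i : ℕ) : ℕ := Bool.rec rowL189 rowL190 (Nat.ble 190 i)

/-- A selector of the rows on the transpositions. -/
noncomputable def rowLSel187 (i : ℕ) : ℕ := Bool.rec (rowLSel185 i) (rowLSel186 i) (Nat.ble 189 i)

/-- A selector of the rows on the transpositions. -/
noncomputable def rowLSel188 (i : ℕ) : ℕ := Bool.rec rowL191 rowL192 (Nat.ble 192 i)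

/-- A selector of the rows on the transpositions. -/
noncomputable def rowLSel189 (i : ℕ) : ℕ := Bool.rec rowL194 rowL195 (Nat.ble 195 i)

/-- A selector of the rows on the transpositions. -/
noncomputable def rowLSel190 (i : ℕ) : ℕ := Bool.rec rowL193 (rowLSel189 i) (Nat.ble 194 i)

/-- A selector of the rows on the transpositions. -/
noncomputable def rowLSel191 (i : ℕ) : ℕ := Bool.rec (rowLSel188 i) (rowLSel190 i) (Nat.ble 193 i)

/-- A selector of the rows on the transpositions. -/
noncomputable def rowLSel192 (i : ℕ) : ℕ := Bool.rec (rowLSel187 i) (rowLSel191 i) (Nat.ble 191 i)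

/-- A selector of the rows on the transpositions. -/
noncomputable def rowLSel193 (i : ℕ) : ℕ := Bool.rec rowL196 rowL197 (Nat.ble 197 i)

/-- A selector of the rows on the transpositions. -/
noncomputable def rowLSel194 (i : ℕ) : ℕ := Bool.rec rowL199 rowL200 (Nat.ble 200 i)

/-- A selector of the rows on the transpositions. -/
noncomputable def rowLSel195 (i : ℕ) : ℕ := Bool.rec rowL198 (rowLSel194 i) (Nat.ble 199 i)

/-- A selector of the rows on the transpositions. -/
noncomputable def rowLSel196 (i : ℕ) : ℕ := Bool.rec (rowLSel193 i) (rowLSel195 i) (Nat.ble 198 i)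

/-- A selector of the rows on the transpositions. -/
noncomputable def rowLSel197 (i : ℕ) : ℕ := Bool.rec rowL201 rowL202 (Nat.ble 202 i)

/-- A selector of the rows on the transpositions. -/
noncomputable def rowLSel198 (i : ℕ) : ℕ := Bool.rec rowL204 rowL205 (Nat.ble 205 i)

/-- A selector of the rows on the transpositions. -/
noncomputable def rowLSel199 (i : ℕ) : ℕ := Bool.rec rowL203 (rowLSel198 i) (Nat.ble 204 i)

/-- A selector of the rows on the transpositions. -/
noncomputable def rowLSel200 (i : ℕ) : ℕ := Bool.rec (rowLSel197 i) (rowLSel199 i) (Nat.ble 203 i)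

/-- A selector of the rows on the transpositions. -/
noncomputable def rowLSel201 (i : ℕ) : ℕ := Bool.rec (rowLSel196 i) (rowLSel200 i) (Nat.ble 201 i)

/-- A selector of the rows on the transpositions. -/
noncomputable def rowLSel202 (i : ℕ) : ℕ := Bool.rec (rowLSel192 i) (rowLSel201 i) (Nat.ble 196 i)

/-- A selector of the rows on the transpositions. -/
noncomputable def rowLSel203 (i : ℕ) : ℕ := Bool.rec rowL206 rowL207 (Nat.ble 207 i)

/-- A selector of the rows on the transpositions. -/
noncomputable def rowLSel204 (i : ℕ) : ℕ := Bool.rec rowL208 rowL209 (Nat.ble 209 i)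

/-- A selector of the rows on the transpositions. -/
noncomputable def rowLSel205 (i : ℕ) : ℕ := Bool.rec (rowLSel203 i) (rowLSel204 i) (Nat.ble 208 i)

/-- A selector of the rows on the transpositions. -/
noncomputable def rowLSel206 (i : ℕ) : ℕ := Bool.rec rowL210 rowL211 (Nat.ble 211 i)

/-- A selector of the rows on the transpositions. -/
noncomputable def rowLSel207 (i : ℕ) : ℕ := Bool.rec rowL213 rowL214 (Nat.ble 214 i)

/-- A selector of the rows on the transpositions. -/
noncomputable def rowLSel208 (i : ℕ) : ℕ := Bool.rec rowL212 (rowLSel207 i) (Nat.ble 213 i)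

/-- A selector of the rows on the transpositions. -/
noncomputable def rowLSel209 (i : ℕ) : ℕ := Bool.rec (rowLSel206 i) (rowLSel208 i) (Nat.ble 212 i)

/-- A selector of the rows on the transpositions. -/
noncomputable def rowLSel210 (i : ℕ) : ℕ := Bool.rec (rowLSel205 i) (rowLSel209 i) (Nat.ble 210 i)

/-- A selector of the rows on the transpositions. -/
noncomputable def rowLSel211 (i : ℕ) : ℕ := Bool.rec rowL215 rowL216 (Nat.ble 216 i)

/-- A selector of the rows on the transpositions. -/
noncomputable def rowLSel212 (i : ℕ) : ℕ := Bool.rec rowL218 rowL219 (Nat.ble 219 i)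

/-- A selector of the rows on the transpositions. -/
noncomputable def rowLSel213 (i : ℕ) : ℕ := Bool.rec rowL217 (rowLSel212 i) (Nat.ble 218 i)

/-- A selector of the rows on the transpositions. -/
noncomputable def rowLSel214 (i : ℕ) : ℕ := Bool.rec (rowLSel211 i) (rowLSel213 i) (Nat.ble 217 i)

/-- A selector of the rows on the transpositions. -/
noncomputable def rowLSel215 (i : ℕ) : ℕ := Bool.rec rowL220 rowL221 (Nat.ble 221 i)

/-- A selector of the rows on the transpositions. -/
noncomputable def rowLSel216 (i : ℕ) : ℕ := Bool.rec rowL223 rowL224 (Nat.ble 224 i)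

/-- A selector of the rows on the transpositions. -/
noncomputable def rowLSel217 (i : ℕ) : ℕ := Bool.rec rowL222 (rowLSel216 i) (Nat.ble 223 i)

/-- A selector of the rows on the transpositions. -/
noncomputable def rowLSel218 (i : ℕ) : ℕ := Bool.rec (rowLSel215 i) (rowLSel217 i) (Nat.ble 222 i)

/-- A selector of the rows on the transpositions. -/
noncomputable def rowLSel219 (i : ℕ) : ℕ := Bool.rec (rowLSel214 i) (rowLSel218 i) (Nat.ble 220 i)

/-- A selector of the rows on the transpositions. -/
noncomputable def rowLSel220 (i : ℕ) : ℕ := Bool.rec (rowLSel210 i) (rowLSel219 i) (Nat.ble 215 i)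

/-- A selector of the rows on the transpositions. -/
noncomputable def rowLSel221 (i : ℕ) : ℕ := Bool.rec (rowLSel202 i) (rowLSel220 i) (Nat.ble 206 i)

/-- A selector of the rows on the transpositions. -/
noncomputable def rowLSel222 (i : ℕ) : ℕ := Bool.rec (rowLSel184 i) (rowLSel221 i) (Nat.ble 187 i)

/-- A selector of the rows on the transpositions. -/
noncomputable def rowLSel223 (i : ℕ) : ℕ := Bool.rec rowL225 rowL226 (Nat.ble 226 i)

/-- A selector of the rows on the transpositions. -/
noncomputable def rowLSel224 (i : ℕ) : ℕ := Bool.rec rowL227 rowL228 (Nat.ble 228 i)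

/-- A selector of the rows on the transpositions. -/
noncomputable def rowLSel225 (i : ℕ) : ℕ := Bool.rec (rowLSel223 i) (rowLSel224 i) (Nat.ble 227 i)

/-- A selector of the rows on the transpositions. -/
noncomputable def rowLSel226 (i : ℕ) : ℕ := Bool.rec rowL229 rowL230 (Nat.ble 230 i)

/-- A selector of the rows on the transpositions. -/
noncomputable def rowLSel227 (i : ℕ) : ℕ := Bool.rec rowL232 rowL233 (Nat.ble 233 i)

/-- A selector of the rows on the transpositions. -/
noncomputable def rowLSel228 (i : ℕ) : ℕ := Bool.rec rowL231 (rowLSel227 i) (Nat.ble 232 i)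

/-- A selector of the rows on the transpositions. -/
noncomputable def rowLSel229 (i : ℕ) : ℕ := Bool.rec (rowLSel226 i) (rowLSel228 i) (Nat.ble 231 i)

/-- A selector of the rows on the transpositions. -/
noncomputable def rowLSel230 (i : ℕ) : ℕ := Bool.rec (rowLSel225 i) (rowLSel229 i) (Nat.ble 229 i)

/-- A selector of the rows on the transpositions. -/
noncomputable def rowLSel231 (i : ℕ) : ℕ := Bool.rec rowL234 rowL235 (Nat.ble 235 i)

/-- A selector of the rows on the transpositions. -/
noncomputable def rowLSel232 (i : ℕ) : ℕ := Bool.rec rowL236 rowL237 (Nat.ble 237 i)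

/-- A selector of the rows on the transpositions. -/
noncomputable def rowLSel233 (i : ℕ) : ℕ := Bool.rec (rowLSel231 i) (rowLSel232 i) (Nat.ble 236 i)

/-- A selector of the rows on the transpositions. -/
noncomputable def rowLSel234 (i : ℕ) : ℕ := Bool.rec rowL238 rowL239 (Nat.ble 239 i)

/-- A selector of the rows on the transpositions. -/
noncomputable def rowLSel235 (i : ℕ) : ℕ := Bool.rec rowL241 rowL242 (Nat.ble 242 i)

/-- A selector of the rows on the transpositions. -/
noncomputable def rowLSel236 (i : ℕ) : ℕ := Bool.rec rowL240 (rowLSel235 i) (Nat.ble 241 i)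

/-- A selector of the rows on the transpositions. -/
noncomputable def rowLSel237 (i : ℕ) : ℕ := Bool.rec (rowLSel234 i) (rowLSel236 i) (Nat.ble 240 i)

/-- A selector of the rows on the transpositions. -/
noncomputable def rowLSel238 (i : ℕ) : ℕ := Bool.rec (rowLSel233 i) (rowLSel237 i) (Nat.ble 238 i)

/-- A selector of the rows on the transpositions. -/
noncomputable def rowLSel239 (i : ℕ) : ℕ := Bool.rec (rowLSel230 i) (rowLSel238 i) (Nat.ble 234 i)

/-- A selector of the rows on the transpositions. -/
noncomputable def rowLSel240 (i : ℕ) : ℕ := Bool.rec rowL243 rowL244 (Nat.ble 244 i)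

/-- A selector of the rows on the transpositions. -/
noncomputable def rowLSel241 (i : ℕ) : ℕ := Bool.rec rowL245 rowL246 (Nat.ble 246 i)

/-- A selector of the rows on the transpositions. -/
noncomputable def rowLSel242 (i : ℕ) : ℕ := Bool.rec (rowLSel240 i) (rowLSel241 i) (Nat.ble 245 i)

/-- A selector of the rows on the transpositions. -/
noncomputable def rowLSel243 (i : ℕ) : ℕ := Bool.rec rowL247 rowL248 (Nat.ble 248 i)

/-- A selector of the rows on the transpositions. -/
noncomputable def rowLSel244 (i : ℕ) : ℕ := Bool.rec rowL250 rowL251 (Nat.ble 251 i)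

/-- A selector of the rows on the transpositions. -/
noncomputable def rowLSel245 (i : ℕ) : ℕ := Bool.rec rowL249 (rowLSel244 i) (Nat.ble 250 i)

/-- A selector of the rows on the transpositions. -/
noncomputable def rowLSel246 (i : ℕ) : ℕ := Bool.rec (rowLSel243 i) (rowLSel245 i) (Nat.ble 249 i)

/-- A selector of the rows on the transpositions. -/
noncomputable def rowLSel247 (i : ℕ) : ℕ := Bool.rec (rowLSel242 i) (rowLSel246 i) (Nat.ble 247 i)

/-- A selector of the rows on the transpositions. -/
noncomputable def rowLSel248 (i : ℕ) : ℕ := Bool.rec rowL252 rowL253 (Nat.ble 253 i)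

/-- A selector of the rows on the transpositions. -/
noncomputable def rowLSel249 (i : ℕ) : ℕ := Bool.rec rowL255 rowL256 (Nat.ble 256 i)

/-- A selector of the rows on the transpositions. -/
noncomputable def rowLSel250 (i : ℕ) : ℕ := Bool.rec rowL254 (rowLSel249 i) (Nat.ble 255 i)

/-- A selector of the rows on the transpositions. -/
noncomputable def rowLSel251 (i : ℕ) : ℕ := Bool.rec (rowLSel248 i) (rowLSel250 i) (Nat.ble 254 i)

/-- A selector of the rows on the transpositions. -/
noncomputable def rowLSel252 (i : ℕ) : ℕ := Bool.rec rowL257 rowL258 (Nat.ble 258 i)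

/-- A selector of the rows on the transpositions. -/
noncomputable def rowLSel253 (i : ℕ) : ℕ := Bool.rec rowL260 rowL261 (Nat.ble 261 i)

/-- A selector of the rows on the transpositions. -/
noncomputable def rowLSel254 (i : ℕ) : ℕ := Bool.rec rowL259 (rowLSel253 i) (Nat.ble 260 i)

/-- A selector of the rows on the transpositions. -/
noncomputable def rowLSel255 (i : ℕ) : ℕ := Bool.rec (rowLSel252 i) (rowLSel254 i) (Nat.ble 259 i)

/-- A selector of the rows on the transpositions. -/
noncomputable def rowLSel256 (i : ℕ) : ℕ := Bool.rec (rowLSel251 i) (rowLSel255 i) (Nat.ble 257 i)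

/-- A selector of the rows on the transpositions. -/
noncomputable def rowLSel257 (i : ℕ) : ℕ := Bool.rec (rowLSel247 i) (rowLSel256 i) (Nat.ble 252 i)

/-- A selector of the rows on the transpositions. -/
noncomputable def rowLSel258 (i : ℕ) : ℕ := Bool.rec (rowLSel239 i) (rowLSel257 i) (Nat.ble 243 i)

/-- A selector of the rows on the transpositions. -/
noncomputable def rowLSel259 (i : ℕ) : ℕ := Bool.rec rowL262 rowL263 (Nat.ble 263 i)

/-- A selector of the rows on the transpositions. -/
noncomputable def rowLSel260 (i : ℕ) : ℕ := Bool.rec rowL264 rowL265 (Nat.ble 265 i)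

/-- A selector of the rows on the transpositions. -/
noncomputable def rowLSel261 (i : ℕ) : ℕ := Bool.rec (rowLSel259 i) (rowLSel260 i) (Nat.ble 264 i)

/-- A selector of the rows on the transpositions. -/
noncomputable def rowLSel262 (i : ℕ) : ℕ := Bool.rec rowL266 rowL267 (Nat.ble 267 i)

/-- A selector of the rows on the transpositions. -/
noncomputable def rowLSel263 (i : ℕ) : ℕ := Bool.rec rowL269 rowL270 (Nat.ble 270 i)

/-- A selector of the rows on the transpositions. -/
noncomputable def rowLSel264 (i : ℕ) : ℕ := Bool.rec rowL268 (rowLSel263 i) (Nat.ble 269 i)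

/-- A selector of the rows on the transpositions. -/
noncomputable def rowLSel265 (i : ℕ) : ℕ := Bool.rec (rowLSel262 i) (rowLSel264 i) (Nat.ble 268 i)

/-- A selector of the rows on the transpositions. -/
noncomputable def rowLSel266 (i : ℕ) : ℕ := Bool.rec (rowLSel261 i) (rowLSel265 i) (Nat.ble 266 i)

/-- A selector of the rows on the transpositions. -/
noncomputable def rowLSel267 (i : ℕ) : ℕ := Bool.rec rowL271 rowL272 (Nat.ble 272 i)

/-- A selector of the rows on the transpositions. -/
noncomputable def rowLSel268 (i : ℕ) : ℕ := Bool.rec rowL274 rowL275 (Nat.ble 275 i)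

/-- A selector of the rows on the transpositions. -/
noncomputable def rowLSel269 (i : ℕ) : ℕ := Bool.rec rowL273 (rowLSel268 i) (Nat.ble 274 i)

/-- A selector of the rows on the transpositions. -/
noncomputable def rowLSel270 (i : ℕ) : ℕ := Bool.rec (rowLSel267 i) (rowLSel269 i) (Nat.ble 273 i)

/-- A selector of the rows on the transpositions. -/
noncomputable def rowLSel271 (i : ℕ) : ℕ := Bool.rec rowL276 rowL277 (Nat.ble 277 i)

/-- A selector of the rows on the transpositions. -/
noncomputable def rowLSel272 (i : ℕ) : ℕ := Bool.rec rowL279 rowL280 (Nat.ble 280 i)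

/-- A selector of the rows on the transpositions. -/
noncomputable def rowLSel273 (i : ℕ) : ℕ := Bool.rec rowL278 (rowLSel272 i) (Nat.ble 279 i)

/-- A selector of the rows on the transpositions. -/
noncomputable def rowLSel274 (i : ℕ) : ℕ := Bool.rec (rowLSel271 i) (rowLSel273 i) (Nat.ble 278 i)

/-- A selector of the rows on the transpositions. -/
noncomputable def rowLSel275 (i : ℕ) : ℕ := Bool.rec (rowLSel270 i) (rowLSel274 i) (Nat.ble 276 i)

/-- A selector of the rows on the transpositions. -/
noncomputable def rowLSel276 (i : ℕ) : ℕ := Bool.rec (rowLSel266 i) (rowLSel275 i) (Nat.ble 271 i)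

/-- A selector of the rows on the transpositions. -/
noncomputable def rowLSel277 (i : ℕ) : ℕ := Bool.rec rowL281 rowL282 (Nat.ble 282 i)

/-- A selector of the rows on the transpositions. -/
noncomputable def rowLSel278 (i : ℕ) : ℕ := Bool.rec rowL283 rowL284 (Nat.ble 284 i)

/-- A selector of the rows on the transpositions. -/
noncomputable def rowLSel279 (i : ℕ) : ℕ := Bool.rec (rowLSel277 i) (rowLSel278 i) (Nat.ble 283 i)

/-- A selector of the rows on the transpositions. -/
noncomputable def rowLSel280 (i : ℕ) : ℕ := Bool.rec rowL285 rowL286 (Nat.ble 286 i)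

/-- A selector of the rows on the transpositions. -/
noncomputable def rowLSel281 (i : ℕ) : ℕ := Bool.rec rowL288 rowL289 (Nat.ble 289 i)

/-- A selector of the rows on the transpositions. -/
noncomputable def rowLSel282 (i : ℕ) : ℕ := Bool.rec rowL287 (rowLSel281 i) (Nat.ble 288 i)

/-- A selector of the rows on the transpositions. -/
noncomputable def rowLSel283 (i : ℕ) : ℕ := Bool.rec (rowLSel280 i) (rowLSel282 i) (Nat.ble 287 i)

/-- A selector of the rows on the transpositions. -/
noncomputable def rowLSel284 (i : ℕ) : ℕ := Bool.rec (rowLSel279 i) (rowLSel283 i) (Nat.ble 285 i)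

/-- A selector of the rows on the transpositions. -/
noncomputable def rowLSel285 (i : ℕ) : ℕ := Bool.rec rowL290 rowL291 (Nat.ble 291 i)

/-- A selector of the rows on the transpositions. -/
noncomputable def rowLSel286 (i : ℕ) : ℕ := Bool.rec rowL293 rowL294 (Nat.ble 294 i)

/-- A selector of the rows on the transpositions. -/
noncomputable def rowLSel287 (i : ℕ) : ℕ := Bool.rec rowL292 (rowLSel286 i) (Nat.ble 293 i)

/-- A selector of the rows on the transpositions. -/
noncomputable def rowLSel288 (i : ℕ) : ℕ := Bool.rec (rowLSel285 i) (rowLSel287 i) (Nat.ble 292 i)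

/-- A selector of the rows on the transpositions. -/
noncomputable def rowLSel289 (i : ℕ) : ℕ := Bool.rec rowL295 rowL296 (Nat.ble 296 i)

/-- A selector of the rows on the transpositions. -/
noncomputable def rowLSel290 (i : ℕ) : ℕ := Bool.rec rowL298 rowL299 (Nat.ble 299 i)

/-- A selector of the rows on the transpositions. -/
noncomputable def rowLSel291 (i : ℕ) : ℕ := Bool.rec rowL297 (rowLSel290 i) (Nat.ble 298 i)

/-- A selector of the rows on the transpositions. -/
noncomputable def rowLSel292 (i : ℕ) : ℕ := Bool.rec (rowLSel289 i) (rowLSel291 i) (Nat.ble 297 i)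

/-- A selector of the rows on the transpositions. -/
noncomputable def rowLSel293 (i : ℕ) : ℕ := Bool.rec (rowLSel288 i) (rowLSel292 i) (Nat.ble 295 i)

/-- A selector of the rows on the transpositions. -/
noncomputable def rowLSel294 (i : ℕ) : ℕ := Bool.rec (rowLSel284 i) (rowLSel293 i) (Nat.ble 290 i)

/-- A selector of the rows on the transpositions. -/
noncomputable def rowLSel295 (i : ℕ) : ℕ := Bool.rec (rowLSel276 i) (rowLSel294 i) (Nat.ble 281 i)

/-- A selector of the rows on the transpositions. -/
noncomputable def rowLSel296 (i : ℕ) : ℕ := Bool.rec (rowLSel258 i) (rowLSel295 i) (Nat.ble 262 i)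

/-- A selector of the rows on the transpositions. -/
noncomputable def rowLSel297 (i : ℕ) : ℕ := Bool.rec (rowLSel222 i) (rowLSel296 i) (Nat.ble 225 i)

/-- A selector of the rows on the transpositions. -/
noncomputable def rowLSel298 (i : ℕ) : ℕ := Bool.rec (rowLSel148 i) (rowLSel297 i) (Nat.ble 150 i)

/-- A selector of the rows on the transpositions. -/
noncomputable def rowLSel299 (i : ℕ) : ℕ := Bool.rec rowL300 rowL301 (Nat.ble 301 i)

/-- A selector of the rows on the transpositions. -/
noncomputable def rowLSel300 (i : ℕ) : ℕ := Bool.rec rowL302 rowL303 (Nat.ble 303 i)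

/-- A selector of the rows on the transpositions. -/
noncomputable def rowLSel301 (i : ℕ) : ℕ := Bool.rec (rowLSel299 i) (rowLSel300 i) (Nat.ble 302 i)

/-- A selector of the rows on the transpositions. -/
noncomputable def rowLSel302 (i : ℕ) : ℕ := Bool.rec rowL304 rowL305 (Nat.ble 305 i)

/-- A selector of the rows on the transpositions. -/
noncomputable def rowLSel303 (i : ℕ) : ℕ := Bool.rec rowL307 rowL308 (Nat.ble 308 i)

/-- A selector of the rows on the transpositions. -/
noncomputable def rowLSel304 (i : ℕ) : ℕ := Bool.rec rowL306 (rowLSel303 i) (Nat.ble 307 i)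

/-- A selector of the rows on the transpositions. -/
noncomputable def rowLSel305 (i : ℕ) : ℕ := Bool.rec (rowLSel302 i) (rowLSel304 i) (Nat.ble 306 i)

/-- A selector of the rows on the transpositions. -/
noncomputable def rowLSel306 (i : ℕ) : ℕ := Bool.rec (rowLSel301 i) (rowLSel305 i) (Nat.ble 304 i)

/-- A selector of the rows on the transpositions. -/
noncomputable def rowLSel307 (i : ℕ) : ℕ := Bool.rec rowL309 rowL310 (Nat.ble 310 i)

/-- A selector of the rows on the transpositions. -/
noncomputable def rowLSel308 (i : ℕ) : ℕ := Bool.rec rowL311 rowL312 (Nat.ble 312 i)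

/-- A selector of the rows on the transpositions. -/
noncomputable def rowLSel309 (i : ℕ) : ℕ := Bool.rec (rowLSel307 i) (rowLSel308 i) (Nat.ble 311 i)

/-- A selector of the rows on the transpositions. -/
noncomputable def rowLSel310 (i : ℕ) : ℕ := Bool.rec rowL313 rowL314 (Nat.ble 314 i)

/-- A selector of the rows on the transpositions. -/
noncomputable def rowLSel311 (i : ℕ) : ℕ := Bool.rec rowL316 rowL317 (Nat.ble 317 i)

/-- A selector of the rows on the transpositions. -/
noncomputable def rowLSel312 (i : ℕ) : ℕ := Bool.rec rowL315 (rowLSel311 i) (Nat.ble 316 i)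

/-- A selector of the rows on the transpositions. -/
noncomputable def rowLSel313 (i : ℕ) : ℕ := Bool.rec (rowLSel310 i) (rowLSel312 i) (Nat.ble 315 i)

/-- A selector of the rows on the transpositions. -/
noncomputable def rowLSel314 (i : ℕ) : ℕ := Bool.rec (rowLSel309 i) (rowLSel313 i) (Nat.ble 313 i)

/-- A selector of the rows on the transpositions. -/
noncomputable def rowLSel315 (i : ℕ) : ℕ := Bool.rec (rowLSel306 i) (rowLSel314 i) (Nat.ble 309 i)

/-- A selector of the rows on the transpositions. -/
noncomputable def rowLSel316 (i : ℕ) : ℕ := Bool.rec rowL318 rowL319 (Nat.ble 319 i)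

/-- A selector of the rows on the transpositions. -/
noncomputable def rowLSel317 (i : ℕ) : ℕ := Bool.rec rowL320 rowL321 (Nat.ble 321 i)

/-- A selector of the rows on the transpositions. -/
noncomputable def rowLSel318 (i : ℕ) : ℕ := Bool.rec (rowLSel316 i) (rowLSel317 i) (Nat.ble 320 i)

/-- A selector of the rows on the transpositions. -/
noncomputable def rowLSel319 (i : ℕ) : ℕ := Bool.rec rowL322 rowL323 (Nat.ble 323 i)

/-- A selector of the rows on the transpositions. -/
noncomputable def rowLSel320 (i : ℕ) : ℕ := Bool.rec rowL325 rowL326 (Nat.ble 326 i)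

/-- A selector of the rows on the transpositions. -/
noncomputable def rowLSel321 (i : ℕ) : ℕ := Bool.rec rowL324 (rowLSel320 i) (Nat.ble 325 i)

/-- A selector of the rows on the transpositions. -/
noncomputable def rowLSel322 (i : ℕ) : ℕ := Bool.rec (rowLSel319 i) (rowLSel321 i) (Nat.ble 324 i)

/-- A selector of the rows on the transpositions. -/
noncomputable def rowLSel323 (i : ℕ) : ℕ := Bool.rec (rowLSel318 i) (rowLSel322 i) (Nat.ble 322 i)

/-- A selector of the rows on the transpositions. -/
noncomputable def rowLSel324 (i : ℕ) : ℕ := Bool.rec rowL327 rowL328 (Nat.ble 328 i)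

/-- A selector of the rows on the transpositions. -/
noncomputable def rowLSel325 (i : ℕ) : ℕ := Bool.rec rowL330 rowL331 (Nat.ble 331 i)

/-- A selector of the rows on the transpositions. -/
noncomputable def rowLSel326 (i : ℕ) : ℕ := Bool.rec rowL329 (rowLSel325 i) (Nat.ble 330 i)

/-- A selector of the rows on the transpositions. -/
noncomputable def rowLSel327 (i : ℕ) : ℕ := Bool.rec (rowLSel324 i) (rowLSel326 i) (Nat.ble 329 i)

/-- A selector of the rows on the transpositions. -/
noncomputable def rowLSel328 (i : ℕ) : ℕ := Bool.rec rowL332 rowL333 (Nat.ble 333 i)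

/-- A selector of the rows on the transpositions. -/
noncomputable def rowLSel329 (i : ℕ) : ℕ := Bool.rec rowL335 rowL336 (Nat.ble 336 i)

/-- A selector of the rows on the transpositions. -/
noncomputable def rowLSel330 (i : ℕ) : ℕ := Bool.rec rowL334 (rowLSel329 i) (Nat.ble 335 i)

/-- A selector of the rows on the transpositions. -/
noncomputable def rowLSel331 (i : ℕ) : ℕ := Bool.rec (rowLSel328 i) (rowLSel330 i) (Nat.ble 334 i)

/-- A selector of the rows on the transpositions. -/
noncomputable def rowLSel332 (i : ℕ) : ℕ := Bool.rec (rowLSel327 i) (rowLSel331 i) (Nat.ble 332 i)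

/-- A selector of the rows on the transpositions. -/
noncomputable def rowLSel333 (i : ℕ) : ℕ := Bool.rec (rowLSel323 i) (rowLSel332 i) (Nat.ble 327 i)

/-- A selector of the rows on the transpositions. -/
noncomputable def rowLSel334 (i : ℕ) : ℕ := Bool.rec (rowLSel315 i) (rowLSel333 i) (Nat.ble 318 i)

/-- A selector of the rows on the transpositions. -/
noncomputable def rowLSel335 (i : ℕ) : ℕ := Bool.rec rowL337 rowL338 (Nat.ble 338 i)

/-- A selector of the rows on the transpositions. -/
noncomputable def rowLSel336 (i : ℕ) : ℕ := Bool.rec rowL339 rowL340 (Nat.ble 340 i)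

/-- A selector of the rows on the transpositions. -/
noncomputable def rowLSel337 (i : ℕ) : ℕ := Bool.rec (rowLSel335 i) (rowLSel336 i) (Nat.ble 339 i)

/-- A selector of the rows on the transpositions. -/
noncomputable def rowLSel338 (i : ℕ) : ℕ := Bool.rec rowL341 rowL342 (Nat.ble 342 i)

/-- A selector of the rows on the transpositions. -/
noncomputable def rowLSel339 (i : ℕ) : ℕ := Bool.rec rowL344 rowL345 (Nat.ble 345 i)

/-- A selector of the rows on the transpositions. -/
noncomputable def rowLSel340 (i : ℕ) : ℕ := Bool.rec rowL343 (rowLSel339 i) (Nat.ble 344 i)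

/-- A selector of the rows on the transpositions. -/
noncomputable def rowLSel341 (i : ℕ) : ℕ := Bool.rec (rowLSel338 i) (rowLSel340 i) (Nat.ble 343 i)

/-- A selector of the rows on the transpositions. -/
noncomputable def rowLSel342 (i : ℕ) : ℕ := Bool.rec (rowLSel337 i) (rowLSel341 i) (Nat.ble 341 i)

/-- A selector of the rows on the transpositions. -/
noncomputable def rowLSel343 (i : ℕ) : ℕ := Bool.rec rowL346 rowL347 (Nat.ble 347 i)

/-- A selector of the rows on the transpositions. -/
noncomputable def rowLSel344 (i : ℕ) : ℕ := Bool.rec rowL349 rowL350 (Nat.ble 350 i)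

/-- A selector of the rows on the transpositions. -/
noncomputable def rowLSel345 (i : ℕ) : ℕ := Bool.rec rowL348 (rowLSel344 i) (Nat.ble 349 i)

/-- A selector of the rows on the transpositions. -/
noncomputable def rowLSel346 (i : ℕ) : ℕ := Bool.rec (rowLSel343 i) (rowLSel345 i) (Nat.ble 348 i)

/-- A selector of the rows on the transpositions. -/
noncomputable def rowLSel347 (i : ℕ) : ℕ := Bool.rec rowL351 rowL352 (Nat.ble 352 i)

/-- A selector of the rows on the transpositions. -/
noncomputable def rowLSel348 (i : ℕ) : ℕ := Bool.rec rowL354 rowL355 (Nat.ble 355 i)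

/-- A selector of the rows on the transpositions. -/
noncomputable def rowLSel349 (i : ℕ) : ℕ := Bool.rec rowL353 (rowLSel348 i) (Nat.ble 354 i)

/-- A selector of the rows on the transpositions. -/
noncomputable def rowLSel350 (i : ℕ) : ℕ := Bool.rec (rowLSel347 i) (rowLSel349 i) (Nat.ble 353 i)

/-- A selector of the rows on the transpositions. -/
noncomputable def rowLSel351 (i : ℕ) : ℕ := Bool.rec (rowLSel346 i) (rowLSel350 i) (Nat.ble 351 i)

/-- A selector of the rows on the transpositions. -/
noncomputable def rowLSel352 (i : ℕ) : ℕ := Bool.rec (rowLSel342 i) (rowLSel351 i) (Nat.ble 346 i)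

/-- A selector of the rows on the transpositions. -/
noncomputable def rowLSel353 (i : ℕ) : ℕ := Bool.rec rowL356 rowL357 (Nat.ble 357 i)

/-- A selector of the rows on the transpositions. -/
noncomputable def rowLSel354 (i : ℕ) : ℕ := Bool.rec rowL358 rowL359 (Nat.ble 359 i)

/-- A selector of the rows on the transpositions. -/
noncomputable def rowLSel355 (i : ℕ) : ℕ := Bool.rec (rowLSel353 i) (rowLSel354 i) (Nat.ble 358 i)

/-- A selector of the rows on the transpositions. -/
noncomputable def rowLSel356 (i : ℕ) : ℕ := Bool.rec rowL360 rowL361 (Nat.ble 361 i)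

/-- A selector of the rows on the transpositions. -/
noncomputable def rowLSel357 (i : ℕ) : ℕ := Bool.rec rowL363 rowL364 (Nat.ble 364 i)

/-- A selector of the rows on the transpositions. -/
noncomputable def rowLSel358 (i : ℕ) : ℕ := Bool.rec rowL362 (rowLSel357 i) (Nat.ble 363 i)

/-- A selector of the rows on the transpositions. -/
noncomputable def rowLSel359 (i : ℕ) : ℕ := Bool.rec (rowLSel356 i) (rowLSel358 i) (Nat.ble 362 i)

/-- A selector of the rows on the transpositions. -/
noncomputable def rowLSel360 (i : ℕ) : ℕ := Bool.rec (rowLSel355 i) (rowLSel359 i) (Nat.ble 360 i)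

/-- A selector of the rows on the transpositions. -/
noncomputable def rowLSel361 (i : ℕ) : ℕ := Bool.rec rowL365 rowL366 (Nat.ble 366 i)

/-- A selector of the rows on the transpositions. -/
noncomputable def rowLSel362 (i : ℕ) : ℕ := Bool.rec rowL368 rowL369 (Nat.ble 369 i)

/-- A selector of the rows on the transpositions. -/
noncomputable def rowLSel363 (i : ℕ) : ℕ := Bool.rec rowL367 (rowLSel362 i) (Nat.ble 368 i)

/-- A selector of the rows on the transpositions. -/
noncomputable def rowLSel364 (i : ℕ) : ℕ := Bool.rec (rowLSel361 i) (rowLSel363 i) (Nat.ble 367 i)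

/-- A selector of the rows on the transpositions. -/
noncomputable def rowLSel365 (i : ℕ) : ℕ := Bool.rec rowL370 rowL371 (Nat.ble 371 i)

/-- A selector of the rows on the transpositions. -/
noncomputable def rowLSel366 (i : ℕ) : ℕ := Bool.rec rowL373 rowL374 (Nat.ble 374 i)

/-- A selector of the rows on the transpositions. -/
noncomputable def rowLSel367 (i : ℕ) : ℕ := Bool.rec rowL372 (rowLSel366 i) (Nat.ble 373 i)

/-- A selector of the rows on the transpositions. -/
noncomputable def rowLSel368 (i : ℕ) : ℕ := Bool.rec (rowLSel365 i) (rowLSel367 i) (Nat.ble 372 i)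

/-- A selector of the rows on the transpositions. -/
noncomputable def rowLSel369 (i : ℕ) : ℕ := Bool.rec (rowLSel364 i) (rowLSel368 i) (Nat.ble 370 i)

/-- A selector of the rows on the transpositions. -/
noncomputable def rowLSel370 (i : ℕ) : ℕ := Bool.rec (rowLSel360 i) (rowLSel369 i) (Nat.ble 365 i)

/-- A selector of the rows on the transpositions. -/
noncomputable def rowLSel371 (i : ℕ) : ℕ := Bool.rec (rowLSel352 i) (rowLSel370 i) (Nat.ble 356 i)

/-- A selector of the rows on the transpositions. -/
noncomputable def rowLSel372 (i : ℕ) : ℕ := Bool.rec (rowLSel334 i) (rowLSel371 i) (Nat.ble 337 i)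

/-- A selector of the rows on the transpositions. -/
noncomputable def rowLSel373 (i : ℕ) : ℕ := Bool.rec rowL375 rowL376 (Nat.ble 376 i)

/-- A selector of the rows on the transpositions. -/
noncomputable def rowLSel374 (i : ℕ) : ℕ := Bool.rec rowL377 rowL378 (Nat.ble 378 i)

/-- A selector of the rows on the transpositions. -/
noncomputable def rowLSel375 (i : ℕ) : ℕ := Bool.rec (rowLSel373 i) (rowLSel374 i) (Nat.ble 377 i)

/-- A selector of the rows on the transpositions. -/
noncomputable def rowLSel376 (i : ℕ) : ℕ := Bool.rec rowL379 rowL380 (Nat.ble 380 i)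

/-- A selector of the rows on the transpositions. -/
noncomputable def rowLSel377 (i : ℕ) : ℕ := Bool.rec rowL382 rowL383 (Nat.ble 383 i)

/-- A selector of the rows on the transpositions. -/
noncomputable def rowLSel378 (i : ℕ) : ℕ := Bool.rec rowL381 (rowLSel377 i) (Nat.ble 382 i)

/-- A selector of the rows on the transpositions. -/
noncomputable def rowLSel379 (i : ℕ) : ℕ := Bool.rec (rowLSel376 i) (rowLSel378 i) (Nat.ble 381 i)

/-- A selector of the rows on the transpositions. -/
noncomputable def rowLSel380 (i : ℕ) : ℕ := Bool.rec (rowLSel375 i) (rowLSel379 i) (Nat.ble 379 i)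

/-- A selector of the rows on the transpositions. -/
noncomputable def rowLSel381 (i : ℕ) : ℕ := Bool.rec rowL384 rowL385 (Nat.ble 385 i)

/-- A selector of the rows on the transpositions. -/
noncomputable def rowLSel382 (i : ℕ) : ℕ := Bool.rec rowL386 rowL387 (Nat.ble 387 i)

/-- A selector of the rows on the transpositions. -/
noncomputable def rowLSel383 (i : ℕ) : ℕ := Bool.rec (rowLSel381 i) (rowLSel382 i) (Nat.ble 386 i)

/-- A selector of the rows on the transpositions. -/
noncomputable def rowLSel384 (i : ℕ) : ℕ := Bool.rec rowL388 rowL389 (Nat.ble 389 i)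

/-- A selector of the rows on the transpositions. -/
noncomputable def rowLSel385 (i : ℕ) : ℕ := Bool.rec rowL391 rowL392 (Nat.ble 392 i)

/-- A selector of the rows on the transpositions. -/
noncomputable def rowLSel386 (i : ℕ) : ℕ := Bool.rec rowL390 (rowLSel385 i) (Nat.ble 391 i)

/-- A selector of the rows on the transpositions. -/
noncomputable def rowLSel387 (i : ℕ) : ℕ := Bool.rec (rowLSel384 i) (rowLSel386 i) (Nat.ble 390 i)

/-- A selector of the rows on the transpositions. -/
noncomputable def rowLSel388 (i : ℕ) : ℕ := Bool.rec (rowLSel383 i) (rowLSel387 i) (Nat.ble 388 i)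

/-- A selector of the rows on the transpositions. -/
noncomputable def rowLSel389 (i : ℕ) : ℕ := Bool.rec (rowLSel380 i) (rowLSel388 i) (Nat.ble 384 i)

/-- A selector of the rows on the transpositions. -/
noncomputable def rowLSel390 (i : ℕ) : ℕ := Bool.rec rowL393 rowL394 (Nat.ble 394 i)

/-- A selector of the rows on the transpositions. -/
noncomputable def rowLSel391 (i : ℕ) : ℕ := Bool.rec rowL395 rowL396 (Nat.ble 396 i)

/-- A selector of the rows on the transpositions. -/
noncomputable def rowLSel392 (i : ℕ) : ℕ := Bool.rec (rowLSel390 i) (rowLSel391 i) (Nat.ble 395 i)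

/-- A selector of the rows on the transpositions. -/
noncomputable def rowLSel393 (i : ℕ) : ℕ := Bool.rec rowL397 rowL398 (Nat.ble 398 i)

/-- A selector of the rows on the transpositions. -/
noncomputable def rowLSel394 (i : ℕ) : ℕ := Bool.rec rowL400 rowL401 (Nat.ble 401 i)

/-- A selector of the rows on the transpositions. -/
noncomputable def rowLSel395 (i : ℕ) : ℕ := Bool.rec rowL399 (rowLSel394 i) (Nat.ble 400 i)

/-- A selector of the rows on the transpositions. -/
noncomputable def rowLSel396 (i : ℕ) : ℕ := Bool.rec (rowLSel393 i) (rowLSel395 i) (Nat.ble 399 i)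

/-- A selector of the rows on the transpositions. -/
noncomputable def rowLSel397 (i : ℕ) : ℕ := Bool.rec (rowLSel392 i) (rowLSel396 i) (Nat.ble 397 i)

/-- A selector of the rows on the transpositions. -/
noncomputable def rowLSel398 (i : ℕ) : ℕ := Bool.rec rowL402 rowL403 (Nat.ble 403 i)

/-- A selector of the rows on the transpositions. -/
noncomputable def rowLSel399 (i : ℕ) : ℕ := Bool.rec rowL405 rowL406 (Nat.ble 406 i)

/-- A selector of the rows on the transpositions. -/
noncomputable def rowLSel400 (i : ℕ) : ℕ := Bool.rec rowL404 (rowLSel399 i) (Nat.ble 405 i)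

/-- A selector of the rows on the transpositions. -/
noncomputable def rowLSel401 (i : ℕ) : ℕ := Bool.rec (rowLSel398 i) (rowLSel400 i) (Nat.ble 404 i)

/-- A selector of the rows on the transpositions. -/
noncomputable def rowLSel402 (i : ℕ) : ℕ := Bool.rec rowL407 rowL408 (Nat.ble 408 i)

/-- A selector of the rows on the transpositions. -/
noncomputable def rowLSel403 (i : ℕ) : ℕ := Bool.rec rowL410 rowL411 (Nat.ble 411 i)

/-- A selector of the rows on the transpositions. -/
noncomputable def rowLSel404 (i : ℕ) : ℕ := Bool.rec rowL409 (rowLSel403 i) (Nat.ble 410 i)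

/-- A selector of the rows on the transpositions. -/
noncomputable def rowLSel405 (i : ℕ) : ℕ := Bool.rec (rowLSel402 i) (rowLSel404 i) (Nat.ble 409 i)

/-- A selector of the rows on the transpositions. -/
noncomputable def rowLSel406 (i : ℕ) : ℕ := Bool.rec (rowLSel401 i) (rowLSel405 i) (Nat.ble 407 i)

/-- A selector of the rows on the transpositions. -/
noncomputable def rowLSel407 (i : ℕ) : ℕ := Bool.rec (rowLSel397 i) (rowLSel406 i) (Nat.ble 402 i)

/-- A selector of the rows on the transpositions. -/
noncomputable def rowLSel408 (i : ℕ) : ℕ := Bool.rec (rowLSel389 i) (rowLSel407 i) (Nat.ble 393 i)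

/-- A selector of the rows on the transpositions. -/
noncomputable def rowLSel409 (i : ℕ) : ℕ := Bool.rec rowL412 rowL413 (Nat.ble 413 i)

/-- A selector of the rows on the transpositions. -/
noncomputable def rowLSel410 (i : ℕ) : ℕ := Bool.rec rowL414 rowL415 (Nat.ble 415 i)

/-- A selector of the rows on the transpositions. -/
noncomputable def rowLSel411 (i : ℕ) : ℕ := Bool.rec (rowLSel409 i) (rowLSel410 i) (Nat.ble 414 i)

/-- A selector of the rows on the transpositions. -/
noncomputable def rowLSel412 (i : ℕ) : ℕ := Bool.rec rowL416 rowL417 (Nat.ble 417 i)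

/-- A selector of the rows on the transpositions. -/
noncomputable def rowLSel413 (i : ℕ) : ℕ := Bool.rec rowL419 rowL420 (Nat.ble 420 i)

/-- A selector of the rows on the transpositions. -/
noncomputable def rowLSel414 (i : ℕ) : ℕ := Bool.rec rowL418 (rowLSel413 i) (Nat.ble 419 i)

/-- A selector of the rows on the transpositions. -/
noncomputable def rowLSel415 (i : ℕ) : ℕ := Bool.rec (rowLSel412 i) (rowLSel414 i) (Nat.ble 418 i)

/-- A selector of the rows on the transpositions. -/
noncomputable def rowLSel416 (i : ℕ) : ℕ := Bool.rec (rowLSel411 i) (rowLSel415 i) (Nat.ble 416 i)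

/-- A selector of the rows on the transpositions. -/
noncomputable def rowLSel417 (i : ℕ) : ℕ := Bool.rec rowL421 rowL422 (Nat.ble 422 i)

/-- A selector of the rows on the transpositions. -/
noncomputable def rowLSel418 (i : ℕ) : ℕ := Bool.rec rowL424 rowL425 (Nat.ble 425 i)

/-- A selector of the rows on the transpositions. -/
noncomputable def rowLSel419 (i : ℕ) : ℕ := Bool.rec rowL423 (rowLSel418 i) (Nat.ble 424 i)

/-- A selector of the rows on the transpositions. -/
noncomputable def rowLSel420 (i : ℕ) : ℕ := Bool.rec (rowLSel417 i) (rowLSel419 i) (Nat.ble 423 i)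

/-- A selector of the rows on the transpositions. -/
noncomputable def rowLSel421 (i : ℕ) : ℕ := Bool.rec rowL426 rowL427 (Nat.ble 427 i)

/-- A selector of the rows on the transpositions. -/
noncomputable def rowLSel422 (i : ℕ) : ℕ := Bool.rec rowL429 rowL430 (Nat.ble 430 i)

/-- A selector of the rows on the transpositions. -/
noncomputable def rowLSel423 (i : ℕ) : ℕ := Bool.rec rowL428 (rowLSel422 i) (Nat.ble 429 i)

/-- A selector of the rows on the transpositions. -/
noncomputable def rowLSel424 (i : ℕ) : ℕ := Bool.rec (rowLSel421 i) (rowLSel423 i) (Nat.ble 428 i)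

/-- A selector of the rows on the transpositions. -/
noncomputable def rowLSel425 (i : ℕ) : ℕ := Bool.rec (rowLSel420 i) (rowLSel424 i) (Nat.ble 426 i)

/-- A selector of the rows on the transpositions. -/
noncomputable def rowLSel426 (i : ℕ) : ℕ := Bool.rec (rowLSel416 i) (rowLSel425 i) (Nat.ble 421 i)

/-- A selector of the rows on the transpositions. -/
noncomputable def rowLSel427 (i : ℕ) : ℕ := Bool.rec rowL431 rowL432 (Nat.ble 432 i)

/-- A selector of the rows on the transpositions. -/
noncomputable def rowLSel428 (i : ℕ) : ℕ := Bool.rec rowL433 rowL434 (Nat.ble 434 i)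

/-- A selector of the rows on the transpositions. -/
noncomputable def rowLSel429 (i : ℕ) : ℕ := Bool.rec (rowLSel427 i) (rowLSel428 i) (Nat.ble 433 i)

/-- A selector of the rows on the transpositions. -/
noncomputable def rowLSel430 (i : ℕ) : ℕ := Bool.rec rowL435 rowL436 (Nat.ble 436 i)

/-- A selector of the rows on the transpositions. -/
noncomputable def rowLSel431 (i : ℕ) : ℕ := Bool.rec rowL438 rowL439 (Nat.ble 439 i)

/-- A selector of the rows on the transpositions. -/
noncomputable def rowLSel432 (i : ℕ) : ℕ := Bool.rec rowL437 (rowLSel431 i) (Nat.ble 438 i)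

/-- A selector of the rows on the transpositions. -/
noncomputable def rowLSel433 (i : ℕ) : ℕ := Bool.rec (rowLSel430 i) (rowLSel432 i) (Nat.ble 437 i)

/-- A selector of the rows on the transpositions. -/
noncomputable def rowLSel434 (i : ℕ) : ℕ := Bool.rec (rowLSel429 i) (rowLSel433 i) (Nat.ble 435 i)

/-- A selector of the rows on the transpositions. -/
noncomputable def rowLSel435 (i : ℕ) : ℕ := Bool.rec rowL440 rowL441 (Nat.ble 441 i)

/-- A selector of the rows on the transpositions. -/
noncomputable def rowLSel436 (i : ℕ) : ℕ := Bool.rec rowL443 rowL444 (Nat.ble 444 i)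

/-- A selector of the rows on the transpositions. -/
noncomputable def rowLSel437 (i : ℕ) : ℕ := Bool.rec rowL442 (rowLSel436 i) (Nat.ble 443 i)

/-- A selector of the rows on the transpositions. -/
noncomputable def rowLSel438 (i : ℕ) : ℕ := Bool.rec (rowLSel435 i) (rowLSel437 i) (Nat.ble 442 i)

/-- A selector of the rows on the transpositions. -/
noncomputable def rowLSel439 (i : ℕ) : ℕ := Bool.rec rowL445 rowL446 (Nat.ble 446 i)

/-- A selector of the rows on the transpositions. -/
noncomputable def rowLSel440 (i : ℕ) : ℕ := Bool.rec rowL448 rowL449 (Nat.ble 449 i)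

/-- A selector of the rows on the transpositions. -/
noncomputable def rowLSel441 (i : ℕ) : ℕ := Bool.rec rowL447 (rowLSel440 i) (Nat.ble 448 i)

/-- A selector of the rows on the transpositions. -/
noncomputable def rowLSel442 (i : ℕ) : ℕ := Bool.rec (rowLSel439 i) (rowLSel441 i) (Nat.ble 447 i)

/-- A selector of the rows on the transpositions. -/
noncomputable def rowLSel443 (i : ℕ) : ℕ := Bool.rec (rowLSel438 i) (rowLSel442 i) (Nat.ble 445 i)

/-- A selector of the rows on the transpositions. -/
noncomputable def rowLSel444 (i : ℕ) : ℕ := Bool.rec (rowLSel434 i) (rowLSel443 i) (Nat.ble 440 i)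

/-- A selector of the rows on the transpositions. -/
noncomputable def rowLSel445 (i : ℕ) : ℕ := Bool.rec (rowLSel426 i) (rowLSel444 i) (Nat.ble 431 i)

/-- A selector of the rows on the transpositions. -/
noncomputable def rowLSel446 (i : ℕ) : ℕ := Bool.rec (rowLSel408 i) (rowLSel445 i) (Nat.ble 412 i)

/-- A selector of the rows on the transpositions. -/
noncomputable def rowLSel447 (i : ℕ) : ℕ := Bool.rec (rowLSel372 i) (rowLSel446 i) (Nat.ble 375 i)

/-- A selector of the rows on the transpositions. -/
noncomputable def rowLSel448 (i : ℕ) : ℕ := Bool.rec rowL450 rowL451 (Nat.ble 451 i)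

/-- A selector of the rows on the transpositions. -/
noncomputable def rowLSel449 (i : ℕ) : ℕ := Bool.rec rowL452 rowL453 (Nat.ble 453 i)

/-- A selector of the rows on the transpositions. -/
noncomputable def rowLSel450 (i : ℕ) : ℕ := Bool.rec (rowLSel448 i) (rowLSel449 i) (Nat.ble 452 i)

/-- A selector of the rows on the transpositions. -/
noncomputable def rowLSel451 (i : ℕ) : ℕ := Bool.rec rowL454 rowL455 (Nat.ble 455 i)

/-- A selector of the rows on the transpositions. -/
noncomputable def rowLSel452 (i : ℕ) : ℕ := Bool.rec rowL457 rowL458 (Nat.ble 458 i)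

/-- A selector of the rows on the transpositions. -/
noncomputable def rowLSel453 (i : ℕ) : ℕ := Bool.rec rowL456 (rowLSel452 i) (Nat.ble 457 i)

/-- A selector of the rows on the transpositions. -/
noncomputable def rowLSel454 (i : ℕ) : ℕ := Bool.rec (rowLSel451 i) (rowLSel453 i) (Nat.ble 456 i)

/-- A selector of the rows on the transpositions. -/
noncomputable def rowLSel455 (i : ℕ) : ℕ := Bool.rec (rowLSel450 i) (rowLSel454 i) (Nat.ble 454 i)

/-- A selector of the rows on the transpositions. -/
noncomputable def rowLSel456 (i : ℕ) : ℕ := Bool.rec rowL459 rowL460 (Nat.ble 460 i)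

/-- A selector of the rows on the transpositions. -/
noncomputable def rowLSel457 (i : ℕ) : ℕ := Bool.rec rowL461 rowL462 (Nat.ble 462 i)

/-- A selector of the rows on the transpositions. -/
noncomputable def rowLSel458 (i : ℕ) : ℕ := Bool.rec (rowLSel456 i) (rowLSel457 i) (Nat.ble 461 i)

/-- A selector of the rows on the transpositions. -/
noncomputable def rowLSel459 (i : ℕ) : ℕ := Bool.rec rowL463 rowL464 (Nat.ble 464 i)

/-- A selector of the rows on the transpositions. -/
noncomputable def rowLSel460 (i : ℕ) : ℕ := Bool.rec rowL466 rowL467 (Nat.ble 467 i)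

/-- A selector of the rows on the transpositions. -/
noncomputable def rowLSel461 (i : ℕ) : ℕ := Bool.rec rowL465 (rowLSel460 i) (Nat.ble 466 i)

/-- A selector of the rows on the transpositions. -/
noncomputable def rowLSel462 (i : ℕ) : ℕ := Bool.rec (rowLSel459 i) (rowLSel461 i) (Nat.ble 465 i)

/-- A selector of the rows on the transpositions. -/
noncomputable def rowLSel463 (i : ℕ) : ℕ := Bool.rec (rowLSel458 i) (rowLSel462 i) (Nat.ble 463 i)

/-- A selector of the rows on the transpositions. -/
noncomputable def rowLSel464 (i : ℕ) : ℕ := Bool.rec (rowLSel455 i) (rowLSel463 i) (Nat.ble 459 i)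

/-- A selector of the rows on the transpositions. -/
noncomputable def rowLSel465 (i : ℕ) : ℕ := Bool.rec rowL468 rowL469 (Nat.ble 469 i)

/-- A selector of the rows on the transpositions. -/
noncomputable def rowLSel466 (i : ℕ) : ℕ := Bool.rec rowL470 rowL471 (Nat.ble 471 i)

/-- A selector of the rows on the transpositions. -/
noncomputable def rowLSel467 (i : ℕ) : ℕ := Bool.rec (rowLSel465 i) (rowLSel466 i) (Nat.ble 470 i)

/-- A selector of the rows on the transpositions. -/
noncomputable def rowLSel468 (i : ℕ) : ℕ := Bool.rec rowL472 rowL473 (Nat.ble 473 i)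

/-- A selector of the rows on the transpositions. -/
noncomputable def rowLSel469 (i : ℕ) : ℕ := Bool.rec rowL475 rowL476 (Nat.ble 476 i)

/-- A selector of the rows on the transpositions. -/
noncomputable def rowLSel470 (i : ℕ) : ℕ := Bool.rec rowL474 (rowLSel469 i) (Nat.ble 475 i)

/-- A selector of the rows on the transpositions. -/
noncomputable def rowLSel471 (i : ℕ) : ℕ := Bool.rec (rowLSel468 i) (rowLSel470 i) (Nat.ble 474 i)

/-- A selector of the rows on the transpositions. -/
noncomputable def rowLSel472 (i : ℕ) : ℕ := Bool.rec (rowLSel467 i) (rowLSel471 i) (Nat.ble 472 i)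

/-- A selector of the rows on the transpositions. -/
noncomputable def rowLSel473 (i : ℕ) : ℕ := Bool.rec rowL477 rowL478 (Nat.ble 478 i)

/-- A selector of the rows on the transpositions. -/
noncomputable def rowLSel474 (i : ℕ) : ℕ := Bool.rec rowL480 rowL481 (Nat.ble 481 i)

/-- A selector of the rows on the transpositions. -/
noncomputable def rowLSel475 (i : ℕ) : ℕ := Bool.rec rowL479 (rowLSel474 i) (Nat.ble 480 i)

/-- A selector of the rows on the transpositions. -/
noncomputable def rowLSel476 (i : ℕ) : ℕ := Bool.rec (rowLSel473 i) (rowLSel475 i) (Nat.ble 479 i)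

/-- A selector of the rows on the transpositions. -/
noncomputable def rowLSel477 (i : ℕ) : ℕ := Bool.rec rowL482 rowL483 (Nat.ble 483 i)

/-- A selector of the rows on the transpositions. -/
noncomputable def rowLSel478 (i : ℕ) : ℕ := Bool.rec rowL485 rowL486 (Nat.ble 486 i)

/-- A selector of the rows on the transpositions. -/
noncomputable def rowLSel479 (i : ℕ) : ℕ := Bool.rec rowL484 (rowLSel478 i) (Nat.ble 485 i)

/-- A selector of the rows on the transpositions. -/
noncomputable def rowLSel480 (i : ℕ) : ℕ := Bool.rec (rowLSel477 i) (rowLSel479 i) (Nat.ble 484 i)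

/-- A selector of the rows on the transpositions. -/
noncomputable def rowLSel481 (i : ℕ) : ℕ := Bool.rec (rowLSel476 i) (rowLSel480 i) (Nat.ble 482 i)

/-- A selector of the rows on the transpositions. -/
noncomputable def rowLSel482 (i : ℕ) : ℕ := Bool.rec (rowLSel472 i) (rowLSel481 i) (Nat.ble 477 i)

/-- A selector of the rows on the transpositions. -/
noncomputable def rowLSel483 (i : ℕ) : ℕ := Bool.rec (rowLSel464 i) (rowLSel482 i) (Nat.ble 468 i)

/-- A selector of the rows on the transpositions. -/
noncomputable def rowLSel484 (i : ℕ) : ℕ := Bool.rec rowL487 rowL488 (Nat.ble 488 i)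

/-- A selector of the rows on the transpositions. -/
noncomputable def rowLSel485 (i : ℕ) : ℕ := Bool.rec rowL489 rowL490 (Nat.ble 490 i)

/-- A selector of the rows on the transpositions. -/
noncomputable def rowLSel486 (i : ℕ) : ℕ := Bool.rec (rowLSel484 i) (rowLSel485 i) (Nat.ble 489 i)

/-- A selector of the rows on the transpositions. -/
noncomputable def rowLSel487 (i : ℕ) : ℕ := Bool.rec rowL491 rowL492 (Nat.ble 492 i)

/-- A selector of the rows on the transpositions. -/
noncomputable def rowLSel488 (i : ℕ) : ℕ := Bool.rec rowL494 rowL495 (Nat.ble 495 i)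

/-- A selector of the rows on the transpositions. -/
noncomputable def rowLSel489 (i : ℕ) : ℕ := Bool.rec rowL493 (rowLSel488 i) (Nat.ble 494 i)

/-- A selector of the rows on the transpositions. -/
noncomputable def rowLSel490 (i : ℕ) : ℕ := Bool.rec (rowLSel487 i) (rowLSel489 i) (Nat.ble 493 i)

/-- A selector of the rows on the transpositions. -/
noncomputable def rowLSel491 (i : ℕ) : ℕ := Bool.rec (rowLSel486 i) (rowLSel490 i) (Nat.ble 491 i)

/-- A selector of the rows on the transpositions. -/
noncomputable def rowLSel492 (i : ℕ) : ℕ := Bool.rec rowL496 rowL497 (Nat.ble 497 i)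

/-- A selector of the rows on the transpositions. -/
noncomputable def rowLSel493 (i : ℕ) : ℕ := Bool.rec rowL499 rowL500 (Nat.ble 500 i)

/-- A selector of the rows on the transpositions. -/
noncomputable def rowLSel494 (i : ℕ) : ℕ := Bool.rec rowL498 (rowLSel493 i) (Nat.ble 499 i)

/-- A selector of the rows on the transpositions. -/
noncomputable def rowLSel495 (i : ℕ) : ℕ := Bool.rec (rowLSel492 i) (rowLSel494 i) (Nat.ble 498 i)

/-- A selector of the rows on the transpositions. -/
noncomputable def rowLSel496 (i : ℕ) : ℕ := Bool.rec rowL501 rowL502 (Nat.ble 502 i)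

/-- A selector of the rows on the transpositions. -/
noncomputable def rowLSel497 (i : ℕ) : ℕ := Bool.rec rowL504 rowL505 (Nat.ble 505 i)

/-- A selector of the rows on the transpositions. -/
noncomputable def rowLSel498 (i : ℕ) : ℕ := Bool.rec rowL503 (rowLSel497 i) (Nat.ble 504 i)

/-- A selector of the rows on the transpositions. -/
noncomputable def rowLSel499 (i : ℕ) : ℕ := Bool.rec (rowLSel496 i) (rowLSel498 i) (Nat.ble 503 i)

/-- A selector of the rows on the transpositions. -/
noncomputable def rowLSel500 (i : ℕ) : ℕ := Bool.rec (rowLSel495 i) (rowLSel499 i) (Nat.ble 501 i)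

/-- A selector of the rows on the transpositions. -/
noncomputable def rowLSel501 (i : ℕ) : ℕ := Bool.rec (rowLSel491 i) (rowLSel500 i) (Nat.ble 496 i)

/-- A selector of the rows on the transpositions. -/
noncomputable def rowLSel502 (i : ℕ) : ℕ := Bool.rec rowL506 rowL507 (Nat.ble 507 i)

/-- A selector of the rows on the transpositions. -/
noncomputable def rowLSel503 (i : ℕ) : ℕ := Bool.rec rowL508 rowL509 (Nat.ble 509 i)

/-- A selector of the rows on the transpositions. -/
noncomputable def rowLSel504 (i : ℕ) : ℕ := Bool.rec (rowLSel502 i) (rowLSel503 i) (Nat.ble 508 i)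

/-- A selector of the rows on the transpositions. -/
noncomputable def rowLSel505 (i : ℕ) : ℕ := Bool.rec rowL510 rowL511 (Nat.ble 511 i)

/-- A selector of the rows on the transpositions. -/
noncomputable def rowLSel506 (i : ℕ) : ℕ := Bool.rec rowL513 rowL514 (Nat.ble 514 i)

/-- A selector of the rows on the transpositions. -/
noncomputable def rowLSel507 (i : ℕ) : ℕ := Bool.rec rowL512 (rowLSel506 i) (Nat.ble 513 i)

/-- A selector of the rows on the transpositions. -/
noncomputable def rowLSel508 (i : ℕ) : ℕ := Bool.rec (rowLSel505 i) (rowLSel507 i) (Nat.ble 512 i)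

/-- A selector of the rows on the transpositions. -/
noncomputable def rowLSel509 (i : ℕ) : ℕ := Bool.rec (rowLSel504 i) (rowLSel508 i) (Nat.ble 510 i)

/-- A selector of the rows on the transpositions. -/
noncomputable def rowLSel510 (i : ℕ) : ℕ := Bool.rec rowL515 rowL516 (Nat.ble 516 i)

/-- A selector of the rows on the transpositions. -/
noncomputable def rowLSel511 (i : ℕ) : ℕ := Bool.rec rowL518 rowL519 (Nat.ble 519 i)

/-- A selector of the rows on the transpositions. -/
noncomputable def rowLSel512 (i : ℕ) : ℕ := Bool.rec rowL517 (rowLSel511 i) (Nat.ble 518 i)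

/-- A selector of the rows on the transpositions. -/
noncomputable def rowLSel513 (i : ℕ) : ℕ := Bool.rec (rowLSel510 i) (rowLSel512 i) (Nat.ble 517 i)

/-- A selector of the rows on the transpositions. -/
noncomputable def rowLSel514 (i : ℕ) : ℕ := Bool.rec rowL520 rowL521 (Nat.ble 521 i)

/-- A selector of the rows on the transpositions. -/
noncomputable def rowLSel515 (i : ℕ) : ℕ := Bool.rec rowL523 rowL524 (Nat.ble 524 i)

/-- A selector of the rows on the transpositions. -/
noncomputable def rowLSel516 (i : ℕ) : ℕ := Bool.rec rowL522 (rowLSel515 i) (Nat.ble 523 i)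

/-- A selector of the rows on the transpositions. -/
noncomputable def rowLSel517 (i : ℕ) : ℕ := Bool.rec (rowLSel514 i) (rowLSel516 i) (Nat.ble 522 i)

/-- A selector of the rows on the transpositions. -/
noncomputable def rowLSel518 (i : ℕ) : ℕ := Bool.rec (rowLSel513 i) (rowLSel517 i) (Nat.ble 520 i)

/-- A selector of the rows on the transpositions. -/
noncomputable def rowLSel519 (i : ℕ) : ℕ := Bool.rec (rowLSel509 i) (rowLSel518 i) (Nat.ble 515 i)

/-- A selector of the rows on the transpositions. -/
noncomputable def rowLSel520 (i : ℕ) : ℕ := Bool.rec (rowLSel501 i) (rowLSel519 i) (Nat.ble 506 i)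

/-- A selector of the rows on the transpositions. -/
noncomputable def rowLSel521 (i : ℕ) : ℕ := Bool.rec (rowLSel483 i) (rowLSel520 i) (Nat.ble 487 i)

/-- A selector of the rows on the transpositions. -/
noncomputable def rowLSel522 (i : ℕ) : ℕ := Bool.rec rowL525 rowL526 (Nat.ble 526 i)

/-- A selector of the rows on the transpositions. -/
noncomputable def rowLSel523 (i : ℕ) : ℕ := Bool.rec rowL527 rowL528 (Nat.ble 528 i)

/-- A selector of the rows on the transpositions. -/
noncomputable def rowLSel524 (i : ℕ) : ℕ := Bool.rec (rowLSel522 i) (rowLSel523 i) (Nat.ble 527 i)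

/-- A selector of the rows on the transpositions. -/
noncomputable def rowLSel525 (i : ℕ) : ℕ := Bool.rec rowL529 rowL530 (Nat.ble 530 i)

/-- A selector of the rows on the transpositions. -/
noncomputable def rowLSel526 (i : ℕ) : ℕ := Bool.rec rowL532 rowL533 (Nat.ble 533 i)

/-- A selector of the rows on the transpositions. -/
noncomputable def rowLSel527 (i : ℕ) : ℕ := Bool.rec rowL531 (rowLSel526 i) (Nat.ble 532 i)

/-- A selector of the rows on the transpositions. -/
noncomputable def rowLSel528 (i : ℕ) : ℕ := Bool.rec (rowLSel525 i) (rowLSel527 i) (Nat.ble 531 i)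

/-- A selector of the rows on the transpositions. -/
noncomputable def rowLSel529 (i : ℕ) : ℕ := Bool.rec (rowLSel524 i) (rowLSel528 i) (Nat.ble 529 i)

/-- A selector of the rows on the transpositions. -/
noncomputable def rowLSel530 (i : ℕ) : ℕ := Bool.rec rowL534 rowL535 (Nat.ble 535 i)

/-- A selector of the rows on the transpositions. -/
noncomputable def rowLSel531 (i : ℕ) : ℕ := Bool.rec rowL536 rowL537 (Nat.ble 537 i)

/-- A selector of the rows on the transpositions. -/
noncomputable def rowLSel532 (i : ℕ) : ℕ := Bool.rec (rowLSel530 i) (rowLSel531 i) (Nat.ble 536 i)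

/-- A selector of the rows on the transpositions. -/
noncomputable def rowLSel533 (i : ℕ) : ℕ := Bool.rec rowL538 rowL539 (Nat.ble 539 i)

/-- A selector of the rows on the transpositions. -/
noncomputable def rowLSel534 (i : ℕ) : ℕ := Bool.rec rowL541 rowL542 (Nat.ble 542 i)

/-- A selector of the rows on the transpositions. -/
noncomputable def rowLSel535 (i : ℕ) : ℕ := Bool.rec rowL540 (rowLSel534 i) (Nat.ble 541 i)

/-- A selector of the rows on the transpositions. -/
noncomputable def rowLSel536 (i : ℕ) : ℕ := Bool.rec (rowLSel533 i) (rowLSel535 i) (Nat.ble 540 i)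

/-- A selector of the rows on the transpositions. -/
noncomputable def rowLSel537 (i : ℕ) : ℕ := Bool.rec (rowLSel532 i) (rowLSel536 i) (Nat.ble 538 i)

/-- A selector of the rows on the transpositions. -/
noncomputable def rowLSel538 (i : ℕ) : ℕ := Bool.rec (rowLSel529 i) (rowLSel537 i) (Nat.ble 534 i)

/-- A selector of the rows on the transpositions. -/
noncomputable def rowLSel539 (i : ℕ) : ℕ := Bool.rec rowL543 rowL544 (Nat.ble 544 i)

/-- A selector of the rows on the transpositions. -/
noncomputable def rowLSel540 (i : ℕ) : ℕ := Bool.rec rowL545 rowL546 (Nat.ble 546 i)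

/-- A selector of the rows on the transpositions. -/
noncomputable def rowLSel541 (i : ℕ) : ℕ := Bool.rec (rowLSel539 i) (rowLSel540 i) (Nat.ble 545 i)

/-- A selector of the rows on the transpositions. -/
noncomputable def rowLSel542 (i : ℕ) : ℕ := Bool.rec rowL547 rowL548 (Nat.ble 548 i)

/-- A selector of the rows on the transpositions. -/
noncomputable def rowLSel543 (i : ℕ) : ℕ := Bool.rec rowL550 rowL551 (Nat.ble 551 i)

/-- A selector of the rows on the transpositions. -/
noncomputable def rowLSel544 (i : ℕ) : ℕ := Bool.rec rowL549 (rowLSel543 i) (Nat.ble 550 i)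

/-- A selector of the rows on the transpositions. -/
noncomputable def rowLSel545 (i : ℕ) : ℕ := Bool.rec (rowLSel542 i) (rowLSel544 i) (Nat.ble 549 i)

/-- A selector of the rows on the transpositions. -/
noncomputable def rowLSel546 (i : ℕ) : ℕ := Bool.rec (rowLSel541 i) (rowLSel545 i) (Nat.ble 547 i)

/-- A selector of the rows on the transpositions. -/
noncomputable def rowLSel547 (i : ℕ) : ℕ := Bool.rec rowL552 rowL553 (Nat.ble 553 i)

/-- A selector of the rows on the transpositions. -/
noncomputable def rowLSel548 (i : ℕ) : ℕ := Bool.rec rowL555 rowL556 (Nat.ble 556 i)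

/-- A selector of the rows on the transpositions. -/
noncomputable def rowLSel549 (i : ℕ) : ℕ := Bool.rec rowL554 (rowLSel548 i) (Nat.ble 555 i)

/-- A selector of the rows on the transpositions. -/
noncomputable def rowLSel550 (i : ℕ) : ℕ := Bool.rec (rowLSel547 i) (rowLSel549 i) (Nat.ble 554 i)

/-- A selector of the rows on the transpositions. -/
noncomputable def rowLSel551 (i : ℕ) : ℕ := Bool.rec rowL557 rowL558 (Nat.ble 558 i)

/-- A selector of the rows on the transpositions. -/
noncomputable def rowLSel552 (i : ℕ) : ℕ := Bool.rec rowL560 rowL561 (Nat.ble 561 i)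

/-- A selector of the rows on the transpositions. -/
noncomputable def rowLSel553 (i : ℕ) : ℕ := Bool.rec rowL559 (rowLSel552 i) (Nat.ble 560 i)

/-- A selector of the rows on the transpositions. -/
noncomputable def rowLSel554 (i : ℕ) : ℕ := Bool.rec (rowLSel551 i) (rowLSel553 i) (Nat.ble 559 i)

/-- A selector of the rows on the transpositions. -/
noncomputable def rowLSel555 (i : ℕ) : ℕ := Bool.rec (rowLSel550 i) (rowLSel554 i) (Nat.ble 557 i)

/-- A selector of the rows on the transpositions. -/
noncomputable def rowLSel556 (i : ℕ) : ℕ := Bool.rec (rowLSel546 i) (rowLSel555 i) (Nat.ble 552 i)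

/-- A selector of the rows on the transpositions. -/
noncomputable def rowLSel557 (i : ℕ) : ℕ := Bool.rec (rowLSel538 i) (rowLSel556 i) (Nat.ble 543 i)

/-- A selector of the rows on the transpositions. -/
noncomputable def rowLSel558 (i : ℕ) : ℕ := Bool.rec rowL562 rowL563 (Nat.ble 563 i)

/-- A selector of the rows on the transpositions. -/
noncomputable def rowLSel559 (i : ℕ) : ℕ := Bool.rec rowL564 rowL565 (Nat.ble 565 i)

/-- A selector of the rows on the transpositions. -/
noncomputable def rowLSel560 (i : ℕ) : ℕ := Bool.rec (rowLSel558 i) (rowLSel559 i) (Nat.ble 564 i)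

/-- A selector of the rows on the transpositions. -/
noncomputable def rowLSel561 (i : ℕ) : ℕ := Bool.rec rowL566 rowL567 (Nat.ble 567 i)

/-- A selector of the rows on the transpositions. -/
noncomputable def rowLSel562 (i : ℕ) : ℕ := Bool.rec rowL569 rowL570 (Nat.ble 570 i)

/-- A selector of the rows on the transpositions. -/
noncomputable def rowLSel563 (i : ℕ) : ℕ := Bool.rec rowL568 (rowLSel562 i) (Nat.ble 569 i)

/-- A selector of the rows on the transpositions. -/
noncomputable def rowLSel564 (i : ℕ) : ℕ := Bool.rec (rowLSel561 i) (rowLSel563 i) (Nat.ble 568 i)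

/-- A selector of the rows on the transpositions. -/
noncomputable def rowLSel565 (i : ℕ) : ℕ := Bool.rec (rowLSel560 i) (rowLSel564 i) (Nat.ble 566 i)

/-- A selector of the rows on the transpositions. -/
noncomputable def rowLSel566 (i : ℕ) : ℕ := Bool.rec rowL571 rowL572 (Nat.ble 572 i)

/-- A selector of the rows on the transpositions. -/
noncomputable def rowLSel567 (i : ℕ) : ℕ := Bool.rec rowL574 rowL575 (Nat.ble 575 i)

/-- A selector of the rows on the transpositions. -/
noncomputable def rowLSel568 (i : ℕ) : ℕ := Bool.rec rowL573 (rowLSel567 i) (Nat.ble 574 i)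

/-- A selector of the rows on the transpositions. -/
noncomputable def rowLSel569 (i : ℕ) : ℕ := Bool.rec (rowLSel566 i) (rowLSel568 i) (Nat.ble 573 i)

/-- A selector of the rows on the transpositions. -/
noncomputable def rowLSel570 (i : ℕ) : ℕ := Bool.rec rowL576 rowL577 (Nat.ble 577 i)

/-- A selector of the rows on the transpositions. -/
noncomputable def rowLSel571 (i : ℕ) : ℕ := Bool.rec rowL579 rowL580 (Nat.ble 580 i)

/-- A selector of the rows on the transpositions. -/
noncomputable def rowLSel572 (i : ℕ) : ℕ := Bool.rec rowL578 (rowLSel571 i) (Nat.ble 579 i)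

/-- A selector of the rows on the transpositions. -/
noncomputable def rowLSel573 (i : ℕ) : ℕ := Bool.rec (rowLSel570 i) (rowLSel572 i) (Nat.ble 578 i)

/-- A selector of the rows on the transpositions. -/
noncomputable def rowLSel574 (i : ℕ) : ℕ := Bool.rec (rowLSel569 i) (rowLSel573 i) (Nat.ble 576 i)

/-- A selector of the rows on the transpositions. -/
noncomputable def rowLSel575 (i : ℕ) : ℕ := Bool.rec (rowLSel565 i) (rowLSel574 i) (Nat.ble 571 i)

/-- A selector of the rows on the transpositions. -/
noncomputable def rowLSel576 (i : ℕ) : ℕ := Bool.rec rowL581 rowL582 (Nat.ble 582 i)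

/-- A selector of the rows on the transpositions. -/
noncomputable def rowLSel577 (i : ℕ) : ℕ := Bool.rec rowL583 rowL584 (Nat.ble 584 i)

/-- A selector of the rows on the transpositions. -/
noncomputable def rowLSel578 (i : ℕ) : ℕ := Bool.rec (rowLSel576 i) (rowLSel577 i) (Nat.ble 583 i)

/-- A selector of the rows on the transpositions. -/
noncomputable def rowLSel579 (i : ℕ) : ℕ := Bool.rec rowL585 rowL586 (Nat.ble 586 i)

/-- A selector of the rows on the transpositions. -/
noncomputable def rowLSel580 (i : ℕ) : ℕ := Bool.rec rowL588 rowL589 (Nat.ble 589 i)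

/-- A selector of the rows on the transpositions. -/
noncomputable def rowLSel581 (i : ℕ) : ℕ := Bool.rec rowL587 (rowLSel580 i) (Nat.ble 588 i)

/-- A selector of the rows on the transpositions. -/
noncomputable def rowLSel582 (i : ℕ) : ℕ := Bool.rec (rowLSel579 i) (rowLSel581 i) (Nat.ble 587 i)

/-- A selector of the rows on the transpositions. -/
noncomputable def rowLSel583 (i : ℕ) : ℕ := Bool.rec (rowLSel578 i) (rowLSel582 i) (Nat.ble 585 i)

/-- A selector of the rows on the transpositions. -/
noncomputable def rowLSel584 (i : ℕ) : ℕ := Bool.rec rowL590 rowL591 (Nat.ble 591 i)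

/-- A selector of the rows on the transpositions. -/
noncomputable def rowLSel585 (i : ℕ) : ℕ := Bool.rec rowL593 rowL594 (Nat.ble 594 i)

/-- A selector of the rows on the transpositions. -/
noncomputable def rowLSel586 (i : ℕ) : ℕ := Bool.rec rowL592 (rowLSel585 i) (Nat.ble 593 i)

/-- A selector of the rows on the transpositions. -/
noncomputable def rowLSel587 (i : ℕ) : ℕ := Bool.rec (rowLSel584 i) (rowLSel586 i) (Nat.ble 592 i)

/-- A selector of the rows on the transpositions. -/
noncomputable def rowLSel588 (i : ℕ) : ℕ := Bool.rec rowL595 rowL596 (Nat.ble 596 i)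

/-- A selector of the rows on the transpositions. -/
noncomputable def rowLSel589 (i : ℕ) : ℕ := Bool.rec rowL598 rowL599 (Nat.ble 599 i)

/-- A selector of the rows on the transpositions. -/
noncomputable def rowLSel590 (i : ℕ) : ℕ := Bool.rec rowL597 (rowLSel589 i) (Nat.ble 598 i)

/-- A selector of the rows on the transpositions. -/
noncomputable def rowLSel591 (i : ℕ) : ℕ := Bool.rec (rowLSel588 i) (rowLSel590 i) (Nat.ble 597 i)

/-- A selector of the rows on the transpositions. -/
noncomputable def rowLSel592 (i : ℕ) : ℕ := Bool.rec (rowLSel587 i) (rowLSel591 i) (Nat.ble 595 i)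

/-- A selector of the rows on the transpositions. -/
noncomputable def rowLSel593 (i : ℕ) : ℕ := Bool.rec (rowLSel583 i) (rowLSel592 i) (Nat.ble 590 i)

/-- A selector of the rows on the transpositions. -/
noncomputable def rowLSel594 (i : ℕ) : ℕ := Bool.rec (rowLSel575 i) (rowLSel593 i) (Nat.ble 581 i)

/-- A selector of the rows on the transpositions. -/
noncomputable def rowLSel595 (i : ℕ) : ℕ := Bool.rec (rowLSel557 i) (rowLSel594 i) (Nat.ble 562 i)

/-- A selector of the rows on the transpositions. -/
noncomputable def rowLSel596 (i : ℕ) : ℕ := Bool.rec (rowLSel521 i) (rowLSel595 i) (Nat.ble 525 i)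

/-- A selector of the rows on the transpositions. -/
noncomputable def rowLSel597 (i : ℕ) : ℕ := Bool.rec (rowLSel447 i) (rowLSel596 i) (Nat.ble 450 i)

/-- A selector of the rows on the transpositions. -/
noncomputable def rowLSel598 (i : ℕ) : ℕ := Bool.rec (rowLSel298 i) (rowLSel597 i) (Nat.ble 300 i)

/-- The leaf of the rows on the transpositions. -/
noncomputable def rowLGet (i : ℕ) : ℕ := (rowLSel598 i)

/-- A selector of the product of seven letters. -/
noncomputable def sevLSel0 (i : ℕ) : ℕ := Bool.rec sevL0 sevL1 (Nat.ble 1 i)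

/-- A selector of the product of seven letters. -/
noncomputable def sevLSel1 (i : ℕ) : ℕ := Bool.rec sevL2 sevL3 (Nat.ble 3 i)

/-- A selector of the product of seven letters. -/
noncomputable def sevLSel2 (i : ℕ) : ℕ := Bool.rec (sevLSel0 i) (sevLSel1 i) (Nat.ble 2 i)

/-- A selector of the product of seven letters. -/
noncomputable def sevLSel3 (i : ℕ) : ℕ := Bool.rec sevL4 sevL5 (Nat.ble 5 i)

/-- A selector of the product of seven letters. -/
noncomputable def sevLSel4 (i : ℕ) : ℕ := Bool.rec sevL7 sevL8 (Nat.ble 8 i)

/-- A selector of the product of seven letters. -/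
noncomputable def sevLSel5 (i : ℕ) : ℕ := Bool.rec sevL6 (sevLSel4 i) (Nat.ble 7 i)

/-- A selector of the product of seven letters. -/
noncomputable def sevLSel6 (i : ℕ) : ℕ := Bool.rec (sevLSel3 i) (sevLSel5 i) (Nat.ble 6 i)

/-- A selector of the product of seven letters. -/
noncomputable def sevLSel7 (i : ℕ) : ℕ := Bool.rec (sevLSel2 i) (sevLSel6 i) (Nat.ble 4 i)

/-- A selector of the product of seven letters. -/
noncomputable def sevLSel8 (i : ℕ) : ℕ := Bool.rec sevL9 sevL10 (Nat.ble 10 i)

/-- A selector of the product of seven letters. -/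
noncomputable def sevLSel9 (i : ℕ) : ℕ := Bool.rec sevL12 sevL13 (Nat.ble 13 i)

/-- A selector of the product of seven letters. -/
noncomputable def sevLSel10 (i : ℕ) : ℕ := Bool.rec sevL11 (sevLSel9 i) (Nat.ble 12 i)

/-- A selector of the product of seven letters. -/
noncomputable def sevLSel11 (i : ℕ) : ℕ := Bool.rec (sevLSel8 i) (sevLSel10 i) (Nat.ble 11 i)

/-- A selector of the product of seven letters. -/
noncomputable def sevLSel12 (i : ℕ) : ℕ := Bool.rec sevL14 sevL15 (Nat.ble 15 i)

/-- A selector of the product of seven letters. -/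
noncomputable def sevLSel13 (i : ℕ) : ℕ := Bool.rec sevL17 sevL18 (Nat.ble 18 i)

/-- A selector of the product of seven letters. -/
noncomputable def sevLSel14 (i : ℕ) : ℕ := Bool.rec sevL16 (sevLSel13 i) (Nat.ble 17 i)

/-- A selector of the product of seven letters. -/
noncomputable def sevLSel15 (i : ℕ) : ℕ := Bool.rec (sevLSel12 i) (sevLSel14 i) (Nat.ble 16 i)

/-- A selector of the product of seven letters. -/
noncomputable def sevLSel16 (i : ℕ) : ℕ := Bool.rec (sevLSel11 i) (sevLSel15 i) (Nat.ble 14 i)

/-- A selector of the product of seven letters. -/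
noncomputable def sevLSel17 (i : ℕ) : ℕ := Bool.rec (sevLSel7 i) (sevLSel16 i) (Nat.ble 9 i)

/-- A selector of the product of seven letters. -/
noncomputable def sevLSel18 (i : ℕ) : ℕ := Bool.rec sevL19 sevL20 (Nat.ble 20 i)

/-- A selector of the product of seven letters. -/
noncomputable def sevLSel19 (i : ℕ) : ℕ := Bool.rec sevL21 sevL22 (Nat.ble 22 i)

/-- A selector of the product of seven letters. -/
noncomputable def sevLSel20 (i : ℕ) : ℕ := Bool.rec (sevLSel18 i) (sevLSel19 i) (Nat.ble 21 i)

/-- A selector of the product of seven letters. -/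
noncomputable def sevLSel21 (i : ℕ) : ℕ := Bool.rec sevL23 sevL24 (Nat.ble 24 i)

/-- A selector of the product of seven letters. -/
noncomputable def sevLSel22 (i : ℕ) : ℕ := Bool.rec sevL26 sevL27 (Nat.ble 27 i)

/-- A selector of the product of seven letters. -/
noncomputable def sevLSel23 (i : ℕ) : ℕ := Bool.rec sevL25 (sevLSel22 i) (Nat.ble 26 i)

/-- A selector of the product of seven letters. -/
noncomputable def sevLSel24 (i : ℕ) : ℕ := Bool.rec (sevLSel21 i) (sevLSel23 i) (Nat.ble 25 i)

/-- A selector of the product of seven letters. -/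
noncomputable def sevLSel25 (i : ℕ) : ℕ := Bool.rec (sevLSel20 i) (sevLSel24 i) (Nat.ble 23 i)

/-- A selector of the product of seven letters. -/
noncomputable def sevLSel26 (i : ℕ) : ℕ := Bool.rec sevL28 sevL29 (Nat.ble 29 i)

/-- A selector of the product of seven letters. -/
noncomputable def sevLSel27 (i : ℕ) : ℕ := Bool.rec sevL31 sevL32 (Nat.ble 32 i)

/-- A selector of the product of seven letters. -/
noncomputable def sevLSel28 (i : ℕ) : ℕ := Bool.rec sevL30 (sevLSel27 i) (Nat.ble 31 i)

/-- A selector of the product of seven letters. -/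
noncomputable def sevLSel29 (i : ℕ) : ℕ := Bool.rec (sevLSel26 i) (sevLSel28 i) (Nat.ble 30 i)

/-- A selector of the product of seven letters. -/
noncomputable def sevLSel30 (i : ℕ) : ℕ := Bool.rec sevL33 sevL34 (Nat.ble 34 i)

/-- A selector of the product of seven letters. -/
noncomputable def sevLSel31 (i : ℕ) : ℕ := Bool.rec sevL36 sevL37 (Nat.ble 37 i)

/-- A selector of the product of seven letters. -/
noncomputable def sevLSel32 (i : ℕ) : ℕ := Bool.rec sevL35 (sevLSel31 i) (Nat.ble 36 i)

/-- A selector of the product of seven letters. -/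
noncomputable def sevLSel33 (i : ℕ) : ℕ := Bool.rec (sevLSel30 i) (sevLSel32 i) (Nat.ble 35 i)

/-- A selector of the product of seven letters. -/
noncomputable def sevLSel34 (i : ℕ) : ℕ := Bool.rec (sevLSel29 i) (sevLSel33 i) (Nat.ble 33 i)

/-- A selector of the product of seven letters. -/
noncomputable def sevLSel35 (i : ℕ) : ℕ := Bool.rec (sevLSel25 i) (sevLSel34 i) (Nat.ble 28 i)

/-- A selector of the product of seven letters. -/
noncomputable def sevLSel36 (i : ℕ) : ℕ := Bool.rec (sevLSel17 i) (sevLSel35 i) (Nat.ble 19 i)

/-- The leaf of the product of seven letters. -/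
noncomputable def sevLGet (i : ℕ) : ℕ := (sevLSel36 i)

/-- A selector of the product of fourteen letters. -/
noncomputable def lonLSel0 (i : ℕ) : ℕ := Bool.rec lonL0 lonL1 (Nat.ble 1 i)

/-- A selector of the product of fourteen letters. -/
noncomputable def lonLSel1 (i : ℕ) : ℕ := Bool.rec lonL2 lonL3 (Nat.ble 3 i)

/-- A selector of the product of fourteen letters. -/
noncomputable def lonLSel2 (i : ℕ) : ℕ := Bool.rec (lonLSel0 i) (lonLSel1 i) (Nat.ble 2 i)

/-- A selector of the product of fourteen letters. -/
noncomputable def lonLSel3 (i : ℕ) : ℕ := Bool.rec lonL4 lonL5 (Nat.ble 5 i)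

/-- A selector of the product of fourteen letters. -/
noncomputable def lonLSel4 (i : ℕ) : ℕ := Bool.rec lonL7 lonL8 (Nat.ble 8 i)

/-- A selector of the product of fourteen letters. -/
noncomputable def lonLSel5 (i : ℕ) : ℕ := Bool.rec lonL6 (lonLSel4 i) (Nat.ble 7 i)

/-- A selector of the product of fourteen letters. -/
noncomputable def lonLSel6 (i : ℕ) : ℕ := Bool.rec (lonLSel3 i) (lonLSel5 i) (Nat.ble 6 i)

/-- A selector of the product of fourteen letters. -/
noncomputable def lonLSel7 (i : ℕ) : ℕ := Bool.rec (lonLSel2 i) (lonLSel6 i) (Nat.ble 4 i)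

/-- A selector of the product of fourteen letters. -/
noncomputable def lonLSel8 (i : ℕ) : ℕ := Bool.rec lonL9 lonL10 (Nat.ble 10 i)

/-- A selector of the product of fourteen letters. -/
noncomputable def lonLSel9 (i : ℕ) : ℕ := Bool.rec lonL12 lonL13 (Nat.ble 13 i)

/-- A selector of the product of fourteen letters. -/
noncomputable def lonLSel10 (i : ℕ) : ℕ := Bool.rec lonL11 (lonLSel9 i) (Nat.ble 12 i)

/-- A selector of the product of fourteen letters. -/
noncomputable def lonLSel11 (i : ℕ) : ℕ := Bool.rec (lonLSel8 i) (lonLSel10 i) (Nat.ble 11 i)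

/-- A selector of the product of fourteen letters. -/
noncomputable def lonLSel12 (i : ℕ) : ℕ := Bool.rec lonL14 lonL15 (Nat.ble 15 i)

/-- A selector of the product of fourteen letters. -/
noncomputable def lonLSel13 (i : ℕ) : ℕ := Bool.rec lonL17 lonL18 (Nat.ble 18 i)

/-- A selector of the product of fourteen letters. -/
noncomputable def lonLSel14 (i : ℕ) : ℕ := Bool.rec lonL16 (lonLSel13 i) (Nat.ble 17 i)

/-- A selector of the product of fourteen letters. -/
noncomputable def lonLSel15 (i : ℕ) : ℕ := Bool.rec (lonLSel12 i) (lonLSel14 i) (Nat.ble 16 i)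

/-- A selector of the product of fourteen letters. -/
noncomputable def lonLSel16 (i : ℕ) : ℕ := Bool.rec (lonLSel11 i) (lonLSel15 i) (Nat.ble 14 i)

/-- A selector of the product of fourteen letters. -/
noncomputable def lonLSel17 (i : ℕ) : ℕ := Bool.rec (lonLSel7 i) (lonLSel16 i) (Nat.ble 9 i)

/-- A selector of the product of fourteen letters. -/
noncomputable def lonLSel18 (i : ℕ) : ℕ := Bool.rec lonL19 lonL20 (Nat.ble 20 i)

/-- A selector of the product of fourteen letters. -/
noncomputable def lonLSel19 (i : ℕ) : ℕ := Bool.rec lonL21 lonL22 (Nat.ble 22 i)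

/-- A selector of the product of fourteen letters. -/
noncomputable def lonLSel20 (i : ℕ) : ℕ := Bool.rec (lonLSel18 i) (lonLSel19 i) (Nat.ble 21 i)

/-- A selector of the product of fourteen letters. -/
noncomputable def lonLSel21 (i : ℕ) : ℕ := Bool.rec lonL23 lonL24 (Nat.ble 24 i)

/-- A selector of the product of fourteen letters. -/
noncomputable def lonLSel22 (i : ℕ) : ℕ := Bool.rec lonL26 lonL27 (Nat.ble 27 i)

/-- A selector of the product of fourteen letters. -/
noncomputable def lonLSel23 (i : ℕ) : ℕ := Bool.rec lonL25 (lonLSel22 i) (Nat.ble 26 i)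

/-- A selector of the product of fourteen letters. -/
noncomputable def lonLSel24 (i : ℕ) : ℕ := Bool.rec (lonLSel21 i) (lonLSel23 i) (Nat.ble 25 i)

/-- A selector of the product of fourteen letters. -/
noncomputable def lonLSel25 (i : ℕ) : ℕ := Bool.rec (lonLSel20 i) (lonLSel24 i) (Nat.ble 23 i)

/-- A selector of the product of fourteen letters. -/
noncomputable def lonLSel26 (i : ℕ) : ℕ := Bool.rec lonL28 lonL29 (Nat.ble 29 i)

/-- A selector of the product of fourteen letters. -/
noncomputable def lonLSel27 (i : ℕ) : ℕ := Bool.rec lonL31 lonL32 (Nat.ble 32 i)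

/-- A selector of the product of fourteen letters. -/
noncomputable def lonLSel28 (i : ℕ) : ℕ := Bool.rec lonL30 (lonLSel27 i) (Nat.ble 31 i)

/-- A selector of the product of fourteen letters. -/
noncomputable def lonLSel29 (i : ℕ) : ℕ := Bool.rec (lonLSel26 i) (lonLSel28 i) (Nat.ble 30 i)

/-- A selector of the product of fourteen letters. -/
noncomputable def lonLSel30 (i : ℕ) : ℕ := Bool.rec lonL33 lonL34 (Nat.ble 34 i)

/-- A selector of the product of fourteen letters. -/
noncomputable def lonLSel31 (i : ℕ) : ℕ := Bool.rec lonL36 lonL37 (Nat.ble 37 i)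

/-- A selector of the product of fourteen letters. -/
noncomputable def lonLSel32 (i : ℕ) : ℕ := Bool.rec lonL35 (lonLSel31 i) (Nat.ble 36 i)

/-- A selector of the product of fourteen letters. -/
noncomputable def lonLSel33 (i : ℕ) : ℕ := Bool.rec (lonLSel30 i) (lonLSel32 i) (Nat.ble 35 i)

/-- A selector of the product of fourteen letters. -/
noncomputable def lonLSel34 (i : ℕ) : ℕ := Bool.rec (lonLSel29 i) (lonLSel33 i) (Nat.ble 33 i)

/-- A selector of the product of fourteen letters. -/
noncomputable def lonLSel35 (i : ℕ) : ℕ := Bool.rec (lonLSel25 i) (lonLSel34 i) (Nat.ble 28 i)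

/-- A selector of the product of fourteen letters. -/
noncomputable def lonLSel36 (i : ℕ) : ℕ := Bool.rec (lonLSel17 i) (lonLSel35 i) (Nat.ble 19 i)

/-- The leaf of the product of fourteen letters. -/
noncomputable def lonLGet (i : ℕ) : ℕ := (lonLSel36 i)

/-- The row of a point. -/
noncomputable def rowF (p : ℕ) : ℕ :=
  Nat.mod (Nat.shiftRight (rowLGet (Nat.shiftRight p 9)) (Nat.mul 228 (Nat.land p 511))) 431359146674410236714672241392314090778194310760649159697657763987456

/-- The image of a point under the seven letters. -/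
noncomputable def sevF (p : ℕ) : ℕ :=
  Nat.mod (Nat.shiftRight (sevLGet (Nat.shiftRight p 13)) (Nat.mul 19 (Nat.land p 8191))) 524288

/-- The image of a point under the fourteen letters. -/
noncomputable def lonF (p : ℕ) : ℕ :=
  Nat.mod (Nat.shiftRight (lonLGet (Nat.shiftRight p 13)) (Nat.mul 19 (Nat.land p 8191))) 524288

end Cfsg.Lib.FiFour
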