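import Cfsg.Agent.ONPres.Kit
import Cfsg.Agent.FiFour.Tables

/-!
The test of the relators at one point.
-/

set_option autoImplicit false

namespace Cfsg.Lib.FiFour

open Cfsg.Lib.ONPres (force)

/-- A field of a row. -/
noncomputable def fx (e x : ℕ) : ℕ := Nat.mod (Nat.shiftRight e (Nat.mul 19 x)) 524288

/-- The image of a point under a letter. -/
noncomputable def mv (x p : ℕ) : ℕ := fx (rowF p) x

/-- The rows of the twelve neighbours. -/
noncomputable def nbrs (e m : ℕ) : ℕ :=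
  Nat.rec 0 (fun x acc => Nat.add acc (Nat.shiftLeft (rowF (fx e x)) (Nat.mul 228 x))) m

/-- The image under two letters, read from the rows of the neighbours. -/
noncomputable def twoStep (N x y : ℕ) : ℕ := fx (Nat.shiftRight N (Nat.mul 228 x)) y

/-- All letters take values among the points. -/
noncomputable def rangeAt (e : ℕ) : Bool :=
  Nat.ble (Nat.succ (fx e 0)) 306936 &&
  Nat.ble (Nat.succ (fx e 1)) 306936 &&
  Nat.ble (Nat.succ (fx e 2)) 306936 &&
  Nat.ble (Nat.succ (fx e 3)) 306936 &&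
  Nat.ble (Nat.succ (fx e 4)) 306936 &&
  Nat.ble (Nat.succ (fx e 5)) 306936 &&
  Nat.ble (Nat.succ (fx e 6)) 306936 &&
  Nat.ble (Nat.succ (fx e 7)) 306936 &&
  Nat.ble (Nat.succ (fx e 8)) 306936 &&
  Nat.ble (Nat.succ (fx e 9)) 306936 &&
  Nat.ble (Nat.succ (fx e 10)) 306936 &&
  Nat.ble (Nat.succ (fx e 11)) 306936

/-- The squares of letters, in one number. -/
noncomputable def invAt (N p : ℕ) : ℕ :=
  Nat.land (Nat.lor (Nat.xor (Nat.shiftRight N 2717) p) (Nat.lor (Nat.xor (Nat.shiftRight N 2470) p) (Nat.lor (Nat.xor (Nat.shiftRight N 2223) p) (Nat.lor (Nat.xor (Nat.shiftRight N 1976) p) (Nat.lor (Nat.xor (Nat.shiftRight N 1729) p) (Nat.lor (Nat.xor (Nat.shiftRight N 1482) p) (Nat.lor (Nat.xor (Nat.shiftRight N 1235) p) (Nat.lor (Nat.xor (Nat.shiftRight N 988) p) (Nat.lor (Nat.xor (Nat.shiftRight N 741) p) (Nat.lor (Nat.xor (Nat.shiftRight N 494) p) (Nat.lor (Nat.xor (Nat.shiftRight N 247) p) (Nat.lor (Nat.xor (Nat.shiftRight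 N 0) p) 0)))))))))))) 524287

/-- The commuting pairs, in one number. -/
noncomputable def comAt (N : ℕ) : ℕ :=
  Nat.land (Nat.lor (Nat.xor (Nat.shiftRight N 2261) (Nat.shiftRight N 2679)) (Nat.lor (Nat.xor (Nat.shiftRight N 2242) (Nat.shiftRight N 2451)) (Nat.lor (Nat.xor (Nat.shiftRight N 2033) (Nat.shiftRight N 2660)) (Nat.lor (Nat.xor (Nat.shiftRight N 2014) (Nat.shiftRight N 2432)) (Nat.lor (Nat.xor (Nat.shiftRight N 1995) (Nat.shiftRight N 2204)) (Nat.lor (Nat.xor (Nat.shiftRight N 1805) (Nat.shiftRight N 2641)) (Nat.lor (Nat.xor (Nat.shiftRight N 1786) (Nat.shiftRight N 2413)) (Nat.lor (Nat.xor (Nat.shiftRight N 1767) (Nat.shiftRight N 2185)) (Nat.lor (Nat.xor (Nat.shiftRight N 1577) (Nat.shiftRight N 2622)) (Nat.lor (Nat.xor (Nat.shiftRight N 1558) (Nat.shiftRight N 2394)) (Nat.lor (Nat.xor (Nat.shiftRight N 1520) (Nat.shiftRight N 1938)) (Nat.lor (Nat.xor (Nat.shiftRight N 1501) (Nat.shiftRight N 1710)) (Nat.lor (Nat.xor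 (Nat.shiftRight N 1349) (Nat.shiftRight N 2603)) (Nat.lor (Nat.xor (Nat.shiftRight N 1330) (Nat.shiftRight N 2375)) (Nat.lor (Nat.xor (Nat.shiftRight N 1311) (Nat.shiftRight N 2147)) (Nat.lor (Nat.xor (Nat.shiftRight N 1292) (Nat.shiftRight N 1919)) (Nat.lor (Nat.xor (Nat.shiftRight N 1273) (Nat.shiftRight N 1691)) (Nat.lor (Nat.xor (Nat.shiftRight N 1121) (Nat.shiftRight N 2584)) (Nat.lor (Nat.xor (Nat.shiftRight N 1102) (Nat.shiftRight N 2356)) (Nat.lor (Nat.xor (Nat.shiftRight N 1083) (Nat.shiftRight N 2128)) (Nat.lor (Nat.xor (Nat.shiftRight N 1064) (Nat.shiftRight N 1900)) (Nat.lor (Nat.xor (Nat.shiftRight N 1045) (Nat.shiftRight N 1672)) (Nat.lor (Nat.xor (Nat.shiftRight N 1026) (Nat.shiftRight N 1444)) (Nat.lor (Nat.xor (Nat.shiftRight N 893) (Nat.shiftRight N 2565)) (Nat.lor (Nat.xor (Nat.shiftRight N 874) (Nat.shiftRight N 2337)) (Nat.lor (Nat.xor (Nat.shiftRight N 855) (Nat.shiftRight N 2109)) (Nat.lor (Nat.xor (Nat.shiftRight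 N 836) (Nat.shiftRight N 1881)) (Nat.lor (Nat.xor (Nat.shiftRight N 798) (Nat.shiftRight N 1425)) (Nat.lor (Nat.xor (Nat.shiftRight N 779) (Nat.shiftRight N 1197)) (Nat.lor (Nat.xor (Nat.shiftRight N 665) (Nat.shiftRight N 2546)) (Nat.lor (Nat.xor (Nat.shiftRight N 646) (Nat.shiftRight N 2318)) (Nat.lor (Nat.xor (Nat.shiftRight N 627) (Nat.shiftRight N 2090)) (Nat.lor (Nat.xor (Nat.shiftRight N 608) (Nat.shiftRight N 1862)) (Nat.lor (Nat.xor (Nat.shiftRight N 589) (Nat.shiftRight N 1634)) (Nat.lor (Nat.xor (Nat.shiftRight N 570) (Nat.shiftRight N 1406)) (Nat.lor (Nat.xor (Nat.shiftRight N 551) (Nat.shiftRight N 1178)) (Nat.lor (Nat.xor (Nat.shiftRight N 532) (Nat.shiftRight N 950)) (Nat.lor (Nat.xor (Nat.shiftRight N 437) (Nat.shiftRight N 2527)) (Nat.lor (Nat.xor (Nat.shiftRight N 418) (Nat.shiftRight N 2299)) (Nat.lor (Nat.xor (Nat.shiftRight N 399) (Nat.shiftRight N 2071)) (Nat.lor (Nat.xor (Nat.shiftRight N 380) (Nat.shiftRight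 N 1843)) (Nat.lor (Nat.xor (Nat.shiftRight N 361) (Nat.shiftRight N 1615)) (Nat.lor (Nat.xor (Nat.shiftRight N 342) (Nat.shiftRight N 1387)) (Nat.lor (Nat.xor (Nat.shiftRight N 323) (Nat.shiftRight N 1159)) (Nat.lor (Nat.xor (Nat.shiftRight N 304) (Nat.shiftRight N 931)) (Nat.lor (Nat.xor (Nat.shiftRight N 285) (Nat.shiftRight N 703)) (Nat.lor (Nat.xor (Nat.shiftRight N 190) (Nat.shiftRight N 2280)) (Nat.lor (Nat.xor (Nat.shiftRight N 171) (Nat.shiftRight N 2052)) (Nat.lor (Nat.xor (Nat.shiftRight N 152) (Nat.shiftRight N 1824)) (Nat.lor (Nat.xor (Nat.shiftRight N 133) (Nat.shiftRight N 1596)) (Nat.lor (Nat.xor (Nat.shiftRight N 114) (Nat.shiftRight N 1368)) (Nat.lor (Nat.xor (Nat.shiftRight N 95) (Nat.shiftRight N 1140)) (Nat.lor (Nat.xor (Nat.shiftRight N 76) (Nat.shiftRight N 912)) (Nat.lor (Nat.xor (Nat.shiftRight N 57) (Nat.shiftRight N 684)) (Nat.lor (Nat.xor (Nat.shiftRight N 38) (Nat.shiftRight N 456)) 0)))))))))))))))))))))))))))))))))))))))))))))))))))))))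 524287

/-- A braid at a point that is least among three. -/
noncomputable def braidAt (e N p x y : ℕ) : Bool :=
  Bool.rec true (Nat.beq (mv x (twoStep N x y)) (mv y (twoStep N y x))) (Nat.ble p (fx e x) && Nat.ble p (fx e y))

/-- The eleven braids. -/
noncomputable def braidsAt (e N p : ℕ) : Bool :=
  braidAt e N p 0 1 &&
  braidAt e N p 1 2 &&
  braidAt e N p 2 3 &&
  braidAt e N p 3 4 &&
  braidAt e N p 4 5 &&
  braidAt e N p 5 6 &&
  braidAt e N p 6 9 &&
  braidAt e N p 3 7 &&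
  braidAt e N p 7 8 &&
  braidAt e N p 0 11 &&
  braidAt e N p 10 11

/-- Walk along a word to a target. -/
noncomputable def walkW : List ℕ → ℕ → ℕ → Bool
  | [], q, t => Nat.beq q t
  | x :: w, q, t => force (mv x q) fun q' => walkW w q' t

/-- Iterate a table to a target. -/
noncomputable def iterT (f : ℕ → ℕ) : ℕ → ℕ → ℕ → Bool
  | 0, q, t => Nat.beq q t
  | k + 1, q, t => force (f q) fun q' => iterT f k q' t

/-- The tests on pairs of letters at one point. -/
noncomputable def pairsOK (p : ℕ) : Bool :=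
  force (rowF p) fun e => force (nbrs e 12) fun N =>
    rangeAt e && Nat.beq (invAt N p) 0 && Nat.beq (comAt N) 0 && braidsAt e N p

/-- The tests on long words at one point. -/
noncomputable def wordsOK (p : ℕ) : Bool :=
  Nat.ble (Nat.succ (sevF p)) 306936 && Nat.ble (Nat.succ (lonF p)) 306936 &&
    walkW [0, 1, 2, 3, 4, 5, 7] p (sevF p) && walkW [3, 2, 1, 0, 11, 10, 3, 4, 5, 6, 9, 3, 7, 8] p (lonF p) &&
    iterT sevF 9 p (mv 10 p) && iterT lonF 17 p p

/-- A test on the numbers from `s` on. -/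
noncomputable def allB (f : ℕ → Bool) : ℕ → ℕ → Bool
  | 0, _ => true
  | k + 1, s => f s && allB f k (Nat.succ s)

theorem allB_sound {f : ℕ → Bool} : ∀ {k s : ℕ}, allB f k s = true → ∀ i, s ≤ i → i < s + k → f i = true
  | 0, s, _, i, h1, h2 => absurd h2 (by omega)
  | k + 1, s, h, i, h1, h2 => by
    rw [allB, Bool.and_eq_true] at h
    rcases Nat.eq_or_lt_of_le h1 with rfl | h3
    · exact h.1
    · exact allB_sound h.2 i h3 (by omega)

end Cfsg.Lib.FiFour
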