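import Cfsg.Agent.CosetCert.Kit
import Cfsg.Agent.FiFour.SAData
import Cfsg.Agent.FiFour.Test
import Cfsg.Agent.FiFour.BlockData

/-!
Tests for the facts of the certificate that do not come from relators.
-/

set_option autoImplicit false

namespace Cfsg.Lib.FiFour.SA

open Cfsg.Lib.CosetCert
open Cfsg.Lib.ONPres (force)

/-- The image of the first base point for a name on the larger suborbit. -/
noncomputable def imA (n : ℕ) : ℕ := lookup imgT 9 40 n % 1048576

/-- The image of the second base point for a name on the larger suborbit. -/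
noncomputable def imB (n : ℕ) : ℕ := lookup imgT 9 40 n / 1048576

/-- A fact defining a name on the larger suborbit. -/
noncomputable def treeAt (i : ℕ) : Bool :=
  force (cert.eu i) fun u => force (cert.el i) fun g =>
    Nat.beq (cert.ev i) (Nat.succ i) && Nat.ble (Nat.succ u) (Nat.succ i) && Nat.ble 1 u && Nat.ble (Nat.succ g) 11 &&
      Nat.beq (lookup cert.pars 9 24 (Nat.succ i)) i && Nat.beq (imA (Nat.succ i)) (mv g (imA u)) &&
      Nat.beq (imB (Nat.succ i)) (mv g (imB u))

/-- Go back to the first name and test the point reached. -/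
noncomputable def upTest : ℕ → ℕ → ℕ → Bool
  | 0, _, _ => false
  | f + 1, n, x => bif Nat.beq n 1 then Nat.testBit blkMask x else
      force (Nat.pred n) fun i => force (cert.eu i) fun u => force (mv (cert.el i) x) fun y => upTest f u y

/-- A fact with a letter of the stabiliser between two names. -/
noncomputable def baseAt (i : ℕ) : Bool :=
  force (cert.eu i) fun u => force (cert.ev i) fun v => force (cert.el i) fun g =>
    Nat.ble 1 u && Nat.ble u 45924 && Nat.ble 1 v && Nat.ble v 45924 && Nat.ble (Nat.succ g) 11 &&
      Nat.beq (imA v) (mv g (imA u)) && upTest 80 v (mv g (imB u))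

/-- Move a point along a word and test the point reached. -/
noncomputable def walkT : List ℕ → ℕ → Bool
  | [], q => Nat.testBit blkMask q
  | x :: w, q => force (mv x q) fun q' => walkT w q'

/-- The translation of a name by a word is in the small subgroup. -/
noncomputable def sameClass (n : ℕ) (w : List ℕ) : Bool :=
  Nat.ble 1 n && Nat.ble n 45924 && walkW w.reverse (imA n) 31672 && walkT w.reverse (imB n)

/-- A fact with the special letter between two names. -/
noncomputable def kAt (i : ℕ) (d : List ℕ × List ℕ × List ℕ) : Bool :=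
  Nat.beq (cert.el i) 11 && sameClass (cert.eu i) (d.1 ++ d.2.2) && sameClass (cert.ev i) (d.2.1 ++ d.2.2) &&
    inLetters [0, 1, 2, 3, 4, 5, 7, 8, 10] d.1 && inLetters [0, 1, 2, 3, 4, 5, 7, 8, 10] d.2.1 &&
    inLetters [1, 2, 3, 4, 5, 6, 7, 8, 9] d.2.2 && walkW (11 :: (d.1 ++ 11 :: (d.2.1.reverse ++ [11]))) 0 0

end Cfsg.Lib.FiFour.SA
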