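import Cfsg.Agent.FiFour.SASound
import Cfsg.Agent.FiFour.ConjData
import Cfsg.Agent.FiTwenty.CoverFacts

/-!
The two stabilisers in the subgroup on eleven letters.
-/

set_option autoImplicit false
set_option maxRecDepth 100000

namespace Cfsg.Lib.FiFour

open Cfsg.Lib.CosetCert

attribute [local irreducible] rowF sevF lonF blkMask

theorem eleven_val {x : ℕ} (hx : x < 11) : x ∈ lamT := (show ∀ x < 11, x ∈ lamT by decide) x hx

/-- The subgroup of the eleven-letter elements kept inside by a conjugation. -/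
noncomputable def keptBy (g : Cfsg.Spor.Fi24) : Subgroup Cfsg.Spor.Fi24 :=
  lgp im lamT ⊓ (lgp im lamT).comap (MulAut.conj g).toMonoidHom

theorem mem_keptBy {g h : Cfsg.Spor.Fi24} : h ∈ keptBy g ↔ h ∈ lgp im lamT ∧ g * h * g⁻¹ ∈ lgp im lamT := by
  simp [keptBy, Subgroup.mem_inf]

theorem special_inv : (im 11)⁻¹ = im 11 := inv_eq_of_mul_eq_one_left (im_sq 11)

/-- Fixing the point of the larger suborbit is enough to be kept inside. -/
theorem kept_special {h : Cfsg.Spor.Fi24} (hh : h ∈ lgp im lamT) (hfix : h • pA = pA) :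
    im 11 * h * im 11 ∈ lgp im lamT := by
  obtain ⟨y, hy, hyA, hyC, hyk⟩ := SA.exists_extra
  let S : Subgroup (lgp im lamT) := MulAction.stabilizer (lgp im lamT) pA
  let D : Subgroup (lgp im lamT) := (lgp im lamC).subgroupOf (lgp im lamT)
  let K : Subgroup (lgp im lamT) := (keptBy (im 11)).subgroupOf (lgp im lamT) ⊓ S
  have hDK : D ≤ K := fun x hx => by
    have hxC : x.1 ∈ lgp im lamC := hx
    refine ⟨?_, ?_⟩
    · show x.1 ∈ keptBy (im 11)
      rw [mem_keptBy, special_inv]
      refine ⟨x.2, ?_⟩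
      rw [← SA.special_comm hxC, mul_assoc, im_sq, mul_one]
      exact x.2
    · exact block_fix hxC
  have hKS : K ≤ S := inf_le_right
  have hne : K ≠ D := fun e => hyC (show (⟨y, hy⟩ : lgp im lamT) ∈ D from e ▸ ⟨by
    show y ∈ keptBy (im 11)
    rw [mem_keptBy, special_inv]
    exact ⟨hy, hyk⟩, hyA⟩)
  have h3 : Nat.card S ≤ 3 * Nat.card D := by
    have h1 := Subgroup.card_mul_index S
    rw [MulAction.index_stabilizer, eleven_facts.2.1] at h1
    have h2 := Nat.mul_le_mul_left (Nat.card S) orbit_large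
    have h3 := card_block
    rw [Nat.card_congr (Subgroup.subgroupOfEquivOfLe block_le_eleven).toEquiv]
    omega
  have hKD : 2 ≤ D.relIndex K := by
    have h0 : D.relIndex K ≠ 0 := Subgroup.index_ne_zero_of_finite
    have h1 : D.relIndex K ≠ 1 := fun e => hne (le_antisymm (Subgroup.relIndex_eq_one.1 e) hDK)
    omega
  have hDS : D.relIndex S ≤ 3 := by
    have := Subgroup.card_mul_index (D.subgroupOf S)
    rw [Nat.card_congr (Subgroup.subgroupOfEquivOfLe (hDK.trans hKS)).toEquiv] at this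
    have hpos : 0 < Nat.card D := Nat.card_pos
    exact Nat.le_of_mul_le_mul_left (by rw [Subgroup.relIndex, this, mul_comm]; exact h3) hpos
  have hKS1 : K.relIndex S = 1 := by
    have e := Subgroup.relIndex_mul_relIndex D K S hDK hKS
    have h0 : K.relIndex S ≠ 0 := Subgroup.index_ne_zero_of_finite
    have := Nat.mul_le_mul_right (K.relIndex S) hKD
    omega
  have hK : (⟨h, hh⟩ : lgp im lamT) ∈ K :=
    Subgroup.relIndex_eq_one.1 hKS1 hfix
  have := (mem_keptBy.1 hK.1).2
  rwa [special_inv] at this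

/-- The four-letter word to the smaller suborbit. -/
def gWord : List ℕ := [11, 10, 0, 11]

/-- The element to the smaller suborbit. -/
noncomputable def gE : Cfsg.Spor.Fi24 := wval im gWord

/-- The point of the smaller suborbit it leads to. -/
def pQ : Pts := ⟨11590, by norm_num⟩

theorem inv_smul_moves {w : List ℕ} (hw : ∀ l ∈ w, l < 12) (p : Pts) :
    ((wval im w)⁻¹ • p : Pts).val = moves w p.val := by
  rw [moves_act hw, ← wval_reverse im (fun l _ => im_sq l), smul_pts,
    psiF_wval fun l hl => hw l (List.mem_reverse.1 hl)]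

theorem smul_moves {w : List ℕ} (hw : ∀ l ∈ w, l < 12) (p : Pts) :
    (wval im w • p : Pts).val = moves w.reverse p.val := by
  rw [← inv_smul_moves (w := w.reverse) (fun l hl => hw l (List.mem_reverse.1 hl)) p,
    wval_reverse im (fun l _ => im_sq l), inv_inv]

theorem gE_point : gE⁻¹ • p0 = pQ := Fin.ext (by
  rw [gE, inv_smul_moves (by decide)]
  show moves gWord 0 = 11590
  decide +kernel)

/-- The conjugating word of a letter. -/
def czWord (x : ℕ) : List ℕ :=
  [[1, 0], [], [1, 2], [2, 3, 1, 2], [3, 4, 2, 3, 1, 2], [4, 5, 3, 4, 2, 3, 1, 2],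
    [5, 6, 4, 5, 3, 4, 2, 3, 1, 2], [3, 7, 2, 3, 1, 2], [7, 8, 3, 7, 2, 3, 1, 2],
    [6, 9, 5, 6, 4, 5, 3, 4, 2, 3, 1, 2]].getD x [] ++ Cfsg.Lib.FiTwenty.conjWord.reverse

section
open Cfsg.Lib.FiTwenty

/-- The conjugate of the eleventh letter by a word. -/
noncomputable def tz (v : List ℕ) : Cfsg.Spor.Fi23 := wval imZ v * imZ 10 * (wval imZ v)⁻¹

theorem tz_append (u v : List ℕ) : tz (u ++ v) = wval imZ u * tz v * (wval imZ u)⁻¹ := by
  simp only [tz, FiTwenty.wval_append, mul_inv_rev, mul_assoc]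

theorem tz_base : imZ 1 = tz Cfsg.Lib.FiTwenty.conjWord.reverse := by
  obtain ⟨hc, -, -, -, -⟩ := Cfsg.Lib.FiTwenty.words_ok
  simp only [List.all_eq_true, decide_eq_true_eq] at hc
  have e := word_eq (u := conjZ) (w := [10]) (fun l hl => Nat.lt_succ_of_lt (hc l hl)) (by simp) fun p hp => by
    have := allFrom_zero conj__all hp
    rw [beq_iff_eq] at this
    rw [this]
    rfl
  have hu : ∀ l ∈ Cfsg.Lib.FiTwenty.conjWord, l < 10 := fun l hl => hc l (List.mem_append_left _ hl)
  have hrev : wval imZ Cfsg.Lib.FiTwenty.conjWord.reverse = (wval imZ Cfsg.Lib.FiTwenty.conjWord)⁻¹ :=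
    wval_reverse imZ fun l hl => imZ_sq (hu l hl)
  rw [conjZ, FiTwenty.wval_append, FiTwenty.wval_cons, hrev, show wval imZ [10] = imZ 10 by simp [wval],
    show conjMid = 1 from rfl] at e
  rw [tz, hrev, inv_inv, ← e]
  simp only [mul_assoc, inv_mul_cancel_left, inv_mul_cancel, mul_one]

theorem tz_step {x y : ℕ} (hx : x < 10) (hy : y < 10) (hb : Cfsg.Lib.FiTwenty.pairWord x y = Cfsg.Lib.FiTwenty.rpt 3 [x, y]) {v : List ℕ}
    (e : imZ x = tz v) : imZ y = tz (x :: y :: v) := by
  have hb' := good_braid hx hy hb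
  have sx : imZ x * imZ x = 1 := imZ_sq hx
  have sy : imZ y * imZ y = 1 := imZ_sq hy
  rw [show x :: y :: v = [x, y] ++ v from rfl, tz_append, ← e, FiTwenty.wval_cons, FiTwenty.wval_cons,
    FiTwenty.wval_nil, mul_one, mul_inv_rev, inv_eq_of_mul_eq_one_left sx, inv_eq_of_mul_eq_one_left sy]
  rw [imZ_low hx, imZ_low hy] at *
  calc FiTwenty.im y = FiTwenty.im x * (FiTwenty.im x * FiTwenty.im y * FiTwenty.im x) * FiTwenty.im x := by
        rw [show ∀ a b : Cfsg.Spor.Fi23, a * (a * b * a) * a = (a * a) * b * (a * a) by intros; simp only [mul_assoc],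
          sx, one_mul, mul_one]
    _ = FiTwenty.im x * (FiTwenty.im y * FiTwenty.im x * FiTwenty.im y) * FiTwenty.im x := by rw [hb']
    _ = _ := by simp only [mul_assoc]

theorem tz_letter : ∀ x < 10, imZ x = tz (czWord x) := by
  have hb : ∀ x y : ℕ, (x, y) ∈ [(1, 0), (1, 2), (2, 3), (3, 4), (4, 5), (5, 6), (6, 9), (3, 7), (7, 8)] →
      x < 10 ∧ y < 10 ∧ Cfsg.Lib.FiTwenty.pairWord x y = Cfsg.Lib.FiTwenty.rpt 3 [x, y] := by
    have key : ([(1, 0), (1, 2), (2, 3), (3, 4), (4, 5), (5, 6), (6, 9), (3, 7), (7, 8)] : List (ℕ × ℕ)).all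
        (fun q => decide (q.1 < 10 ∧ q.2 < 10) && (Cfsg.Lib.FiTwenty.pairWord q.1 q.2 == Cfsg.Lib.FiTwenty.rpt 3 [q.1, q.2])) = true := by decide +kernel
    intro x y h
    have := List.all_eq_true.1 key _ h
    simp only [Bool.and_eq_true, decide_eq_true_eq, beq_iff_eq] at this
    exact ⟨this.1.1, this.1.2, this.2⟩
  have st : ∀ x y : ℕ, (x, y) ∈ [(1, 0), (1, 2), (2, 3), (3, 4), (4, 5), (5, 6), (6, 9), (3, 7), (7, 8)] →
      ∀ {v}, imZ x = tz v → imZ y = tz (x :: y :: v) := fun x y h _ e =>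
    tz_step (hb x y h).1 (hb x y h).2.1 (hb x y h).2.2 e
  have h1 := tz_base
  have h0 := st 1 0 (by simp) h1
  have h2 := st 1 2 (by simp) h1
  have h3 := st 2 3 (by simp) h2
  have h4 := st 3 4 (by simp) h3
  have h5 := st 4 5 (by simp) h4
  have h6 := st 5 6 (by simp) h5
  have h9 := st 6 9 (by simp) h6
  have h7 := st 3 7 (by simp) h3
  have h8 := st 7 8 (by simp) h7
  intro x hx
  interval_cases x
  exacts [h0, h1, h2, h3, h4, h5, h6, h7, h8, h9]

end

/-- The generators used for the stabiliser of the point of the smaller suborbit. -/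
def keptGens : List (List ℕ) := [[2], [3], [4], [5], [6], [7], [8], [9], outWord ++ 0 :: outWord.reverse]

/-- Their conjugating words. -/
def keptConj : List (List ℕ) :=
  [czWord 2, czWord 3, czWord 4, czWord 5, czWord 6, czWord 7, czWord 8, czWord 9, outWord ++ czWord 0]

/-- The product of some of the generators. -/
def keptWord (js : List ℕ) : List ℕ := js.flatMap fun j => keptGens.getD j []

theorem targets_ok : (List.range 9).all (fun x =>
    Nat.ble (Nat.succ (targets.getD x (0, [])).1) 9 &&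
    (keptWord (targets.getD x (0, [])).2 ++ keptConj.getD (targets.getD x (0, [])).1 []).all (fun l => decide (l < 10)) &&
    (czWord 0 ++ czWord x).all (fun l => decide (l < 10)) &&
    Nat.beq (moves (keptWord (targets.getD x (0, [])).2 ++ keptConj.getD (targets.getD x (0, [])).1 []).reverse 1)
      (moves (czWord 0 ++ czWord x).reverse 1)) = true := by decide +kernel

theorem gens_ok : (keptGens.all fun w => inLetters lamN (gWord ++ (w ++ gWord.reverse)) &&
    inLetters lamM w && walkW (gWord ++ (w ++ gWord.reverse)) 0 0 || (w == [6]) || (w == [9])) = true ∧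
    inLetters lamN (gWord ++ ([10] ++ gWord.reverse)) = true ∧
    walkW (gWord ++ ([10] ++ gWord.reverse)) 0 0 = true ∧
    (lab 11 6 = 2 ∧ lab 11 9 = 2 ∧ lab 10 6 = 2 ∧ lab 10 9 = 2 ∧ lab 0 6 = 2 ∧ lab 0 9 = 2) ∧
    (outWord ++ 0 :: outWord.reverse).all (fun l => decide (l < 10)) = true := by decide +kernel

theorem ten_letters {w : List ℕ} (h : inLetters lamN w = true) : ∀ l ∈ w, l < 12 := by
  simp only [inLetters, List.all_eq_true, List.contains_iff_mem] at h
  exact fun l hl => (show ∀ x ∈ lamN, x < 12 by decide) l (h l hl)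

theorem kept_word {w : List ℕ} (hw : inLetters lamT w = true)
    (hN : inLetters lamN (gWord ++ (w ++ gWord.reverse)) = true)
    (hfix : walkW (gWord ++ (w ++ gWord.reverse)) 0 0 = true) : wval im w ∈ keptBy gE := by
  refine mem_keptBy.2 ⟨lgp_wval im hw, ?_⟩
  have e : gE * wval im w * gE⁻¹ = wval im (gWord ++ (w ++ gWord.reverse)) := by
    rw [wval_append, wval_append, wval_reverse im (fun l _ => im_sq l), ← mul_assoc, gE]
  have e0 : (gE * wval im w * gE⁻¹)⁻¹ • p0 = p0 := Fin.ext (by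
    rw [e, inv_smul_moves (ten_letters hN)]
    exact walkW_eq hfix)
  refine nine_le_eleven (stab_ten (e ▸ lgp_wval im hN) (inv_smul_eq_iff.1 e0).symm)

theorem kept_gens : ∀ j < 9, wval im (keptGens.getD j []) ∈ keptBy gE := by
  intro j hj
  obtain ⟨h, -, -, hl, -⟩ := gens_ok
  have hw := List.all_eq_true.1 h (keptGens.getD j []) (by
    rw [List.getD_eq_getElem _ _ (show j < keptGens.length from hj)]
    exact List.getElem_mem _)
  simp only [Bool.or_eq_true, Bool.and_eq_true, beq_iff_eq] at hw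
  rcases hw with (⟨⟨h1, h2⟩, h3⟩ | hw) | hw
  · refine kept_word ?_ h1 h3
    simp only [inLetters, List.all_eq_true, List.contains_iff_mem] at h2 ⊢
    exact fun l hl => (show ∀ x ∈ lamM, x ∈ lamT by decide) l (h2 l hl)
  all_goals
    rw [hw, wval_single, mem_keptBy]
    refine ⟨lgp_mem im (eleven_val (by norm_num)), ?_⟩
  · have c1 := good_im.comm (x := 11) (y := 6) (by norm_num) (by norm_num) hl.1
    have c2 := good_im.comm (x := 10) (y := 6) (by norm_num) (by norm_num) hl.2.2.1
    have c3 := good_im.comm (x := 0) (y := 6) (by norm_num) (by norm_num) hl.2.2.2.2.1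
    have e : gE * im 6 = im 6 * gE := by
      simp only [gE, gWord, wval_cons, wval_nil, mul_one, mul_assoc]
      rw [c1, ← mul_assoc (im 0), c3, mul_assoc (im 6), ← mul_assoc (im 10), c2, mul_assoc (im 6),
        ← mul_assoc (im 11), c1, mul_assoc (im 6)]
    rw [e, mul_inv_cancel_right]
    exact lgp_mem im (eleven_val (by norm_num))
  · have c1 := good_im.comm (x := 11) (y := 9) (by norm_num) (by norm_num) hl.2.1
    have c2 := good_im.comm (x := 10) (y := 9) (by norm_num) (by norm_num) hl.2.2.2.1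
    have c3 := good_im.comm (x := 0) (y := 9) (by norm_num) (by norm_num) hl.2.2.2.2.2
    have e : gE * im 9 = im 9 * gE := by
      simp only [gE, gWord, wval_cons, wval_nil, mul_one, mul_assoc]
      rw [c1, ← mul_assoc (im 0), c3, mul_assoc (im 9), ← mul_assoc (im 10), c2, mul_assoc (im 9),
        ← mul_assoc (im 11), c1, mul_assoc (im 9)]
    rw [e, mul_inv_cancel_right]
    exact lgp_mem im (eleven_val (by norm_num))

theorem kept_ten : im 10 ∈ keptBy gE := by
  obtain ⟨-, h1, h2, -, -⟩ := gens_ok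
  have := kept_word (w := [10]) (by decide) h1 h2
  rwa [wval_single] at this

theorem card_kept : 258247006617600 ≤ Nat.card (keptBy gE) := by
  let S := keptBy gE
  have hle : S ≤ lgp im lamT := inf_le_left
  let f : S →* Cfsg.Spor.Fi23 := down.comp (Subgroup.inclusion hle)
  have hfin : Finite S := Finite.of_injective _ (Subgroup.inclusion_injective hle)
  have hgen : ∀ j < 9, wval Cfsg.Lib.FiTwenty.imZ (keptGens.getD j []) ∈ f.range := by
    intro j hj
    refine ⟨⟨_, kept_gens j hj⟩, down_eq (agrees_wval ?_)⟩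
    have key : (List.range 9).all (fun j => (keptGens.getD j []).all fun l => decide (l < 10)) = true := by
      decide +kernel
    intro l hl
    exact decide_eq_true_eq.mp (List.all_eq_true.1 (List.all_eq_true.1 key j (List.mem_range.2 hj)) l hl)
  have hout : ∀ j, wval Cfsg.Lib.FiTwenty.imZ (keptGens.getD j []) ∈ f.range := fun j => by
    rcases Nat.lt_or_ge j 9 with h | h
    · exact hgen j h
    · rw [List.getD_eq_default _ _ (show keptGens.length ≤ j from h)]
      exact one_mem f.range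
  have hprod : ∀ js, wval Cfsg.Lib.FiTwenty.imZ (keptWord js) ∈ f.range := fun js => by
    induction js with
    | nil => exact one_mem f.range
    | cons j js ih =>
      rw [keptWord, List.flatMap_cons, Cfsg.Lib.FiTwenty.wval_append]
      exact mul_mem (hout j) ih
  have htz : ∀ j < 9, wval Cfsg.Lib.FiTwenty.imZ (keptGens.getD j []) = tz (keptConj.getD j []) := by
    intro j hj
    interval_cases j
    iterate 8
      show wval _ [_] = _
      rw [show ∀ x, wval Cfsg.Lib.FiTwenty.imZ [x] = Cfsg.Lib.FiTwenty.imZ x from fun x => by simp [wval]]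
      exact tz_letter _ (by norm_num)
    show wval _ (outWord ++ 0 :: outWord.reverse) = tz (outWord ++ czWord 0)
    have hl := gens_ok.2.2.2.2
    simp only [List.all_eq_true, decide_eq_true_eq] at hl
    rw [tz_append, ← tz_letter 0 (by norm_num), Cfsg.Lib.FiTwenty.wval_append, Cfsg.Lib.FiTwenty.wval_cons,
      wval_reverse _ fun l hl' => Cfsg.Lib.FiTwenty.imZ_sq (hl l (List.mem_append_left _ hl')), mul_assoc]
  have eq_of_point : ∀ {u v : List ℕ}, (∀ l ∈ u, l < 10) → (∀ l ∈ v, l < 10) →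
      moves u.reverse 1 = moves v.reverse 1 → tz u = tz v := by
    intro u v hu hv e
    have key : ∀ {w : List ℕ}, (∀ l ∈ w, l < 10) →
        emb (wval Cfsg.Lib.FiTwenty.imZ w • Cfsg.Lib.FiTwenty.p0) = wval im w • pB :=
      fun hw => (agrees_wval hw Cfsg.Lib.FiTwenty.p0).symm
    have hval : ∀ {w : List ℕ}, (∀ l ∈ w, l < 10) → (wval im w • pB : Pts).val = moves w.reverse 1 :=
      fun hw => smul_moves (fun l hl => Nat.lt_of_lt_of_le (hw l hl) (by norm_num)) pB
    have h := emb_inj ((key hu).trans ((Fin.ext (((hval hu).trans e).trans (hval hv).symm)).trans (key hv).symm))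
    have hm : (wval Cfsg.Lib.FiTwenty.imZ v)⁻¹ * wval Cfsg.Lib.FiTwenty.imZ u ∈
        lgp Cfsg.Lib.FiTwenty.imZ Cfsg.Lib.FiTwenty.lamH := by
      rw [← Cfsg.Lib.FiTwenty.stab_eq, MulAction.mem_stabilizer_iff, mul_smul, h, inv_smul_smul]
    have hc := Cfsg.Lib.FiTwenty.z_comm hm
    rw [mul_assoc] at hc
    have hc2 := eq_mul_inv_of_mul_eq (hc.trans rfl)
    unfold tz
    calc wval Cfsg.Lib.FiTwenty.imZ u * Cfsg.Lib.FiTwenty.imZ 10 * (wval Cfsg.Lib.FiTwenty.imZ u)⁻¹
        = wval Cfsg.Lib.FiTwenty.imZ v * (((wval Cfsg.Lib.FiTwenty.imZ v)⁻¹ * wval Cfsg.Lib.FiTwenty.imZ u) *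
            Cfsg.Lib.FiTwenty.imZ 10) * (wval Cfsg.Lib.FiTwenty.imZ u)⁻¹ := by simp [mul_assoc]
      _ = wval Cfsg.Lib.FiTwenty.imZ v * (Cfsg.Lib.FiTwenty.imZ 10 *
            ((wval Cfsg.Lib.FiTwenty.imZ v)⁻¹ * wval Cfsg.Lib.FiTwenty.imZ u)) * (wval Cfsg.Lib.FiTwenty.imZ u)⁻¹ := by
          rw [Cfsg.Lib.FiTwenty.z_comm hm]
      _ = _ := by simp [mul_assoc]
  let c := MulAut.conj (wval Cfsg.Lib.FiTwenty.imZ (czWord 0))
  have hsub : (lgp Cfsg.Lib.FiTwenty.imZ Cfsg.Lib.FiTwenty.lamH).map c.toMonoidHom ≤ f.range := by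
    rw [lgp, MonoidHom.map_closure, Subgroup.closure_le]
    rintro _ ⟨_, ⟨x, hx, rfl⟩, rfl⟩
    have hx9 : x < 9 := (show ∀ x ∈ Cfsg.Lib.FiTwenty.lamH, x < 9 by decide) x hx
    have ht := List.all_eq_true.1 targets_ok x (List.mem_range.2 hx9)
    simp only [Bool.and_eq_true, List.all_eq_true, decide_eq_true_eq, Nat.ble_eq] at ht
    obtain ⟨⟨⟨hj, h1⟩, h2⟩, h3⟩ := ht
    have e := eq_of_point h1 h2 (Nat.eq_of_beq_eq_true h3)
    rw [tz_append, tz_append, ← tz_letter x (by omega), ← htz _ hj] at e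
    show c (Cfsg.Lib.FiTwenty.imZ x) ∈ f.range
    rw [show c (Cfsg.Lib.FiTwenty.imZ x) = _ from MulAut.conj_apply _ _, ← e]
    exact mul_mem (mul_mem (hprod _) (hout _)) (inv_mem (hprod _))
  have h1 : 129123503308800 ≤ Nat.card f.range := by
    refine le_trans ?_ (Nat.card_le_card_of_injective _ (Subgroup.inclusion_injective hsub))
    rw [Subgroup.card_map_of_injective c.injective, Cfsg.Lib.FiTwenty.card_h]
  have h2 : Nat.card f.ker * Nat.card f.range = Nat.card S := by rw [← Subgroup.index_ker, Subgroup.card_mul_index]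
  let t : f.ker := ⟨⟨im 10, kept_ten⟩, down_eq agrees_ten⟩
  have ht : t ≠ 1 := fun e => ten_ne (congrArg (fun y : f.ker => y.1.1) e)
  haveI : Nontrivial f.ker := ⟨⟨t, 1, ht⟩⟩
  have h3 : 2 ≤ Nat.card f.ker := Finite.one_lt_card
  calc 258247006617600 = 2 * 129123503308800 := by norm_num
    _ ≤ _ := (Nat.mul_le_mul h3 h1).trans h2.le

theorem orbit_small : 31671 ≤ (MulAction.orbit (lgp im lamT) pQ).ncard := by
  haveI := Cfsg.Lib.FiTwenty.transitive
  let q : Fin 31671 := ⟨11589, by norm_num⟩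
  have hall : ∀ i, emb i ∈ MulAction.orbit (lgp im lamT) pQ := fun i => by
    obtain ⟨f, hf⟩ := MulAction.exists_smul_eq Cfsg.Spor.Fi23 q i
    obtain ⟨g, hg⟩ := down_surjective f
    refine ⟨g, ?_⟩
    show g.1 • pQ = _
    rw [show pQ = emb q from Fin.ext rfl, down_agrees g q, hg]
    exact congrArg emb hf
  let F : Fin 31671 → MulAction.orbit (lgp im lamT) pQ := fun i => ⟨emb i, hall i⟩
  have := Nat.card_le_card_of_injective F fun a b e => emb_inj (congrArg Subtype.val e)
  rwa [Nat.card_eq_fintype_card, Fintype.card_fin, Nat.card_coe_set_eq] at this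

/-- Fixing the point of the smaller suborbit is enough to be kept inside. -/
theorem kept_small {h : Cfsg.Spor.Fi24} (hh : h ∈ lgp im lamT) (hfix : h • pQ = pQ) :
    gE * h * gE⁻¹ ∈ lgp im lamT := by
  let S : Subgroup (lgp im lamT) := MulAction.stabilizer (lgp im lamT) pQ
  let K : Subgroup (lgp im lamT) := (keptBy gE).subgroupOf (lgp im lamT)
  have hKS : K ≤ S := fun x hx => by
    obtain ⟨-, hx2⟩ := mem_keptBy.1 (show x.1 ∈ keptBy gE from hx)
    have e : (gE * x.1 * gE⁻¹) • p0 = p0 := eleven_fix hx2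
    rw [mul_smul, mul_smul, gE_point, smul_eq_iff_eq_inv_smul, gE_point] at e
    exact e
  have hS : Nat.card S ≤ Nat.card K := by
    have h1 := Subgroup.card_mul_index S
    rw [MulAction.index_stabilizer, eleven_facts.2.1] at h1
    have h2 := Nat.mul_le_mul_left (Nat.card S) orbit_small
    have h3 := card_kept
    have hK : Nat.card K = Nat.card (keptBy gE) :=
      Nat.card_congr (Subgroup.subgroupOfEquivOfLe (inf_le_left : keptBy gE ≤ lgp im lamT)).toEquiv
    omega
  have e : K = S := Subgroup.eq_of_le_of_card_ge hKS hS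
  exact (mem_keptBy.1 (show (⟨h, hh⟩ : lgp im lamT) ∈ K from e ▸ (hfix : (⟨h, hh⟩ : lgp im lamT) • pQ = pQ))).2

end Cfsg.Lib.FiFour
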