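import Cfsg.Agent.FiFour.Simple
import Cfsg.Prelude.Def_SporadicB

/-!
The conjugates of the eleventh letter form a class of three-transpositions, and an element fixing the twelve
points that go with the letters is trivial.
-/

set_option autoImplicit false
set_option maxRecDepth 100000

namespace Cfsg.Lib.FiFour

open Cfsg.Lib.CosetCert

attribute [local irreducible] rowF sevF lonF blkMask

/-- The word carrying the eleventh letter to another one. -/
def carry : ℕ → List ℕ
  | 10 => []
  | 11 => [10, 11]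
  | 0 => [11, 0, 10, 11]
  | 1 => [0, 1, 11, 0, 10, 11]
  | 2 => [1, 2, 0, 1, 11, 0, 10, 11]
  | 3 => [2, 3, 1, 2, 0, 1, 11, 0, 10, 11]
  | 4 => [3, 4, 2, 3, 1, 2, 0, 1, 11, 0, 10, 11]
  | 5 => [4, 5, 3, 4, 2, 3, 1, 2, 0, 1, 11, 0, 10, 11]
  | 6 => [5, 6, 4, 5, 3, 4, 2, 3, 1, 2, 0, 1, 11, 0, 10, 11]
  | 7 => [3, 7, 2, 3, 1, 2, 0, 1, 11, 0, 10, 11]
  | 8 => [7, 8, 3, 7, 2, 3, 1, 2, 0, 1, 11, 0, 10, 11]
  | 9 => [6, 9, 5, 6, 4, 5, 3, 4, 2, 3, 1, 2, 0, 1, 11, 0, 10, 11]
  | _ => []

theorem carry_letters : ∀ x : Fin 12, ∀ l ∈ carry x.val, l < 12 := by decide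

theorem lab_adj : lab 10 11 = 3 ∧ lab 11 0 = 3 ∧ lab 0 1 = 3 ∧ lab 1 2 = 3 ∧ lab 2 3 = 3 ∧ lab 3 4 = 3 ∧
    lab 4 5 = 3 ∧ lab 5 6 = 3 ∧ lab 3 7 = 3 ∧ lab 7 8 = 3 ∧ lab 6 9 = 3 := by decide +kernel

theorem carry_step {x y : ℕ} (hx : x < 12) (hy : y < 12) (hl : lab x y = 3) {u : List ℕ}
    (h : wval im u * im 10 * (wval im u)⁻¹ = im x) :
    wval im (x :: y :: u) * im 10 * (wval im (x :: y :: u))⁻¹ = im y := by
  have hp := good_im.pair_word hx hy
  rw [pairWord, hl, wval_rpt, wval_cons, wval_single] at hp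
  have sx : (im x)⁻¹ = im x := inv_eq_of_mul_eq_one_left (im_sq x)
  have sy : (im y)⁻¹ = im y := inv_eq_of_mul_eq_one_left (im_sq y)
  have e : wval im (x :: y :: u) * im 10 * (wval im (x :: y :: u))⁻¹ =
      im x * im y * (wval im u * im 10 * (wval im u)⁻¹) * (im y)⁻¹ * (im x)⁻¹ := by
    rw [wval_cons, wval_cons]
    group
  rw [e, h, sy, sx]
  have h3 : im x * im y * im x * im y * im x * im y = 1 := by
    rw [← hp]
    simp only [pow_succ, pow_zero, one_mul, mul_assoc]
  calc im x * im y * im x * im y * im x = im x * im y * im x * im y * im x * (im y * im y) := by rw [im_sq, mul_one]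
    _ = im x * im y * im x * im y * im x * im y * im y := by simp only [mul_assoc]
    _ = im y := by rw [h3, one_mul]

theorem carry_conj : ∀ x < 12, wval im (carry x) * im 10 * (wval im (carry x))⁻¹ = im x := by
  obtain ⟨l1, l2, l3, l4, l5, l6, l7, l8, l9, l10, l11⟩ := lab_adj
  have h10 : wval im (carry 10) * im 10 * (wval im (carry 10))⁻¹ = im 10 := by
    show wval im [] * im 10 * (wval im [])⁻¹ = im 10
    rw [wval_nil, one_mul, inv_one, mul_one]
  have h11 := carry_step (by norm_num) (by norm_num) l1 h10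
  have h0 := carry_step (by norm_num) (by norm_num) l2 h11
  have h1 := carry_step (by norm_num) (by norm_num) l3 h0
  have h2 := carry_step (by norm_num) (by norm_num) l4 h1
  have h3 := carry_step (by norm_num) (by norm_num) l5 h2
  have h4 := carry_step (by norm_num) (by norm_num) l6 h3
  have h5 := carry_step (by norm_num) (by norm_num) l7 h4
  have h6 := carry_step (by norm_num) (by norm_num) l8 h5
  have h7 := carry_step (by norm_num) (by norm_num) l9 h3
  have h8 := carry_step (by norm_num) (by norm_num) l10 h7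
  have h9 := carry_step (by norm_num) (by norm_num) l11 h6
  intro x hx
  interval_cases x <;> assumption

theorem z_comm {k : Cfsg.Spor.Fi24} (hk : k ∈ lgp im lamT) : im 10 * k = k * im 10 :=
  (congrArg Subtype.val (Subgroup.mem_center_iff.1 zT_center ⟨k, hk⟩)).symm

theorem conj_same {g k : Cfsg.Spor.Fi24} (h : g • p0 = k • p0) : g * im 10 * g⁻¹ = k * im 10 * k⁻¹ := by
  have hm : k⁻¹ * g ∈ lgp im lamT := by
    rw [← stab_first, MulAction.mem_stabilizer_iff, mul_smul, h, inv_smul_smul]
  calc g * im 10 * g⁻¹ = k * ((k⁻¹ * g) * im 10) * g⁻¹ := by group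
    _ = k * (im 10 * (k⁻¹ * g)) * g⁻¹ := by rw [z_comm hm]
    _ = k * im 10 * k⁻¹ := by group

theorem conj_fix {g h : Cfsg.Spor.Fi24} (e : g • (h • p0) = h • p0) :
    Commute g (h * im 10 * h⁻¹) := by
  have := conj_same (g := g * h) (k := h) (by rw [mul_smul, e])
  show g * (h * im 10 * h⁻¹) = h * im 10 * h⁻¹ * g
  conv_rhs => rw [← this]
  group

/-- The point that goes with a letter. -/
noncomputable def letterPoint (x : ℕ) : ℕ := moves (carry x).reverse 0

/-- A word fixes the twelve points. -/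
noncomputable def fixTest (w : List ℕ) : Bool :=
  (List.range 12).all fun x => Nat.beq (moves w (letterPoint x)) (letterPoint x)

theorem central_trivial {g : Cfsg.Spor.Fi24} (h : ∀ x < 12, Commute g (im x)) (h0 : g • p0 = p0) : g = 1 := by
  have hall : ∀ k : Cfsg.Spor.Fi24, Commute g k := fun k => by
    have hk : k ∈ Subgroup.closure (im '' Set.Iio 12) := by rw [closure_im]; exact Subgroup.mem_top k
    induction hk using Subgroup.closure_induction with
    | mem _ hy => obtain ⟨x, hx, rfl⟩ := hy; exact h x hx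
    | one => exact Commute.one_right g
    | mul a b _ _ ha hb => exact ha.mul_right hb
    | inv a _ ha => exact ha.inv_right
  haveI := transitive
  refine eq_one_of_fix fun p => ?_
  obtain ⟨k, rfl⟩ := MulAction.exists_smul_eq Cfsg.Spor.Fi24 p0 p
  rw [← mul_smul, (hall k).eq, mul_smul, h0]

theorem fixTest_one {w : List ℕ} (hw : ∀ l ∈ w, l < 12) (ht : fixTest w = true) : wval im w = 1 := by
  have hfix : ∀ x < 12, wval im w • (wval im (carry x) • p0) = wval im (carry x) • p0 := fun x hx => by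
    rw [eq_comm, ← inv_smul_eq_iff]
    refine Fin.ext ?_
    rw [inv_smul_moves hw, smul_moves (carry_letters ⟨x, hx⟩)]
    exact Nat.eq_of_beq_eq_true (List.all_eq_true.1 ht x (List.mem_range.2 hx))
  refine central_trivial (fun x hx => ?_) ?_
  · rw [← carry_conj x hx]
    exact conj_fix (hfix x hx)
  · have := hfix 10 (by norm_num)
    rwa [show wval im (carry 10) = 1 from rfl, one_smul] at this

theorem fixTest_pow {w : List ℕ} {n : ℕ} (hw : ∀ l ∈ w, l < 12) (ht : fixTest (rpt n w) = true) : wval im w ^ n = 1 := by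
  rw [← wval_rpt]
  refine fixTest_one (fun l hl => ?_) ht
  rw [rpt, List.mem_flatten] at hl
  obtain ⟨u, hu, hl⟩ := hl
  exact hw l (List.eq_of_mem_replicate hu ▸ hl)

theorem near_test : fixTest (rpt 2 (10 :: (gWord.reverse ++ 10 :: gWord))) = true := by decide +kernel

theorem far_test : fixTest (rpt 3 [10, 11, 10, 11]) = true := by decide +kernel

theorem three_transp (g : Cfsg.Spor.Fi24) :
    (im 10 * (g * im 10 * g⁻¹)) ^ 2 = 1 ∨ (im 10 * (g * im 10 * g⁻¹)) ^ 3 = 1 := by
  have key : ∀ (k : Cfsg.Spor.Fi24), k ∈ lgp im lamT → ∀ (a : Cfsg.Spor.Fi24) (n : ℕ), g • p0 = (k * a⁻¹) • p0 →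
      (im 10 * (a⁻¹ * im 10 * a)) ^ n = 1 → (im 10 * (g * im 10 * g⁻¹)) ^ n = 1 := by
    intro k hk a n e h
    rw [conj_same e]
    have e2 : im 10 * (k * a⁻¹ * im 10 * (k * a⁻¹)⁻¹) = k * (im 10 * (a⁻¹ * im 10 * a)) * k⁻¹ := by
      calc im 10 * (k * a⁻¹ * im 10 * (k * a⁻¹)⁻¹) = (im 10 * k) * (a⁻¹ * im 10 * a) * k⁻¹ := by group
        _ = (k * im 10) * (a⁻¹ * im 10 * a) * k⁻¹ := by rw [z_comm hk]
        _ = k * (im 10 * (a⁻¹ * im 10 * a)) * k⁻¹ := by group
    rw [e2, conj_pow, h, mul_one, mul_inv_cancel]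
  by_cases h0 : g • p0 = p0
  · left
    rw [conj_same (k := 1) (by rw [h0, one_smul]), one_mul, inv_one, mul_one, im_sq, one_pow]
  have h0' : 1 ≤ (g • p0 : Pts).val := Nat.pos_of_ne_zero fun e => h0 (Fin.ext e)
  rcases Nat.lt_or_ge (g • p0 : Pts).val 31672 with h | h
  · left
    obtain ⟨k, -, hk0, hk⟩ := even_suborbit (p := pQ) (q := g • p0) (Or.inr
      ⟨show 1 ≤ 11590 by norm_num, show 11590 ≤ 31671 by norm_num, h0', by omega⟩)
    have hk' : k ∈ lgp im lamT := by rw [← stab_first]; exact hk0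
    refine key k hk' gE 2 (by rw [mul_smul, gE_point, hk]) ?_
    have := fixTest_pow (n := 2) (by decide) near_test
    rwa [wval_cons, wval_append, wval_cons, wval_reverse im (fun l _ => im_sq l), ← gE, ← mul_assoc gE⁻¹] at this
  · right
    obtain ⟨k, -, hk0, hk⟩ := even_suborbit (p := pA) (q := g • p0) (Or.inl ⟨le_refl 31672, h⟩)
    have hk' : k ∈ lgp im lamT := by rw [← stab_first]; exact hk0
    refine key k hk' (im 11) 3 (by rw [mul_smul, k_point, hk]) ?_
    have := fixTest_pow (n := 3) (w := [10, 11, 10, 11]) (by decide) far_test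
    rw [special_inv]
    rwa [wval_cons, wval_cons, wval_cons, wval_single, ← mul_assoc (im 11)] at this

/-- The class of the eleventh letter. -/
def transp : Set Cfsg.Spor.Fi24 := conjugatesOf (im 10)

theorem mem_transp {x : Cfsg.Spor.Fi24} : x ∈ transp ↔ ∃ g, g * im 10 * g⁻¹ = x := isConj_iff

theorem transp_class : Cfsg.IsThreeTranspositionClass transp := by
  refine ⟨⟨fun d hd => ?_, fun d hd e he => ?_⟩, ⟨im 10, IsConj.refl _, rfl⟩, ?_⟩
  · obtain ⟨g, rfl⟩ := mem_transp.1 hd
    refine orderOf_eq_prime (by rw [conj_pow, sq, im_sq, mul_one, mul_inv_cancel]) fun h => ten_ne ?_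
    rwa [mul_inv_eq_one, mul_eq_left] at h
  · obtain ⟨g, rfl⟩ := mem_transp.1 hd
    obtain ⟨k, rfl⟩ := mem_transp.1 he
    have e1 : g * im 10 * g⁻¹ * (k * im 10 * k⁻¹) =
        g * (im 10 * ((g⁻¹ * k) * im 10 * (g⁻¹ * k)⁻¹)) * g⁻¹ := by group
    rcases three_transp (g⁻¹ * k) with h | h
    · left; rw [e1, conj_pow, h, mul_one, mul_inv_cancel]
    · right; rw [e1, conj_pow, h, mul_one, mul_inv_cancel]
  · refine top_le_iff.1 (closure_im ▸ Subgroup.closure_mono ?_)
    rintro _ ⟨x, hx, rfl⟩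
    exact mem_transp.2 ⟨_, carry_conj x hx⟩

theorem centralizer_z : Subgroup.centralizer {im 10} = lgp im lamT := by
  refine le_antisymm (fun g hg => ?_) fun k hk => Subgroup.mem_centralizer_singleton_iff.2 (z_comm hk).symm
  rw [← stab_first, MulAction.mem_stabilizer_iff]
  by_contra hne
  rw [Subgroup.mem_centralizer_singleton_iff] at hg
  have hz0 : im 10 • p0 = p0 := eleven_fix (lgp_mem im (by decide))
  -- an even element of the centralizer moving the point
  obtain ⟨a, ha, hac, ham⟩ : ∃ a, a ∈ evenPart ∧ Commute a (im 10) ∧ a • p0 ≠ p0 := by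
    rcases Int.units_eq_one_or (chi g) with h | h
    · exact ⟨g, h, hg, hne⟩
    · refine ⟨g * im 10, ?_, Commute.mul_left hg (Commute.refl _), by rwa [mul_smul, hz0]⟩
      rw [evenPart, MonoidHom.mem_ker, map_mul, h, chi_im (by norm_num)]
      rfl
  let M : Subgroup evenPart := (Subgroup.centralizer {im 10}).subgroupOf evenPart
  have hM : evenStab ≤ M := fun k hk => Subgroup.mem_centralizer_singleton_iff.2 (z_comm (k := k.1) (by
    rw [← stab_first]
    exact hk)).symm
  have htop : M = ⊤ := evenStab_maximal hM fun hle =>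
    ham (hle (show (⟨a, ha⟩ : evenPart) ∈ M from Subgroup.mem_centralizer_singleton_iff.2 hac))
  obtain ⟨k, hk, he⟩ := even_transitive pA
  have hkc : k * im 10 = im 10 * k :=
    Subgroup.mem_centralizer_singleton_iff.1 (show (⟨k, hk⟩ : evenPart) ∈ M by rw [htop]; exact Subgroup.mem_top _)
  have hfix : im 10 • pA = pA := by rw [← he, ← mul_smul, ← hkc, mul_smul, hz0]
  have hv := congrArg Fin.val hfix
  rw [im_smul_val (by norm_num)] at hv
  have := ten_moves
  rw [show mv 10 31672 = 31672 from hv] at this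
  exact absurd this (by decide +kernel)

theorem card_transp : Nat.card transp = 306936 := by
  let f : Cfsg.Spor.Fi24 ⧸ lgp im lamT → transp := Quotient.lift (fun g => ⟨g * im 10 * g⁻¹, mem_transp.2 ⟨g, rfl⟩⟩)
    fun a b hab => Subtype.ext (by
      have h : a⁻¹ * b ∈ lgp im lamT := QuotientGroup.leftRel_apply.1 hab
      calc a * im 10 * a⁻¹ = a * (im 10 * (a⁻¹ * b)) * b⁻¹ := by group
        _ = a * ((a⁻¹ * b) * im 10) * b⁻¹ := by rw [z_comm h]
        _ = b * im 10 * b⁻¹ := by group)
  have hb : Function.Bijective f := by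
    constructor
    · intro x y
      induction x using QuotientGroup.induction_on with
      | H a =>
        induction y using QuotientGroup.induction_on with
        | H b =>
          intro h
          have h' : a * im 10 * a⁻¹ = b * im 10 * b⁻¹ := congrArg Subtype.val h
          refine QuotientGroup.eq.2 ?_
          rw [← centralizer_z, Subgroup.mem_centralizer_singleton_iff]
          calc a⁻¹ * b * im 10 = a⁻¹ * (b * im 10 * b⁻¹) * b := by group
            _ = a⁻¹ * (a * im 10 * a⁻¹) * b := by rw [h']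
            _ = im 10 * (a⁻¹ * b) := by group
    · rintro ⟨x, hx⟩
      obtain ⟨g, rfl⟩ := mem_transp.1 hx
      exact ⟨QuotientGroup.mk g, rfl⟩
  rw [← Nat.card_eq_of_bijective f hb, ← Subgroup.index_eq_card, index_eleven]

theorem card_evenStab : Nat.card evenStab = 4089470473293004800 := by
  haveI : MulAction.IsPretransitive evenPart Pts := ⟨fun a b => by
    obtain ⟨g, hg, ha⟩ := even_transitive a
    obtain ⟨g', hg', hb⟩ := even_transitive b
    refine ⟨⟨g', hg'⟩ * ⟨g, hg⟩⁻¹, ?_⟩
    show (g' * g⁻¹) • a = b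
    rw [mul_smul, ← ha, inv_smul_smul, hb]⟩
  have hi : evenStab.index = 306936 := by
    rw [evenStab, MulAction.index_stabilizer, MulAction.orbit_eq_univ, Set.ncard_univ, Nat.card_fin]
  have h := Subgroup.card_mul_index evenStab
  rw [hi, card_even] at h
  refine Nat.eq_of_mul_eq_mul_right (show 0 < 306936 by norm_num) (h.trans ?_)
  norm_num

theorem isFi23_evenStab : Cfsg.IsFi23 evenStab := ⟨evenStab_simple, card_evenStab⟩

theorem centralizer_transp {d : Cfsg.Spor.Fi24} (hd : d ∈ transp) :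
    Nat.card (Subgroup.centralizer ({d} : Set Cfsg.Spor.Fi24)) = 2 * 4089470473293004800 ∧
      ∃ K : Subgroup Cfsg.Spor.Fi24, K ≤ Subgroup.centralizer ({d} : Set Cfsg.Spor.Fi24) ∧ Cfsg.IsFi23 K := by
  obtain ⟨g, rfl⟩ := mem_transp.1 hd
  have e : (Subgroup.centralizer ({im 10} : Set Cfsg.Spor.Fi24)).map (MulAut.conj g).toMonoidHom =
      Subgroup.centralizer {g * im 10 * g⁻¹} := by
    ext x
    rw [Subgroup.mem_map, Subgroup.mem_centralizer_singleton_iff]
    constructor
    · rintro ⟨y, hy, rfl⟩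
      rw [Subgroup.mem_centralizer_singleton_iff] at hy
      show g * y * g⁻¹ * (g * im 10 * g⁻¹) = g * im 10 * g⁻¹ * (g * y * g⁻¹)
      rw [show g * y * g⁻¹ * (g * im 10 * g⁻¹) = g * (y * im 10) * g⁻¹ by group, hy]
      group
    · intro hx
      refine ⟨g⁻¹ * x * g, Subgroup.mem_centralizer_singleton_iff.2 ?_, by
        show g * (g⁻¹ * x * g) * g⁻¹ = x
        group⟩
      calc g⁻¹ * x * g * im 10 = g⁻¹ * (x * (g * im 10 * g⁻¹)) * g := by group
        _ = g⁻¹ * (g * im 10 * g⁻¹ * x) * g := by rw [hx]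
        _ = im 10 * (g⁻¹ * x * g) := by group
  refine ⟨?_, (evenStab.map evenPart.subtype).map (MulAut.conj g).toMonoidHom, ?_, ?_⟩
  · rw [← e, Subgroup.card_map_of_injective (MulAut.conj g).injective, centralizer_z, eleven_facts.2.1]
  · rw [← e]
    refine Subgroup.map_mono ?_
    rintro _ ⟨k, hk, rfl⟩
    rw [centralizer_z, ← stab_first]
    exact hk
  · have φ : evenStab ≃* (evenStab.map evenPart.subtype).map (MulAut.conj g).toMonoidHom :=
      (Subgroup.equivMapOfInjective _ _ evenPart.subtype_injective).trans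
        (Subgroup.equivMapOfInjective _ _ (MulAut.conj g).injective)
    haveI := evenStab_simple
    exact ⟨MulEquiv.isSimpleGroup φ.symm, (Nat.card_congr φ.symm.toEquiv).trans card_evenStab⟩

end Cfsg.Lib.FiFour
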